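import Cfsg.Agent.H8.Coprime
import Cfsg.Agent.H9.InvSylow
import Cfsg.Agent.H79.CoprimeGen
import Cfsg.Agent.H70.TwoInvol

/-!
Double transitivity for groups generated by a class of involutions each fixing exactly one point
(helper80): if some prime `p` divides the number `m` of involutions with a given fixed point, and
no such involution inverts a full `p`-part of `m` inside a `p`-subgroup fixing its point, then the
point stabilisers are transitive on the remaining points.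
-/

set_option autoImplicit false
set_option linter.style.haveILetI false
set_option linter.unusedSectionVars false

namespace H80.SE

open Subgroup
open scoped Pointwise

/-- A conjugation invariant set `J` of involutions, each fixing exactly one point `pt u`. -/
structure Ctx {G Ω : Type*} [Group G] [MulAction G Ω] (J : G → Prop) (pt : G → Ω) : Prop where
  inv : ∀ u : G, J u → orderOf u = 2
  conj : ∀ u g : G, J u → J (g * u * g⁻¹)
  mul : ∀ u v : G, J u → J v → Commute u v → u ≠ v → J (u * v)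
  fix : ∀ u : G, J u → u • pt u = pt u
  uniq : ∀ (u : G) (a : Ω), J u → u • a = a → a = pt u
  surj : ∀ a : Ω, ∃ u : G, J u ∧ pt u = a
  odd_prod : ∀ u v : G, J u → J v → pt u ≠ pt v → Odd (orderOf (u * v))
  core : ∀ a b : Ω, a ≠ b → ∃ D : Subgroup G, (∀ d ∈ D, d • a = a ∧ d • b = b) ∧
    Odd (Nat.card D) ∧ ∀ d : G, d • a = a → d • b = b → Odd (orderOf d) → d ∈ D
  swap_odd : ∀ (u i : G) (a : Ω), J u → J i → u • a ≠ a → i • a = u • a → Odd (orderOf (u * i))

variable {G Ω : Type*} [Group G] [Finite G] [MulAction G Ω] [Finite Ω] {J : G → Prop} {pt : G → Ω}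

/-- The number of elements of `J` with fixed point `a`. -/
noncomputable def mAt (J : G → Prop) (pt : G → Ω) (a : Ω) : ℕ := Nat.card {t : G // J t ∧ pt t = a}

/-- The two point stabiliser. -/
abbrev St (G : Type*) [Group G] {Ω : Type*} [MulAction G Ω] (a b : Ω) : Subgroup G :=
  MulAction.stabilizer G a ⊓ MulAction.stabilizer G b

namespace Ctx

variable (C : Ctx J pt)
include C

omit [Finite G] [Finite Ω] in
theorem sq {u : G} (hu : J u) : u * u = 1 := H70.mul_self_of_two (C.inv u hu)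

omit [Finite G] [Finite Ω] in
theorem inv_eq {u : G} (hu : J u) : u⁻¹ = u := H70.inv_eq_self_of_two (C.inv u hu)

omit [Finite G] [Finite Ω] in
theorem smul_smul_self {u : G} (hu : J u) (a : Ω) : u • u • a = a := by
  rw [← mul_smul, C.sq hu, one_smul]

omit [Finite G] [Finite Ω] in
theorem pt_conj {u : G} (hu : J u) (g : G) : pt (g * u * g⁻¹) = g • pt u := by
  refine (C.uniq _ _ (C.conj u g hu) ?_).symm
  rw [← mul_smul, inv_mul_cancel_right, mul_smul, C.fix u hu]

omit [Finite G] [Finite Ω] in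
theorem pt_eq_of_commute {u v : G} (hu : J u) (hv : J v) (h : Commute u v) : pt u = pt v := by
  refine C.uniq v _ hv ?_
  have := C.pt_conj hu v
  rw [show v * u * v⁻¹ = u by rw [← h.eq, mul_inv_cancel_right]] at this
  exact this.symm

omit [Finite Ω] in
theorem conj_in {N : Subgroup G} {u v : G} (hu : J u) (hv : J v) (huN : u ∈ N) (hvN : v ∈ N)
    (h : Odd (orderOf (u * v))) : ∃ n ∈ N, n * u * n⁻¹ = v := by
  have h2 : Odd (orderOf ((⟨u, huN⟩ : N) * ⟨v, hvN⟩)) := by rwa [← Subgroup.orderOf_coe]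
  obtain ⟨n, hn⟩ := isConj_iff.1 (H70.isConj_of_odd_prod (G := N) (x := ⟨u, huN⟩) (y := ⟨v, hvN⟩)
    (by rw [← Subgroup.orderOf_coe]; exact C.inv u hu)
    (by rw [← Subgroup.orderOf_coe]; exact C.inv v hv) h2)
  exact ⟨n, n.2, congrArg Subtype.val hn⟩

omit [Finite G] [Finite Ω] in
/-- An element of a two point stabiliser swapped by `i₂` that commutes with `t` is trivial. -/
theorem swapper_inj {a b : Ω} (hab : a ≠ b) {t i₁ i₂ : G} (ht : J t) (hta : t • a = a) (h₁ : J i₁)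
    (h₂ : J i₂) (h₁a : i₁ • a = b) (h₂a : i₂ • a = b) (hc : Commute (i₂ * i₁) t) : i₁ = i₂ := by
  by_contra hne
  set j := i₂ * i₁ with hj
  have hfa : j • a = a := by rw [hj, mul_smul, h₁a, ← h₂a, C.smul_smul_self h₂]
  have hfb : j • b = b := by rw [hj, mul_smul, ← h₁a, C.smul_smul_self h₁, h₁a, h₂a]
  have hinv : i₂ * j * i₂⁻¹ = j⁻¹ := by
    rw [hj, mul_inv_rev, C.inv_eq h₁, C.inv_eq h₂, ← mul_assoc, C.sq h₂, one_mul]
  have hpt : pt t ≠ pt i₂ := by
    intro h
    rw [← C.uniq t a ht hta] at h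
    have h' := C.fix i₂ h₂
    rw [← h, h₂a] at h'
    exact hab h'.symm
  let M : Subgroup G := {
    carrier := {e | e * j * e⁻¹ = j ∨ e * j * e⁻¹ = j⁻¹}
    one_mem' := Or.inl (by group)
    mul_mem' := by
      intro x y hx hy
      have key : x * y * j * (x * y)⁻¹ = x * (y * j * y⁻¹) * x⁻¹ := by group
      have key2 : x * j⁻¹ * x⁻¹ = (x * j * x⁻¹)⁻¹ := by group
      show _ ∨ _
      rw [key]
      rcases hy with hy | hy <;> rw [hy]
      · exact hx
      · rw [key2]
        rcases hx with hx | hx <;> rw [hx]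
        · exact Or.inr rfl
        · exact Or.inl (inv_inv j)
    inv_mem' := by
      intro x hx
      rcases hx with hx | hx
      · left
        conv_lhs => rw [← hx]
        group
      · right
        have : x * j⁻¹ * x⁻¹ = j := by
          rw [show x * j⁻¹ * x⁻¹ = (x * j * x⁻¹)⁻¹ by group, hx, inv_inv]
        conv_lhs => rw [← this]
        group }
  have htj : t * j * t⁻¹ = j := by rw [← hc.eq, mul_inv_cancel_right]
  obtain ⟨k, hk⟩ := C.odd_prod t i₂ ht h₂ hpt
  -- `i₂ = n t n⁻¹` with `n` normalising `⟨j⟩`, hence `i₂` centralises `j`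
  obtain ⟨n, hn⟩ := isConj_iff.1 (H70.isConj_of_odd_prod (G := M)
    (x := ⟨t, Or.inl htj⟩) (y := ⟨i₂, Or.inr hinv⟩)
    (by rw [← Subgroup.orderOf_coe]; exact C.inv t ht)
    (by rw [← Subgroup.orderOf_coe]; exact C.inv i₂ h₂)
    ⟨k, by rw [← Subgroup.orderOf_coe]; exact hk⟩)
  have hn' : (n : G) * t * (n : G)⁻¹ = i₂ := congrArg Subtype.val hn
  have hcj : i₂ * j * i₂⁻¹ = j := by
    rw [← hn']
    rcases n.2 with h | h
    · calc (n : G) * t * (n : G)⁻¹ * j * ((n : G) * t * (n : G)⁻¹)⁻¹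
          = (n : G) * (t * ((n : G)⁻¹ * j * n) * t⁻¹) * (n : G)⁻¹ := by group
        _ = (n : G) * (t * j * t⁻¹) * (n : G)⁻¹ := by
          rw [show (n : G)⁻¹ * j * n = j by nth_rw 1 [← h]; group]
        _ = j := by rw [htj, h]
    · calc (n : G) * t * (n : G)⁻¹ * j * ((n : G) * t * (n : G)⁻¹)⁻¹
          = (n : G) * (t * ((n : G)⁻¹ * j * n) * t⁻¹) * (n : G)⁻¹ := by group
        _ = (n : G) * (t * j⁻¹ * t⁻¹) * (n : G)⁻¹ := by
          rw [show (n : G)⁻¹ * j * n = j⁻¹ by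
            rw [show (n : G)⁻¹ * j * n = ((n : G)⁻¹ * j⁻¹ * n)⁻¹ by group]
            nth_rw 1 [← h]; group]
        _ = (n : G) * (t * j * t⁻¹)⁻¹ * (n : G)⁻¹ := by group
        _ = ((n : G) * j * (n : G)⁻¹)⁻¹ := by rw [htj]; group
        _ = j := by rw [h, inv_inv]
  have hcomm : Commute i₂ i₁ := by
    have h' : i₂ * i₁ = (i₂ * i₁)⁻¹ := by rw [← hj, ← hinv, hcj]
    show i₂ * i₁ = i₁ * i₂
    rwa [mul_inv_rev, C.inv_eq h₁, C.inv_eq h₂] at h'
  have hJj : J j := C.mul i₂ i₁ h₂ h₁ hcomm (Ne.symm hne)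
  exact hab ((C.uniq j a hJj hfa).trans (C.uniq j b hJj hfb).symm)

omit [Finite Ω] in
theorem isConj_of_ne {u v : G} (hu : J u) (hv : J v) (h : pt u ≠ pt v) : IsConj u v :=
  H70.isConj_of_odd_prod (C.inv u hu) (C.inv v hv) (C.odd_prod u v hu hv h)

omit [Finite Ω] in
theorem mAt_const [Nontrivial Ω] (a b : Ω) : mAt J pt a = mAt J pt b := by
  by_cases hab : a = b
  · rw [hab]
  obtain ⟨u, hu, hua⟩ := C.surj a
  obtain ⟨v, hv, hvb⟩ := C.surj b
  obtain ⟨g, hg⟩ := isConj_iff.1 (C.isConj_of_ne hu hv (by rw [hua, hvb]; exact hab))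
  have hgab : g • a = b := by rw [← hua, ← hvb, ← hg, C.pt_conj hu]
  refine Nat.card_congr ⟨fun t => ⟨g * t * g⁻¹, C.conj _ g t.2.1, ?_⟩,
    fun t => ⟨g⁻¹ * t * g, ?_, ?_⟩, fun t => Subtype.ext (by group), fun t => Subtype.ext (by group)⟩
  · rw [C.pt_conj t.2.1, t.2.2, hgab]
  · simpa using C.conj _ g⁻¹ t.2.1
  · have := C.pt_conj t.2.1 g⁻¹
    rw [inv_inv, t.2.2] at this
    rw [this, inv_smul_eq_iff, hgab]

omit [Finite Ω] in
theorem card_swap_le {a b : Ω} (hab : a ≠ b) :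
    Nat.card {i : G // J i ∧ i • a = b} ≤ mAt J pt a := by
  rcases isEmpty_or_nonempty {i : G // J i ∧ i • a = b} with h | ⟨⟨u, hu, hua⟩⟩
  · simp
  obtain ⟨t, ht, hta⟩ := C.surj a
  have hfix : ∀ i : G, i • a = b → (u * i) • a = a := fun i hi => by
    rw [mul_smul, hi, ← hua, C.smul_smul_self hu]
  refine Nat.card_le_card_of_injective (fun i : {i : G // J i ∧ i • a = b} =>
    (⟨(u * i.1) * t * (u * i.1)⁻¹, C.conj _ _ ht,
      by rw [C.pt_conj ht, hta]; exact hfix _ i.2.2⟩ : {t : G // J t ∧ pt t = a})) ?_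
  intro i₁ i₂ e
  have e' : (u * i₁.1) * t * (u * i₁.1)⁻¹ = (u * i₂.1) * t * (u * i₂.1)⁻¹ := congrArg Subtype.val e
  refine Subtype.ext (C.swapper_inj hab ht ((congrArg (t • ·) hta.symm).trans
    ((C.fix t ht).trans hta)) i₁.2.1 i₂.2.1 i₁.2.2 i₂.2.2 ?_)
  have hj' : i₂.1 * i₁.1 = (u * i₂.1)⁻¹ * (u * i₁.1) := by
    rw [mul_inv_rev, C.inv_eq i₂.2.1]
    group
  rw [hj']
  show (u * i₂.1)⁻¹ * (u * i₁.1) * t = t * ((u * i₂.1)⁻¹ * (u * i₁.1))
  calc (u * i₂.1)⁻¹ * (u * i₁.1) * t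
      = (u * i₂.1)⁻¹ * ((u * i₁.1) * t * (u * i₁.1)⁻¹) * (u * i₁.1) := by group
    _ = (u * i₂.1)⁻¹ * ((u * i₂.1) * t * (u * i₂.1)⁻¹) * (u * i₁.1) := by rw [e']
    _ = t * ((u * i₂.1)⁻¹ * (u * i₁.1)) := by group

/-- Any two points are exchanged by exactly `m` elements of `J`. -/
theorem card_swap [Nontrivial Ω] {a b : Ω} (hab : a ≠ b) :
    Nat.card {i : G // J i ∧ i • a = b} = mAt J pt a := by
  classical
  have : Fintype G := Fintype.ofFinite G
  have : Fintype Ω := Fintype.ofFinite Ω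
  set m := mAt J pt a with hm
  set A : Finset G := Finset.univ.filter J with hA
  have hfib : ∀ c : Ω, (A.filter (fun i => i • a = c)).card = Nat.card {i : G // J i ∧ i • a = c} := by
    intro c
    rw [Nat.card_eq_fintype_card, Fintype.card_subtype, hA, Finset.filter_filter]
  have hA1 : A.card = Fintype.card Ω * m := by
    rw [Finset.card_eq_sum_card_fiberwise (f := pt) (t := Finset.univ) (fun i _ => Finset.mem_univ _),
      Finset.sum_const_nat (m := m), Finset.card_univ]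
    intro c _
    rw [hm, C.mAt_const a c, mAt, Nat.card_eq_fintype_card, Fintype.card_subtype, hA,
      Finset.filter_filter]
  have hA2 : A.card = ∑ c, (A.filter (fun i => i • a = c)).card :=
    Finset.card_eq_sum_card_fiberwise (fun i _ => Finset.mem_univ _)
  have hle : ∀ c ∈ (Finset.univ : Finset Ω), (A.filter (fun i => i • a = c)).card ≤ m := by
    intro c _
    rw [hfib]
    by_cases hca : a = c
    · subst hca
      refine le_of_eq (Nat.card_congr (Equiv.subtypeEquivRight fun i => ?_))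
      exact ⟨fun h => ⟨h.1, (C.uniq i a h.1 h.2).symm⟩, fun h => ⟨h.1, h.2 ▸ C.fix i h.1⟩⟩
    · exact C.card_swap_le hca
  rw [← hfib]
  by_contra hne
  have h3 : ∑ c, (A.filter (fun i => i • a = c)).card < ∑ _c : Ω, m :=
    Finset.sum_lt_sum hle ⟨b, Finset.mem_univ _, lt_of_le_of_ne (hle b (Finset.mem_univ _)) hne⟩
  rw [← hA2, hA1, Finset.sum_const, Finset.card_univ, smul_eq_mul] at h3
  exact lt_irrefl _ h3

theorem exists_swap [Nontrivial Ω] {a b : Ω} (hab : a ≠ b) : ∃ i, J i ∧ i • a = b := by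
  have h := C.card_swap hab
  obtain ⟨t, ht, hta⟩ := C.surj a
  have : Nonempty {t : G // J t ∧ pt t = a} := ⟨⟨t, ht, hta⟩⟩
  have h1 : Nat.card {i : G // J i ∧ i • a = b} ≠ 0 := by rw [h]; exact Nat.card_pos.ne'
  obtain ⟨⟨i, hi⟩⟩ : Nonempty {i : G // J i ∧ i • a = b} := (Nat.card_ne_zero.mp h1).1
  exact ⟨i, hi⟩

theorem core_spec [Nontrivial Ω] {a b : Ω} (hab : a ≠ b) {u : G}
    (hu : J u) (hua : u • a = b) {D : Subgroup G} (hD1 : ∀ d ∈ D, d • a = a ∧ d • b = b)
    (hD2 : Odd (Nat.card D))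
    (hD3 : ∀ d : G, d • a = a → d • b = b → Odd (orderOf d) → d ∈ D) :
    zpowers u ≤ normalizer (D : Set G) ∧ (centralizer ({u} : Set G)).relIndex D = mAt J pt a := by
  have hub : u • b = a := by rw [← hua, C.smul_smul_self hu]
  have hconjD : ∀ d ∈ D, u * d * u⁻¹ ∈ D := by
    intro d hd
    refine hD3 _ ?_ ?_ ?_
    · rw [C.inv_eq hu, mul_smul, mul_smul, hua, (hD1 d hd).2, hub]
    · rw [C.inv_eq hu, mul_smul, mul_smul, hub, (hD1 d hd).1, hua]
    · have h : orderOf (u * d * u⁻¹) = orderOf d :=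
        orderOf_injective (MulAut.conj u).toMonoidHom (MulAut.conj u).injective d
      rw [h]
      exact hD2.of_dvd_nat (Subgroup.orderOf_dvd_natCard _ hd)
  have hnorm : zpowers u ≤ normalizer (D : Set G) := by
    rw [zpowers_le, mem_normalizer_iff]
    refine fun d => ⟨hconjD d, fun h => ?_⟩
    have := hconjD _ h
    rw [C.inv_eq hu, show u * (u * d * u) * u = (u * u) * d * (u * u) by group, C.sq hu, one_mul,
      mul_one] at this
    exact this
  refine ⟨hnorm, ?_⟩
  -- the swappers are the `D`-conjugates of `u`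
  have hswap : ∀ i, (J i ∧ i • a = b) ↔ ∃ d ∈ D, d * u * d⁻¹ = i := by
    intro i
    constructor
    · rintro ⟨hi, hia⟩
      have hj1 : (u * i) • a = a := by rw [mul_smul, hia, hub]
      have hj2 : (u * i) • (u • a) = u • a := by
        rw [hua, mul_smul, ← hia, C.smul_smul_self hi, hia, hua]
      have hodd : Odd (orderOf (u * i)) :=
        C.swap_odd u i a hu hi (hua ▸ Ne.symm hab) (hia.trans hua.symm)
      have hzu : u ∈ D ⊔ zpowers u := mem_sup_right (mem_zpowers u)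
      have hmem : u * i ∈ D := hD3 _ hj1 (hua ▸ hj2) hodd
      have hiM : i ∈ D ⊔ zpowers u := by
        have := mul_mem hzu (mem_sup_left hmem : u * i ∈ D ⊔ zpowers u)
        rwa [← mul_assoc, C.sq hu, one_mul] at this
      obtain ⟨g, hg, hgu⟩ := C.conj_in hu hi hzu hiM hodd
      have hg' : g ∈ ((zpowers u : Subgroup G) : Set G) * (D : Set G) := by
        rw [← coe_mul_of_left_le_normalizer_right _ _ hnorm, sup_comm]; exact hg
      rw [set_mul_normalizer_comm _ _ hnorm] at hg'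
      obtain ⟨d, hd, e, he, rfl⟩ := Set.mem_mul.1 hg'
      refine ⟨d, hd, ?_⟩
      rw [← hgu]
      obtain ⟨k, rfl⟩ := mem_zpowers_iff.1 he
      have : u ^ k * u * (u ^ k)⁻¹ = u := by
        rw [← zpow_add_one, ← zpow_neg, ← zpow_add, add_comm k, add_assoc, add_neg_cancel, add_zero,
          zpow_one]
      calc d * u * d⁻¹ = d * (u ^ k * u * (u ^ k)⁻¹) * d⁻¹ := by rw [this]
        _ = d * u ^ k * u * (d * u ^ k)⁻¹ := by group
    · rintro ⟨d, hd, rfl⟩
      refine ⟨C.conj u d hu, ?_⟩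
      have h1 : d⁻¹ • a = a := inv_smul_eq_iff.2 (hD1 d hd).1.symm
      rw [mul_smul, mul_smul, h1, hua, (hD1 d hd).2]
  rw [← C.card_swap hab, Subgroup.relIndex]
  refine Nat.card_congr (Equiv.ofBijective
    (fun q : D ⧸ (centralizer ({u} : Set G)).subgroupOf D => Quotient.liftOn' q
      (fun d => (⟨(d : G) * u * (d : G)⁻¹, (hswap _).2 ⟨d, d.2, rfl⟩⟩ :
        {i : G // J i ∧ i • a = b})) ?_) ⟨?_, ?_⟩)
  · intro x y hxy
    rw [QuotientGroup.leftRel_apply, mem_subgroupOf, mem_centralizer_singleton_iff] at hxy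
    push_cast at hxy
    refine Subtype.ext ?_
    show (x : G) * u * (x : G)⁻¹ = (y : G) * u * (y : G)⁻¹
    calc (x : G) * u * (x : G)⁻¹ = (x : G) * (u * ((x : G)⁻¹ * y)) * (y : G)⁻¹ := by group
      _ = (x : G) * (((x : G)⁻¹ * y) * u) * (y : G)⁻¹ := by rw [hxy]
      _ = (y : G) * u * (y : G)⁻¹ := by group
  · intro q q' h
    induction q using QuotientGroup.induction_on with | _ x => ?_
    induction q' using QuotientGroup.induction_on with | _ y => ?_
    have h' : (x : G) * u * (x : G)⁻¹ = (y : G) * u * (y : G)⁻¹ := congrArg Subtype.val h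
    refine QuotientGroup.eq.2 ?_
    rw [mem_subgroupOf, mem_centralizer_singleton_iff]
    push_cast
    calc (x : G)⁻¹ * y * u = (x : G)⁻¹ * ((y : G) * u * (y : G)⁻¹) * y := by group
      _ = (x : G)⁻¹ * ((x : G) * u * (x : G)⁻¹) * y := by rw [h']
      _ = u * ((x : G)⁻¹ * y) := by group
  · rintro ⟨i, hi⟩
    obtain ⟨d, hd, rfl⟩ := (hswap i).1 hi
    exact ⟨QuotientGroup.mk ⟨d, hd⟩, rfl⟩

end Ctx

/-- The index of `C_X(v)` in `X`. -/
noncomputable def invIdx (v : G) (X : Subgroup G) : ℕ := (centralizer ({v} : Set G)).relIndex X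

omit [Finite G] [MulAction G Ω] [Finite Ω] in
theorem invIdx_conj (v n : G) {X : Subgroup G} (hn : n ∈ normalizer (X : Set G)) :
    invIdx (n * v * n⁻¹) X = invIdx v X := by
  have h1 : (centralizer ({v} : Set G)).map (MulAut.conj n).toMonoidHom =
      centralizer ({n * v * n⁻¹} : Set G) := by
    ext x
    rw [H82.mem_map_conj_iff, mem_centralizer_singleton_iff, mem_centralizer_singleton_iff]
    constructor <;> intro h
    · calc x * (n * v * n⁻¹) = n * ((n⁻¹ * x * n) * v) * n⁻¹ := by group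
        _ = n * (v * (n⁻¹ * x * n)) * n⁻¹ := by rw [h]
        _ = n * v * n⁻¹ * x := by group
    · calc n⁻¹ * x * n * v = n⁻¹ * (x * (n * v * n⁻¹)) * n := by group
        _ = n⁻¹ * ((n * v * n⁻¹) * x) * n := by rw [h]
        _ = v * (n⁻¹ * x * n) := by group
  have h2 : X.map (MulAut.conj n).toMonoidHom = X := (mem_normalizer_iff_map_conj_eq.1 hn)
  conv_lhs => rw [invIdx, ← h1, ← h2, relIndex_map_map_of_injective _ _ (MulAut.conj n).injective]
  rfl

/-- A `p`-group `X` in a two point stabiliser normalised by a swapper inverting a full part. -/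
structure Wit (J : G → Prop) (p k : ℕ) (X : Subgroup G) (u : G) (a : Ω) : Prop where
  pgroup : IsPGroup p X
  ju : J u
  moved : u • a ≠ a
  le : X ≤ St G a (u • a)
  norm : u ∈ normalizer (X : Set G)
  idx : invIdx u X = p ^ k

/-- The standing hypotheses. -/
structure Hyp (J : G → Prop) (pt : G → Ω) (p : ℕ) : Prop where
  ctx : Ctx J pt
  prime : p.Prime
  odd : p ≠ 2
  nontriv : Nontrivial Ω
  dvd : ∀ a : Ω, p ∣ mAt J pt a
  bad : ∀ (v : G) (X : Subgroup G), J v → IsPGroup p X → (∀ x ∈ X, x • pt v = pt v) →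
    v ∈ normalizer (X : Set G) → invIdx v X ≠ p ^ (mAt J pt (pt v)).factorization p

namespace Hyp

variable {p : ℕ} (E : Hyp J pt p)
include E

/-- The exponent of the `p`-part of `m`. -/
noncomputable def expo (_ : Hyp J pt p) : ℕ :=
  open Classical in if h : Nonempty Ω then (mAt J pt (Classical.choice h)).factorization p else 0

omit [Finite Ω] in
theorem expo_eq (a : Ω) : (mAt J pt a).factorization p = E.expo := by
  haveI := E.nontriv
  rw [expo, dif_pos ⟨a⟩, E.ctx.mAt_const a]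

omit [Finite G] in
theorem odd_order_of_pgroup {X : Subgroup G} (hX : IsPGroup p X) {x : G} (hx : x ∈ X) :
    Odd (orderOf x) := by
  haveI := Fact.mk E.prime
  obtain ⟨n, hn⟩ := IsPGroup.iff_orderOf.mp hX ⟨x, hx⟩
  rw [← orderOf_mk x hx, hn]
  exact (E.prime.odd_of_ne_two E.odd).pow

theorem idx_sylow {a b : Ω} (hab : a ≠ b) {u : G} (hu : J u) (hua : u • a = b)
    {D : Subgroup G} (hD1 : ∀ d ∈ D, d • a = a ∧ d • b = b) (hD2 : Odd (Nat.card D))
    (hD3 : ∀ d : G, d • a = a → d • b = b → Odd (orderOf d) → d ∈ D) :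
    zpowers u ≤ normalizer (D : Set G) ∧
      ∀ R, H82.SylowIn p R D → u ∈ normalizer (R : Set G) → invIdx u R = p ^ E.expo := by
  haveI := Fact.mk E.prime
  haveI := E.nontriv
  have C := E.ctx
  obtain ⟨hnorm, hcard⟩ := C.core_spec hab hu hua hD1 hD2 hD3
  refine ⟨hnorm, fun R hR huR => ?_⟩
  have hA : IsPGroup 2 (zpowers u) :=
    IsPGroup.of_card (n := 1) (by rw [Nat.card_zpowers, C.inv u hu, pow_one])
  haveI : Fact (Nat.Prime 2) := ⟨Nat.prime_two⟩
  have h2D : ¬ 2 ∣ Nat.card D := fun h => Nat.not_even_iff_odd.2 hD2 (even_iff_two_dvd.2 h)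
  have hS := H8.sylowIn_centralizer hA hnorm h2D hR (zpowers_le.2 huR)
  rw [show centralizer ((zpowers u : Subgroup G) : Set G) = centralizer ({u} : Set G) by
    rw [zpowers_eq_closure, centralizer_closure]] at hS
  set Cu := centralizer ({u} : Set G)
  have e1 : Nat.card ↥(D ⊓ Cu) * Cu.relIndex D = Nat.card D := by
    rw [← inf_relIndex_left D Cu]; exact H82.card_mul_relIndex inf_le_left
  have e2 : Nat.card ↥(R ⊓ Cu) * Cu.relIndex R = Nat.card R := by
    rw [← inf_relIndex_left R Cu]; exact H82.card_mul_relIndex inf_le_left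
  have hfact : (Nat.card D).factorization p =
      (Nat.card ↥(D ⊓ Cu)).factorization p + E.expo := by
    rw [← e1, Nat.factorization_mul Nat.card_pos.ne', Finsupp.add_apply, hcard, E.expo_eq]
    rw [hcard]
    obtain ⟨t, ht, hta⟩ := C.surj a
    haveI : Nonempty {t : G // J t ∧ pt t = a} := ⟨⟨t, ht, hta⟩⟩
    exact Nat.card_pos.ne'
  rw [hR.card_eq, hS.card_eq, hfact, pow_add] at e2
  exact Nat.eq_of_mul_eq_mul_left (pow_pos E.prime.pos _) e2

/-- The `p`-groups normalised by a swapper lie in witnesses with maximal index. -/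
theorem exists_wit_ge {a : Ω} {u : G} (hu : J u) (hua : u • a ≠ a) {X : Subgroup G}
    (hX : IsPGroup p X) (hXS : X ≤ St G a (u • a)) (huX : u ∈ normalizer (X : Set G)) :
    invIdx u X ≤ p ^ E.expo ∧ ∃ D R : Subgroup G,
      (∀ d ∈ D, d • a = a ∧ d • (u • a) = u • a) ∧
      (∀ d : G, d • a = a → d • (u • a) = u • a → Odd (orderOf d) → d ∈ D) ∧
      H82.SylowIn p R D ∧ X ≤ R ∧ Wit J p E.expo R u a := by
  haveI := Fact.mk E.prime
  haveI : Fact (Nat.Prime 2) := ⟨Nat.prime_two⟩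
  obtain ⟨D, h1, h2, h3⟩ := E.ctx.core a (u • a) (Ne.symm hua)
  obtain ⟨hnorm, hidx⟩ := E.idx_sylow (Ne.symm hua) hu rfl h1 h2 h3
  have hA : IsPGroup 2 (zpowers u) :=
    IsPGroup.of_card (n := 1) (by rw [Nat.card_zpowers, E.ctx.inv u hu, pow_one])
  have h2D : ¬ 2 ∣ Nat.card D := fun h => Nat.not_even_iff_odd.2 h2 (even_iff_two_dvd.2 h)
  have hXD : X ≤ D := fun x hx => h3 x (mem_inf.1 (hXS hx)).1 (mem_inf.1 (hXS hx)).2
    (E.odd_order_of_pgroup hX hx)
  obtain ⟨R, hR, hAR, hXR⟩ :=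
    H8.exists_inv_sylowIn_ge hA hnorm h2D hX hXD (zpowers_le.2 huX)
  have huR := zpowers_le.1 hAR
  refine ⟨?_, D, R, h1, h3, hR, hXR, hR.isPGroup, hu, hua, fun x hx => ?_, huR, hidx R hR huR⟩
  · rw [← hidx R hR huR]
    refine Subgroup.relIndex_le_of_le_right hXR ?_
    exact (Nat.pos_iff_ne_zero.1 (pow_pos E.prime.pos _)) ∘ fun h => (hidx R hR huR).symm.trans h
  · exact mem_inf.2 (h1 x (hR.le hx))

theorem no_fixed {X : Subgroup G} {u : G} {a : Ω} (W : Wit J p E.expo X u a) {v : G} (hv : J v)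
    (hvX : v ∈ normalizer (X : Set G)) (hfix : ∀ x ∈ X, x • pt v = pt v) : False := by
  have hne : ∀ w : G, J w → (∀ x ∈ X, x • pt w = pt w) → w ∈ normalizer (X : Set G) →
      invIdx w X ≠ p ^ E.expo := fun w hw h1 h2 => by
    rw [← E.expo_eq (pt w)]; exact E.bad w X hw W.pgroup h1 h2
  by_cases h : pt u = pt v
  · exact hne u W.ju (h ▸ hfix) W.norm W.idx
  obtain ⟨n, hn, hnu⟩ := E.ctx.conj_in W.ju hv W.norm hvX (E.ctx.odd_prod u v W.ju hv h)
  exact hne v hv hfix hvX (by rw [← hnu, invIdx_conj u n hn]; exact W.idx)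

theorem no_commute {X : Subgroup G} {u : G} {a : Ω} (W : Wit J p E.expo X u a) {v w : G}
    (hv : J v) (hw : J w) (hvX : v ∈ normalizer (X : Set G)) (hwX : w ∈ normalizer (X : Set G))
    (hc : Commute v w) : v = w := by
  by_contra hne
  haveI := Fact.mk E.prime
  haveI : Fact (Nat.Prime 2) := ⟨Nat.prime_two⟩
  have C := E.ctx
  set A : Subgroup G := closure ({v, w} : Set G) with hA
  haveI : IsMulCommutative A := by
    refine Subgroup.isMulCommutative_closure ?_
    intro x hx y hy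
    rcases hx with rfl | rfl <;> rcases hy with rfl | rfl
    · rfl
    · exact hc.eq
    · exact hc.eq.symm
    · rfl
  have hAel : ∀ x ∈ A, x = 1 ∨ x = v ∨ x = w ∨ x = v * w := by
    intro x hx
    induction hx using closure_induction with
    | mem x hx => rcases hx with rfl | rfl <;> simp
    | one => simp
    | mul x y _ _ hx hy =>
      have e1 : w * v = v * w := hc.eq.symm
      have e2 : v * (v * w) = w := by rw [← mul_assoc, C.sq hv, one_mul]
      have e3 : v * w * w = v := by rw [mul_assoc, C.sq hw, mul_one]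
      have e4 : v * w * v = w := by rw [mul_assoc, e1, e2]
      have e5 : w * (v * w) = v := by rw [← e1, ← mul_assoc, C.sq hw, one_mul]
      have e6 : v * w * (v * w) = 1 := by rw [← mul_assoc, e4, C.sq hw]
      rcases hx with rfl | rfl | rfl | rfl <;> rcases hy with rfl | rfl | rfl | rfl <;>
        simp [C.sq hv, C.sq hw, e1, e2, e3, e4, e5, e6]
    | inv x _ hx =>
      rcases hx with rfl | rfl | rfl | rfl
      · simp
      · exact Or.inr (Or.inl (C.inv_eq hv))
      · exact Or.inr (Or.inr (Or.inl (C.inv_eq hw)))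
      · right; right; right
        rw [mul_inv_rev, C.inv_eq hv, C.inv_eq hw, hc.eq]
  have hvw := C.mul v w hv hw hc hne
  have hexp : ∀ x ∈ A, x ^ 2 = 1 := by
    intro x hx
    rcases hAel x hx with rfl | rfl | rfl | rfl
    · simp
    all_goals rw [pow_two]
    · exact C.sq hv
    · exact C.sq hw
    · exact C.sq hvw
  have hnc : ¬ IsCyclic A := by
    intro hcyc
    obtain ⟨g, hg⟩ := hcyc.exists_generator
    have hg2 : g ^ 2 = 1 := Subtype.ext (hexp g g.2)
    have hel : ∀ y : A, y = 1 ∨ y = g := by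
      intro y
      obtain ⟨k, rfl⟩ := mem_zpowers_iff.1 (hg y)
      rcases Int.even_or_odd' k with ⟨i, rfl | rfl⟩
      · left; rw [zpow_mul, zpow_ofNat, hg2, one_zpow]
      · right; rw [zpow_add, zpow_mul, zpow_ofNat, hg2, one_zpow, one_mul, zpow_one]
    have hone : ∀ {x : G}, J x → x ≠ 1 := fun {x} hx h => by
      have := C.inv x hx
      rw [h, orderOf_one] at this
      omega
    rcases hel ⟨v, subset_closure (by simp)⟩ with h | h
    · exact hone hv (congrArg Subtype.val h)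
    rcases hel ⟨w, subset_closure (by simp)⟩ with h' | h'
    · exact hone hw (congrArg Subtype.val h')
    exact hne (congrArg Subtype.val (h.trans h'.symm))
  have hAX : A ≤ normalizer (X : Set G) := by
    rw [hA, closure_le]
    rintro x (rfl | rfl)
    · exact hvX
    · exact hwX
  have hcop : (Nat.card X).Coprime 2 := by
    obtain ⟨n, hn⟩ := IsPGroup.iff_card.mp W.pgroup
    rw [hn]
    exact Nat.coprime_two_right.2 (E.prime.odd_of_ne_two E.odd).pow
  have hXe : X ≤ MulAction.stabilizer G (pt v) := by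
    refine H79.le_of_centralizers_le (p := 2) hexp hnc hAX hcop ?_
    intro x hx hx1 y hy
    have hJx : J x ∧ pt x = pt v := by
      rcases hAel x hx with rfl | rfl | rfl | rfl
      · exact absurd rfl hx1
      · exact ⟨hv, rfl⟩
      · exact ⟨hw, (C.pt_eq_of_commute hv hw hc).symm⟩
      · exact ⟨hvw, C.pt_eq_of_commute hvw hv ((Commute.refl v).mul_left hc.symm)⟩
    have hy' := mem_centralizer_singleton_iff.1 (mem_inf.1 hy).2
    have h := C.pt_conj hJx.1 y
    rw [hy', mul_inv_cancel_right, hJx.2] at h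
    exact h.symm
  exact E.no_fixed W hv hvX fun x hx => hXe hx

theorem conj_wit {X : Subgroup G} {u : G} {a : Ω} (W : Wit J p E.expo X u a) {v : G} (hv : J v)
    (hvX : v ∈ normalizer (X : Set G)) :
    invIdx v X = p ^ E.expo ∧ ∀ n : G, n ∈ normalizer (X : Set G) → Commute v (n * v * n⁻¹) →
      n * v * n⁻¹ = v := by
  refine ⟨?_, fun n hn h => (E.no_commute W hv (E.ctx.conj v n hv) hvX
    (mul_mem (mul_mem hn hvX) (inv_mem hn)) h).symm⟩
  by_cases h : pt u = pt v
  · -- conjugate `v` to an element with another fixed point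
    obtain ⟨n, hn, hnb⟩ : ∃ n ∈ normalizer (X : Set G), n • pt v ≠ pt v := by
      by_contra hcon
      push Not at hcon
      exact E.no_fixed W hv hvX fun x hx => hcon x (le_normalizer hx)
    have h1 := E.ctx.conj v n hv
    have h1X : n * v * n⁻¹ ∈ normalizer (X : Set G) := mul_mem (mul_mem hn hvX) (inv_mem hn)
    have h2 : pt u ≠ pt (n * v * n⁻¹) := by rw [E.ctx.pt_conj hv, h]; exact Ne.symm hnb
    obtain ⟨n', hn', e1⟩ := E.ctx.conj_in W.ju h1 W.norm h1X (E.ctx.odd_prod _ _ W.ju h1 h2)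
    have e2 : (n⁻¹ * n') * u * (n⁻¹ * n')⁻¹ = v := by
      rw [show (n⁻¹ * n') * u * (n⁻¹ * n')⁻¹ = n⁻¹ * (n' * u * n'⁻¹) * n by group, e1]; group
    rw [← e2, invIdx_conj u _ (mul_mem (inv_mem hn) hn')]
    exact W.idx
  · obtain ⟨n, hn, hnu⟩ := E.ctx.conj_in W.ju hv W.norm hvX (E.ctx.odd_prod u v W.ju hv h)
    rw [← hnu, invIdx_conj u n hn]; exact W.idx

omit [Finite Ω] in
theorem orderOf_eq_two_mul {y : G} {a : Ω} {O : Subgroup G} (hO : Odd (Nat.card O)) (hy : y * y ∈ O)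
    (hmove : y • a ≠ a) (hfix : (y * y) • a = a) :
    ∃ o : ℕ, Odd o ∧ orderOf (y ^ o) = 2 ∧ y ^ o • a = y • a := by
  set o := orderOf (y * y)
  have ho : Odd o := hO.of_dvd_nat (Subgroup.orderOf_dvd_natCard _ hy)
  obtain ⟨k, hk⟩ := ho
  have hsm : y ^ o • a = y • a := by
    rw [hk, pow_succ', mul_smul, pow_mul, sq]
    have : ∀ j : ℕ, (y * y) ^ j • a = a := fun j => by
      induction j with
      | zero => simp
      | succ j ih => rw [pow_succ, mul_smul, hfix, ih]
    rw [this]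
  refine ⟨o, ⟨k, hk⟩, orderOf_eq_prime ?_ ?_, hsm⟩
  · rw [← pow_mul, mul_comm, pow_mul, sq]; exact pow_orderOf_eq_one _
  · intro h
    rw [h, one_smul] at hsm
    exact hmove hsm.symm

/-- Two fixed points of a witness not exchanged inside its normaliser are fixed by a larger
normalising `p`-subgroup. -/
theorem grow {X : Subgroup G} {u : G} {a : Ω} (W : Wit J p E.expo X u a) {a₁ a₂ : Ω} (h12 : a₁ ≠ a₂)
    (hX1 : X ≤ St G a₁ a₂) (hns : ∀ v, J v → v ∈ normalizer (X : Set G) → v • a₁ ≠ a₂) :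
    ∃ X' : Subgroup G, IsPGroup p X' ∧ X < X' ∧ X' ≤ normalizer (X : Set G) ∧ X' ≤ St G a₁ a₂ := by
  haveI := Fact.mk E.prime
  haveI := E.nontriv
  have C := E.ctx
  obtain ⟨D, h1, h2, h3⟩ := C.core a₁ a₂ h12
  obtain ⟨i, hi, hia⟩ := C.exists_swap h12
  obtain ⟨hnorm, -⟩ := E.idx_sylow h12 hi hia h1 h2 h3
  have hiD : i ∈ normalizer (D : Set G) := zpowers_le.1 hnorm
  have hXD : X ≤ D := fun x hx => h3 x (mem_inf.1 (hX1 hx)).1 (mem_inf.1 (hX1 hx)).2
    (E.odd_order_of_pgroup W.pgroup hx)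
  obtain ⟨Q, hQ, hXQ⟩ := H82.exists_sylowIn_ge W.pgroup hXD
  by_cases heq : X = Q
  · exfalso
    subst heq
    have hQi := hQ.map_equiv i
    replace hQi : H82.SylowIn p (X.map (MulAut.conj i).toMonoidHom) D :=
      (mem_normalizer_iff_map_conj_eq.1 hiD : D.map (MulAut.conj i).toMonoidHom = D) ▸ hQi
    obtain ⟨e, he, hee⟩ := hQi.exists_conj hQ
    rw [← H82.map_conj_mul] at hee
    have hyX : e * i ∈ normalizer (X : Set G) := mem_normalizer_iff_map_conj_eq.2 hee
    have hya : (e * i) • a₁ = a₂ := by rw [mul_smul, hia, (h1 e he).2]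
    have hyy : e * i * (e * i) ∈ D := by
      have : e * (i * e * i⁻¹) ∈ D := mul_mem he ((mem_normalizer_iff.1 hiD e).1 he)
      rwa [C.inv_eq hi, ← mul_assoc, show e * (i * e) * i = e * i * (e * i) by group] at this
    obtain ⟨o, ho, hord, hsm⟩ := E.orderOf_eq_two_mul h2 hyy (by rw [hya]; exact Ne.symm h12)
      (h1 _ hyy).1
    set y := (e * i) ^ o
    have hy : y • a₁ = a₂ := hsm.trans hya
    have hy2 : y • a₂ = a₁ := by
      rw [← hy, ← mul_smul, H70.mul_self_of_two hord, one_smul]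
    have hiy : (i * y) • a₁ = a₁ ∧ (i * y) • a₂ = a₂ := by
      have hia2 : i • a₂ = a₁ := by rw [← hia, C.smul_smul_self hi]
      exact ⟨by rw [mul_smul, hy, hia2], by rw [mul_smul, hy2, hia]⟩
    have hodd : Odd (orderOf (i * y)) := by
      -- `i * y` lies in `D`, as `y ∈ D * i`
      obtain ⟨k, rfl⟩ := ho
      refine h2.of_dvd_nat (Subgroup.orderOf_dvd_natCard _ ?_)
      have hpow : (e * i * (e * i)) ^ k * e ∈ D := mul_mem (pow_mem hyy k) he
      have e1 : (e * i) ^ (2 * k + 1) = (e * i * (e * i)) ^ k * e * i := by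
        rw [pow_succ, pow_mul, sq, mul_assoc ((e * i * (e * i)) ^ k)]
      have := (mem_normalizer_iff.1 hiD _).1 hpow
      rw [C.inv_eq hi, mul_assoc i _ i, ← e1] at this
      exact this
    obtain ⟨g, hg⟩ := isConj_iff.1 (H70.isConj_of_odd_prod (C.inv i hi) hord hodd)
    exact hns y (hg ▸ C.conj i g hi) (pow_mem hyX o) hy
  obtain ⟨c, hcQ, hcX, hcN⟩ := H65.exists_normalizing_not_mem hQ.isPGroup hXQ heq
  refine ⟨X ⊔ zpowers c, hQ.isPGroup.to_le (sup_le hXQ (zpowers_le.2 hcQ)),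
    lt_of_le_of_ne le_sup_left fun h => hcX ?_, sup_le le_normalizer (zpowers_le.2 hcN),
    (sup_le hXQ (zpowers_le.2 hcQ)).trans fun x hx => mem_inf.2 (h1 x (hQ.le hx))⟩
  exact h ▸ mem_sup_right (mem_zpowers c)

/-- Three fixed points of a witness are not pairwise exchanged in its normaliser. -/
theorem exists_unswapped {X : Subgroup G} {u : G} {a : Ω} (W : Wit J p E.expo X u a) {c : Ω}
    (hcX : ∀ x ∈ X, x • c = c) (hca : c ≠ a) (hcb : c ≠ u • a) :
    ∃ a₁ a₂ : Ω, a₁ ≠ a₂ ∧ X ≤ St G a₁ a₂ ∧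
      ∀ v, J v → v ∈ normalizer (X : Set G) → v • a₁ ≠ a₂ := by
  by_contra hcon
  push Not at hcon
  have C := E.ctx
  have hfa : ∀ x ∈ X, x • a = a := fun x hx => (mem_inf.1 (W.le hx)).1
  have hfb : ∀ x ∈ X, x • (u • a) = u • a := fun x hx => (mem_inf.1 (W.le hx)).2
  obtain ⟨v, hv, hvX, hvs⟩ := hcon (u • a) c (Ne.symm hcb)
    fun x hx => mem_inf.2 ⟨hfb x hx, hcX x hx⟩
  obtain ⟨w, hw, hwX, hws⟩ := hcon c a hca fun x hx => mem_inf.2 ⟨hcX x hx, hfa x hx⟩
  -- the involution `u` is isolated in the normaliser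
  set N := normalizer (X : Set G)
  have hiso : Cfsg.IsIsolatedInvolution (⟨u, W.norm⟩ : N) := by
    refine ⟨by rw [← Subgroup.orderOf_coe]; exact C.inv u W.ju, fun g hg => Subtype.ext ?_⟩
    exact (E.conj_wit W W.ju W.norm).2 g g.2 (congrArg Subtype.val hg.eq)
  set O := Cfsg.pPrimeCore 2 N
  haveI : O.Normal := H1.pPrimeCore_normal' 2 N
  have hOodd : Odd (Nat.card O) := Nat.coprime_two_right.mp (H1.card_pPrimeCore_coprime 2 N)
  set π := QuotientGroup.mk' O
  set u' : N := ⟨u, W.norm⟩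
  have hcomm : ∀ g : N, π u' * π g = π g * π u' := by
    intro g
    have h : π (u' * g * u'⁻¹ * g⁻¹) = 1 := (QuotientGroup.eq_one_iff _).2 (H85.zStar hiso g)
    simp only [map_mul, map_inv, mul_inv_eq_one] at h
    exact mul_inv_eq_iff_eq_mul.1 h
  have himg : ∀ t : G, J t → ∀ ht : t ∈ N, π ⟨t, ht⟩ = π u' := by
    intro t ht htN
    by_cases h : pt u = pt t
    · obtain ⟨n, hn, hnb⟩ : ∃ n ∈ N, n • pt t ≠ pt t := by
        by_contra hcon'
        push Not at hcon'
        exact E.no_fixed W ht htN fun x hx => hcon' x (le_normalizer hx)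
      have h1N : n * t * n⁻¹ ∈ N := mul_mem (mul_mem hn htN) (inv_mem hn)
      obtain ⟨n', hn', e⟩ := C.conj_in W.ju (C.conj t n ht) W.norm h1N
        (C.odd_prod _ _ W.ju (C.conj t n ht) (by rw [C.pt_conj ht, h]; exact Ne.symm hnb))
      have e' : (⟨t, htN⟩ : N) = ⟨n⁻¹ * n', mul_mem (inv_mem hn) hn'⟩ * u' *
          (⟨n⁻¹ * n', mul_mem (inv_mem hn) hn'⟩ : N)⁻¹ := by
        refine Subtype.ext ?_
        show t = n⁻¹ * n' * u * (n⁻¹ * n')⁻¹
        rw [show n⁻¹ * n' * u * (n⁻¹ * n')⁻¹ = n⁻¹ * (n' * u * n'⁻¹) * n by group, e]; group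
      rw [e', map_mul, map_mul, map_inv, ← hcomm, mul_inv_cancel_right]
    · obtain ⟨n, hn, e⟩ := C.conj_in W.ju ht W.norm htN (C.odd_prod _ _ W.ju ht h)
      have e' : (⟨t, htN⟩ : N) = ⟨n, hn⟩ * u' * (⟨n, hn⟩ : N)⁻¹ := Subtype.ext e.symm
      rw [e', map_mul, map_mul, map_inv, ← hcomm, mul_inv_cancel_right]
  set y : N := ⟨w, hwX⟩ * ⟨v, hvX⟩ * u' with hy
  have hu2 : π u' * π u' = 1 := by
    rw [← map_mul, show u' * u' = 1 from Subtype.ext (C.sq W.ju), map_one]
  have hyu : π y = π u' := by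
    rw [hy, map_mul, map_mul, himg w hw hwX, himg v hv hvX, hu2, one_mul]
  have hyy : y * y ∈ O := (QuotientGroup.eq_one_iff _).1 (show π (y * y) = 1 by rw [map_mul, hyu, hu2])
  set o := orderOf (y * y)
  have ho : Odd o := hOodd.of_dvd_nat (Subgroup.orderOf_dvd_natCard _ hyy)
  have hfix : (y : G) • a = a := by
    show (w * v * u) • a = a
    rw [mul_smul, mul_smul, hvs, hws]
  have hyo : π (y ^ o) = π u' := by
    obtain ⟨k, hk⟩ := ho
    rw [map_pow, hyu, hk, pow_succ, pow_mul, sq, hu2, one_pow, one_mul]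
  have hne : y ^ o ≠ 1 := by
    intro h
    rw [h, map_one] at hyo
    have : u' ∈ O := (QuotientGroup.eq_one_iff _).1 hyo.symm
    have h2 := hOodd.of_dvd_nat (Subgroup.orderOf_dvd_natCard _ this)
    rw [hiso.1] at h2
    exact Nat.not_odd_iff_even.2 even_two h2
  have hord : orderOf (y ^ o) = 2 := orderOf_eq_prime
    (by rw [← pow_mul, mul_comm, pow_mul, sq]; exact pow_orderOf_eq_one _) hne
  have hodd : Odd (orderOf (u' * y ^ o)) := by
    refine hOodd.of_dvd_nat (Subgroup.orderOf_dvd_natCard _ ((QuotientGroup.eq_one_iff _).1 ?_))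
    show π (u' * y ^ o) = 1
    rw [map_mul, hyo, hu2]
  obtain ⟨g, hg⟩ := isConj_iff.1 (H70.isConj_of_odd_prod hiso.1 hord hodd)
  have hJ : J ((y ^ o : N) : G) := by
    rw [← hg]; exact C.conj u g W.ju
  have hfa' : ((y ^ o : N) : G) • a = a := by
    rw [SubgroupClass.coe_pow]
    exact smul_pow_fix hfix o
  exact E.no_fixed W hJ (y ^ o).2 fun x hx => by
    rw [← C.uniq _ a hJ hfa']; exact hfa x hx
where
  smul_pow_fix {g : G} {b : Ω} (h : g • b = b) : ∀ n : ℕ, g ^ n • b = b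
    | 0 => by simp
    | n + 1 => by rw [pow_succ, mul_smul, h, smul_pow_fix h n]

/-- If every `p`-subgroup fixes a point, no witness fixes a third point. -/
theorem no_third (hfix : ∀ T : Subgroup G, IsPGroup p T → ∃ b : Ω, ∀ x ∈ T, x • b = b)
    {X : Subgroup G} {u : G} {a : Ω} (W : Wit J p E.expo X u a) {c : Ω}
    (hcX : ∀ x ∈ X, x • c = c) (hca : c ≠ a) (hcb : c ≠ u • a) : False := by
  classical
  haveI := Fact.mk E.prime
  have C := E.ctx
  obtain ⟨X₀, ⟨u₀, a₀, c₀, hW, hc₀, hc₀a, hc₀b⟩, hmax⟩ :=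
    Set.Finite.exists_maximalFor (fun Y : Subgroup G => Nat.card Y)
      {Y : Subgroup G | ∃ u a c, Wit J p E.expo Y u a ∧ (∀ x ∈ Y, x • c = c) ∧ c ≠ a ∧ c ≠ u • a}
      (Set.toFinite _) ⟨X, u, a, c, W, hcX, hca, hcb⟩
  obtain ⟨a₁, a₂, h12, hX12, hns⟩ := E.exists_unswapped hW hc₀ hc₀a hc₀b
  obtain ⟨X', hX'p, hlt, hX'N, hX'S⟩ := E.grow hW h12 hX12 hns
  set N := normalizer (X₀ : Set G)
  obtain ⟨T, hT, hX'T⟩ := H82.exists_sylowIn_ge hX'p hX'N
  have hXT : X₀ ≤ T := hlt.le.trans hX'T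
  -- some involution of `N` normalises `T`
  obtain ⟨v, hv, hvN, hvT⟩ : ∃ v, J v ∧ v ∈ N ∧ v ∈ normalizer (T : Set G) := by
    have hiso : Cfsg.IsIsolatedInvolution (⟨u₀, hW.norm⟩ : N) := by
      refine ⟨by rw [← Subgroup.orderOf_coe]; exact C.inv u₀ hW.ju, fun g hg => Subtype.ext ?_⟩
      exact (E.conj_wit hW hW.ju hW.norm).2 g g.2 (congrArg Subtype.val hg.eq)
    obtain ⟨P, hP⟩ := Cfsg.Agent.H9.isolated_exists_invariant_sylow (p := p) hiso
    have hPT := H82.sylowIn_of_sylow P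
    obtain ⟨n, hn, hnT⟩ := hPT.exists_conj hT
    refine ⟨n * u₀ * n⁻¹, C.conj _ _ hW.ju, mul_mem (mul_mem hn hW.norm) (inv_mem hn), ?_⟩
    have hu : u₀ ∈ normalizer (((P : Subgroup N).map N.subtype : Subgroup G) : Set G) :=
      le_normalizer_map N.subtype ⟨⟨u₀, hW.norm⟩, hP, rfl⟩
    rw [mem_normalizer_iff]
    intro x
    rw [← hnT, H82.mem_map_conj_iff, H82.mem_map_conj_iff, mem_normalizer_iff.1 hu]
    exact Iff.of_eq (congrArg (· ∈ (P : Subgroup N).map N.subtype) (by group))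
  obtain ⟨b₁, hb₁⟩ := hfix T hT.isPGroup
  have hb2 : ∀ x ∈ T, x • (v • b₁) = v • b₁ := by
    intro x hx
    have h : v⁻¹ * x * v ∈ T := by
      have := (mem_normalizer_iff.1 (inv_mem hvT) x).1 hx
      rwa [inv_inv] at this
    have h2 := hb₁ _ h
    rw [mul_smul, mul_smul, inv_smul_eq_iff] at h2
    exact h2
  have hb12 : v • b₁ ≠ b₁ := by
    intro h
    exact E.no_fixed hW hv hvN fun x hx => by
      rw [← C.uniq v b₁ hv h]; exact hb₁ x (hXT hx)
  have hidxX := (E.conj_wit hW hv hvN).1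
  have hTidx := (E.exists_wit_ge hv hb12 hT.isPGroup (fun x hx => mem_inf.2 ⟨hb₁ x hx, hb2 x hx⟩) hvT).1
  set Cv := centralizer ({v} : Set G)
  have hle : Cv.relIndex X₀ ≤ Cv.relIndex T :=
    Subgroup.relIndex_le_of_le_right hXT (FiniteIndex.index_ne_zero)
  have heq : Cv.relIndex X₀ = Cv.relIndex T := le_antisymm hle (hTidx.trans_eq hidxX.symm)
  -- every element of `T` is an element of `X₀` times one commuting with `v`
  have hsplit : ∀ t ∈ T, ∃ x ∈ X₀, x⁻¹ * t ∈ Cv := by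
    intro t ht
    let f := quotientSubgroupOfEmbeddingOfLE Cv hXT
    have hb := f.injective.bijective_of_nat_card_le (by
      rw [← index_eq_card, ← index_eq_card]; exact heq.ge)
    obtain ⟨q, hq⟩ := hb.2 (QuotientGroup.mk ⟨t, ht⟩)
    induction q using QuotientGroup.induction_on with | _ x => ?_
    have hq' : (QuotientGroup.mk (Subgroup.inclusion hXT x) : T ⧸ Cv.subgroupOf T) =
        QuotientGroup.mk ⟨t, ht⟩ := hq
    exact ⟨x, x.2, mem_subgroupOf.1 (QuotientGroup.eq.1 hq')⟩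
  have hvX' : v ∈ normalizer (X' : Set G) := by
    have key : ∀ t ∈ X', v * t * v⁻¹ ∈ X' := by
      intro t ht
      obtain ⟨x, hx, hxt⟩ := hsplit t (hX'T ht)
      have h1 : v * (x⁻¹ * t) * v⁻¹ = x⁻¹ * t := by
        rw [← mem_centralizer_singleton_iff.1 hxt, mul_inv_cancel_right]
      have h2 : v * x * v⁻¹ ∈ X' := hlt.le ((mem_normalizer_iff.1 hvN x).1 hx)
      have h3 : x⁻¹ * t ∈ X' := mul_mem (inv_mem (hlt.le hx)) ht
      rw [show v * t * v⁻¹ = (v * x * v⁻¹) * (v * (x⁻¹ * t) * v⁻¹) by group, h1]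
      exact mul_mem h2 h3
    rw [mem_normalizer_iff]
    refine fun t => ⟨key t, fun h => ?_⟩
    have := key _ h
    rw [C.inv_eq hv, show v * (v * t * v) * v = (v * v) * t * (v * v) by group, C.sq hv, one_mul,
      mul_one] at this
    exact this
  have hW' : Wit J p E.expo X' v b₁ :=
    ⟨hX'p, hv, hb12, fun x hx => mem_inf.2 ⟨hb₁ x (hX'T hx), hb2 x (hX'T hx)⟩, hvX', by
      refine le_antisymm ?_ ?_
      · exact (E.exists_wit_ge hv hb12 hX'p
          (fun x hx => mem_inf.2 ⟨hb₁ x (hX'T hx), hb2 x (hX'T hx)⟩) hvX').1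
      · rw [← hidxX]
        exact Subgroup.relIndex_le_of_le_right hlt.le (FiniteIndex.index_ne_zero)⟩
  obtain ⟨c', hc', hc'1, hc'2⟩ : ∃ c', (∀ x ∈ X', x • c' = c') ∧ c' ≠ b₁ ∧ c' ≠ v • b₁ := by
    by_contra hcon
    push Not at hcon
    have h1 := hcon a₁ (fun x hx => (mem_inf.1 (hX'S hx)).1)
    have h2 := hcon a₂ (fun x hx => (mem_inf.1 (hX'S hx)).2)
    rcases eq_or_ne a₁ b₁ with h | h
    · rcases eq_or_ne a₂ b₁ with h' | h'
      · exact h12 (h.trans h'.symm)
      · exact hns v hv hvN (by rw [h, h2 h'])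
    · have e1 := h1 h
      rcases eq_or_ne a₂ b₁ with h' | h'
      · exact hns v hv hvN (by rw [e1, C.smul_smul_self hv, h'])
      · exact h12 (e1.trans (h2 h').symm)
  have h5 := hmax (j := X') ⟨v, b₁, c', hW', hc', hc'1, hc'2⟩ (Subgroup.card_le_of_le hlt.le)
  exact hlt.ne (eq_of_le_of_card_ge hlt.le h5)

/-- A witness that is a Sylow subgroup of its two point stabiliser and fixes only two points is a
Sylow subgroup of both point stabiliser and group. -/
theorem sylow_of_two {X : Subgroup G} {u : G} {a : Ω} (W : Wit J p E.expo X u a)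
    (hmax : ∀ Y : Subgroup G, IsPGroup p Y → X ≤ Y → Y ≤ St G a (u • a) → Y = X)
    (htwo : ∀ c, (∀ x ∈ X, x • c = c) → c = a ∨ c = u • a) :
    ∀ Y : Subgroup G, IsPGroup p Y → X ≤ Y → Y = X := by
  haveI := Fact.mk E.prime
  intro Y hY hXY
  by_contra hne
  obtain ⟨c, hcY, hcX, hcN⟩ := H65.exists_normalizing_not_mem hY hXY (Ne.symm hne)
  have hperm : ∀ d : Ω, (∀ x ∈ X, x • d = d) → ∀ x ∈ X, x • (c • d) = c • d := by
    intro d hd x hx
    have h : c⁻¹ * x * c ∈ X := by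
      have := (mem_normalizer_iff.1 (inv_mem hcN) x).1 hx
      rwa [inv_inv] at this
    have h2 := hd _ h
    rw [mul_smul, mul_smul, inv_smul_eq_iff] at h2
    exact h2
  have hab : ∀ x ∈ X, x • a = a ∧ x • (u • a) = u • a := fun x hx => mem_inf.1 (W.le hx)
  have hca : c • a = a := by
    rcases htwo _ (hperm a fun x hx => (hab x hx).1) with h | h
    · exact h
    exfalso
    rcases htwo _ (hperm (u • a) fun x hx => (hab x hx).2) with h' | h'
    · obtain ⟨k, hk⟩ := E.odd_order_of_pgroup hY hcY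
      have e : c ^ (2 * k + 1) • a = c • a := by
        rw [pow_succ', mul_smul, pow_mul, sq]
        congr 1
        clear hk
        induction k with
        | zero => simp
        | succ k ih => rw [pow_succ, mul_smul, mul_smul, h, h', ih]
      rw [← hk, pow_orderOf_eq_one, one_smul, h] at e
      exact W.moved e.symm
    · exact W.moved ((smul_left_cancel c (h'.trans h.symm)))
  have hcb : c • (u • a) = u • a := by
    rcases htwo _ (hperm (u • a) fun x hx => (hab x hx).2) with h' | h'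
    · exact absurd (smul_left_cancel c (h'.trans hca.symm)) W.moved
    · exact h'
  have := hmax (X ⊔ zpowers c) (hY.to_le (sup_le hXY (zpowers_le.2 hcY))) le_sup_left
    (sup_le W.le (zpowers_le.2 (mem_inf.2 ⟨hca, hcb⟩)))
  exact hcX (this ▸ mem_sup_right (mem_zpowers c))

theorem fix_point (T : Subgroup G) (hT : IsPGroup p T) : ∃ b : Ω, ∀ x ∈ T, x • b = b := by
  classical
  haveI := Fact.mk E.prime
  haveI := E.nontriv
  have C := E.ctx
  obtain ⟨a, b, hab⟩ := exists_pair_ne Ω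
  obtain ⟨u, hu, hua⟩ := C.exists_swap hab
  obtain ⟨-, D, R, -, -, -, -, W⟩ := E.exists_wit_ge (X := ⊥) (a := a) hu (hua ▸ Ne.symm hab)
    IsPGroup.of_bot bot_le (by rw [mem_normalizer_iff]; intro x; simp)
  obtain ⟨X, ⟨u, a, hW⟩, hmax⟩ := Set.Finite.exists_maximalFor (fun Y : Subgroup G => Nat.card Y)
    {Y : Subgroup G | ∃ u a, Wit J p E.expo Y u a} (Set.toFinite _) ⟨R, u, a, W⟩
  have hbig : ∀ (u' : G) (a' : Ω) (Y : Subgroup G), J u' → u' • a' ≠ a' → IsPGroup p Y →
      X ≤ Y → Y ≤ St G a' (u' • a') → Y = X := by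
    intro u' a' Y hu' hne hY hXY hYS
    obtain ⟨D, h1, h2, h3⟩ := C.core a' (u' • a') (Ne.symm hne)
    obtain ⟨-, hidx⟩ := E.idx_sylow (Ne.symm hne) hu' rfl h1 h2 h3
    obtain ⟨R', hR', -⟩ := H82.exists_sylowIn_ge hY (M := D) fun x hx =>
      h3 x (mem_inf.1 (hYS hx)).1 (mem_inf.1 (hYS hx)).2 (E.odd_order_of_pgroup hY hx)
    obtain ⟨-, D', R₀, h1', h3', hR₀, -, W₀⟩ := E.exists_wit_ge (X := ⊥) (a := a') hu' hne
      IsPGroup.of_bot bot_le (by rw [mem_normalizer_iff]; intro x; simp)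
    have h5 : Nat.card R₀ ≤ Nat.card X := by
      rcases le_total (Nat.card X) (Nat.card R₀) with h | h
      · exact hmax (j := R₀) ⟨u', a', W₀⟩ h
      · exact h
    have h6 : Nat.card Y ≤ Nat.card R₀ := by
      obtain ⟨m, -, hm⟩ := hR₀.exists_conj_le hY (fun x hx =>
        h3' x (mem_inf.1 (hYS hx)).1 (mem_inf.1 (hYS hx)).2 (E.odd_order_of_pgroup hY hx))
      have := Subgroup.card_le_of_le hm
      rwa [H82.card_map_conj] at this
    exact (eq_of_le_of_card_ge hXY (h6.trans h5)).symm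
  have htwo : ∀ c, (∀ x ∈ X, x • c = c) → c = a ∨ c = u • a := by
    intro c hc
    by_contra hcon
    push Not at hcon
    obtain ⟨a₁, a₂, h12, hX12, hns⟩ := E.exists_unswapped hW hc hcon.1 hcon.2
    obtain ⟨X', hX'p, hlt, -, hX'S⟩ := E.grow hW h12 hX12 hns
    obtain ⟨i, hi, hia⟩ := C.exists_swap h12
    exact hlt.ne (hbig i a₁ X' hi (hia ▸ Ne.symm h12) hX'p hlt.le (hia.symm ▸ hX'S)).symm
  have hsyl := E.sylow_of_two hW (fun Y hY h1 h2 => hbig u a Y hW.ju hW.moved hY h1 h2) htwo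
  let P : Sylow p G := ⟨X, hW.pgroup, fun {R} hR h => hsyl R hR h⟩
  obtain ⟨P', hP'⟩ := hT.exists_le_sylow
  obtain ⟨g, hg⟩ := MulAction.exists_smul_eq G P P'
  refine ⟨g • a, fun x hx => ?_⟩
  have h : x ∈ ((g • P : Sylow p G) : Subgroup G) := hg.symm ▸ hP' hx
  rw [Sylow.coe_subgroup_smul, mem_pointwise_smul_iff_inv_smul_mem, MulAut.smul_def,
    MulAut.conj_inv_apply] at h
  have h2 := (mem_inf.1 (hW.le h)).1
  have h3 : x • g • a = g • a := by
    rwa [MulAction.mem_stabilizer_iff, mul_smul, mul_smul, inv_smul_eq_iff] at h2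
  exact h3

/-- **Double transitivity**: every normal subgroup containing all elements of odd order is
transitive on the points different from a given one, inside its stabiliser. -/
theorem transitive (K : Subgroup G) (hK : ∀ g : G, Odd (orderOf g) → g ∈ K) {a x y : Ω}
    (hx : a ≠ x) (hy : a ≠ y) : ∃ h ∈ K, h • a = a ∧ h • x = y := by
  haveI := Fact.mk E.prime
  haveI := E.nontriv
  have C := E.ctx
  -- a Sylow subgroup of `K_a` fixing just `a` and a given other point
  have key : ∀ z, a ≠ z → ∃ R : Subgroup G, IsPGroup p R ∧ R ≤ K ⊓ MulAction.stabilizer G a ∧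
      H82.SylowIn p R (K ⊓ MulAction.stabilizer G a) ∧ (∀ r ∈ R, r • z = z) ∧
      ∀ c, (∀ r ∈ R, r • c = c) → c = a ∨ c = z := by
    intro z hz
    obtain ⟨u, hu, hua⟩ := C.exists_swap hz
    have hne : u • a ≠ a := hua ▸ Ne.symm hz
    obtain ⟨-, D, R, h1, h3, hR, -, W⟩ := E.exists_wit_ge (X := ⊥) (a := a) hu hne
      IsPGroup.of_bot bot_le (by rw [mem_normalizer_iff]; intro x; simp)
    have htwo : ∀ c, (∀ r ∈ R, r • c = c) → c = a ∨ c = u • a := by
      intro c hc
      by_contra hcon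
      push Not at hcon
      exact E.no_third E.fix_point W hc hcon.1 hcon.2
    have hmax : ∀ Y : Subgroup G, IsPGroup p Y → R ≤ Y → Y ≤ St G a (u • a) → Y = R :=
      fun Y hY hRY hYS => hR.eq_of_le hY (fun r hr =>
        h3 r (mem_inf.1 (hYS hr)).1 (mem_inf.1 (hYS hr)).2 (E.odd_order_of_pgroup hY hr)) hRY
    have hsyl := E.sylow_of_two W hmax htwo
    have hle : R ≤ K ⊓ MulAction.stabilizer G a := fun r hr =>
      mem_inf.2 ⟨hK r (E.odd_order_of_pgroup W.pgroup hr), (mem_inf.1 (W.le hr)).1⟩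
    refine ⟨R, W.pgroup, hle, ?_, fun r hr => hua ▸ (mem_inf.1 (W.le hr)).2, hua ▸ htwo⟩
    obtain ⟨Q, hQ, hRQ⟩ := H82.exists_sylowIn_ge W.pgroup hle
    exact hsyl Q hQ.isPGroup hRQ ▸ hQ
  obtain ⟨R, -, -, hR, hRx, -⟩ := key x hx
  obtain ⟨R', -, -, hR', -, hR'two⟩ := key y hy
  obtain ⟨h, hh, hmap⟩ := hR.exists_conj hR'
  obtain ⟨hhK, hha⟩ := mem_inf.1 hh
  have hha' : h • a = a := hha
  refine ⟨h, hhK, hha', ?_⟩
  rcases hR'two (h • x) (fun r hr => by
    rw [← hmap, H82.mem_map_conj_iff] at hr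
    have := hRx _ hr
    rwa [mul_smul, mul_smul, inv_smul_eq_iff] at this) with e | e
  · exact absurd (smul_left_cancel h (hha'.trans e.symm)) hx
  · exact e

end Hyp

end H80.SE
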