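import Cfsg.Agent.H80.SETrans
import Cfsg.Agent.H16.OddOrder
import Cfsg.Agent.H10.Basic
import Cfsg.Agent.H10.PSolvable
import Cfsg.Agent.H2.UniqueSubgroup
import Cfsg.Agent.H70.QuaternionQuot
import Cfsg.Agent.H65.BaerSuzuki
import Mathlib.GroupTheory.Transfer
import Mathlib.GroupTheory.SpecificGroups.Cyclic

/-!
Groups with cyclic intersections of distinct Sylow 2-subgroups (helper80): the solvable radical
modulo the odd core is a central cyclic 2-group.
-/

set_option autoImplicit false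
set_option linter.style.haveILetI false

namespace H80.CI

open Subgroup
open scoped Pointwise

variable {G : Type*} [Group G]

/-- A group embedded in a cyclic group is commutative. -/
theorem comm_of_mem_cyclic {A : Subgroup G} (hA : IsCyclic A) {a b : G} (ha : a ∈ A) (hb : b ∈ A) :
    a * b = b * a :=
  congrArg Subtype.val (mul_comm' hA ⟨a, ha⟩ ⟨b, hb⟩)
where
  mul_comm' {A : Subgroup G} (hA : IsCyclic A) (x y : A) : x * y = y * x := by
    letI := hA.commGroup
    exact mul_comm x y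

theorem mem_zpowers_of_dvd [Finite G] {A : Subgroup G} (hA : IsCyclic A) {a b : G} (ha : a ∈ A)
    (hb : b ∈ A) (h : orderOf a ∣ orderOf b) : a ∈ zpowers b := by
  classical
  have : Fintype G := Fintype.ofFinite G
  have h1 : (Finset.univ.filter fun x : A => x ^ orderOf b = 1).card ≤ orderOf b :=
    IsCyclic.card_pow_eq_one_le (orderOf_pos b)
  have hsub : (Finset.univ.filter fun x : A => (x : G) ∈ zpowers b) ⊆
      Finset.univ.filter fun x : A => x ^ orderOf b = 1 := by
    intro x hx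
    simp only [Finset.mem_filter, Finset.mem_univ, true_and] at hx ⊢
    exact Subtype.ext (by simpa using orderOf_dvd_iff_pow_eq_one.1 (orderOf_dvd_of_mem_zpowers hx))
  have h2 : (Finset.univ.filter fun x : A => (x : G) ∈ zpowers b).card = orderOf b := by
    rw [← Nat.card_zpowers b, ← Fintype.card_subtype, ← Nat.card_eq_fintype_card]
    exact Nat.card_congr
      { toFun := fun x => ⟨x.1.1, x.2⟩
        invFun := fun x => ⟨⟨x.1, zpowers_le.2 hb x.2⟩, x.2⟩
        left_inv := fun x => rfl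
        right_inv := fun x => rfl }
  have heq := Finset.eq_of_subset_of_card_le hsub (h1.trans h2.ge)
  have : (⟨a, ha⟩ : A) ∈ Finset.univ.filter fun x : A => x ^ orderOf b = 1 := by
    simp only [Finset.mem_filter, Finset.mem_univ, true_and]
    exact Subtype.ext (by simpa using orderOf_dvd_iff_pow_eq_one.1 h)
  rw [← heq] at this
  simpa using this

theorem invol_unique [Finite G] {A : Subgroup G} (hA : IsCyclic A) {a b : G} (ha : a ∈ A) (hb : b ∈ A)
    (ha2 : orderOf a = 2) (hb2 : orderOf b = 2) : a = b := by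
  have h := mem_zpowers_of_dvd hA ha hb (by rw [ha2, hb2])
  obtain ⟨k, rfl⟩ := mem_zpowers_iff.1 h
  have hb1 : b ^ (2 : ℤ) = 1 := by rw [zpow_ofNat, ← hb2, pow_orderOf_eq_one]
  rcases Int.even_or_odd' k with ⟨i, rfl | rfl⟩
  · rw [zpow_mul, hb1, one_zpow, orderOf_one] at ha2; omega
  · rw [zpow_add, zpow_mul, hb1, one_zpow, one_mul, zpow_one]

theorem orderOf_two_pow [Finite G] {P : Subgroup G} (hP : IsPGroup 2 P) {x : G} (hx : x ∈ P) :
    ∃ k : ℕ, orderOf x = 2 ^ k := by
  obtain ⟨k, hk⟩ := IsPGroup.iff_orderOf.mp hP ⟨x, hx⟩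
  exact ⟨k, by rw [← orderOf_mk x hx, hk]⟩

theorem zpowers_isPGroup {x : G} {k : ℕ} (h : orderOf x = 2 ^ k) : IsPGroup 2 (zpowers x) :=
  IsPGroup.of_card (n := k) (by rw [Nat.card_zpowers, h])

/-- A 2-element normalising a Sylow 2-subgroup lies in it. -/
theorem mem_sylow_of_normalizes [Finite G] (T : Sylow 2 G) {x : G} {k : ℕ} (hk : orderOf x = 2 ^ k)
    (hx : x • T = T) : x ∈ (T : Subgroup G) := by
  haveI : Fact (Nat.Prime 2) := ⟨Nat.prime_two⟩
  have hN : zpowers x ≤ normalizer ((T : Subgroup G) : Set G) :=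
    zpowers_le.2 (Sylow.smul_eq_iff_mem_normalizer.1 hx)
  have h2 : IsPGroup 2 ((T : Subgroup G) ⊔ zpowers x : Subgroup G) :=
    IsPGroup.to_sup_of_normal_left' T.isPGroup' (zpowers_isPGroup hk) hN
  exact (T.3 h2 le_sup_left) ▸ mem_sup_right (mem_zpowers x)

/-- Splitting an element into its 2-part and its odd part. -/
theorem exists_parts [Finite G] (g : G) : ∃ a b : G, ∃ k : ℕ, orderOf a = 2 ^ k ∧ Odd (orderOf b) ∧
    g = a * b ∧ a ∈ zpowers g ∧ b ∈ zpowers g := by
  obtain ⟨k, m, hm, hkm⟩ := Nat.exists_eq_pow_mul_and_not_dvd (orderOf_pos g).ne' 2 (by norm_num)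
  have hm0 : m ≠ 0 := fun h => hm (h ▸ dvd_zero 2)
  have hcop : IsCoprime (2 ^ k : ℤ) (m : ℤ) := by
    have h : ((2 : ℕ) ^ k).Coprime m := (Nat.prime_two.coprime_iff_not_dvd.2 hm).pow_left k
    exact_mod_cast Nat.isCoprime_iff_coprime.2 h
  obtain ⟨s, t, hst⟩ := hcop
  refine ⟨g ^ ((t : ℤ) * m), g ^ (s * 2 ^ k), ?_⟩
  have hA : (g ^ (t * m)) ^ (2 ^ k) = 1 := by
    rw [← zpow_natCast, ← zpow_mul, show t * (m : ℤ) * ((2 ^ k : ℕ) : ℤ) = (orderOf g : ℤ) * t by
      rw [hkm]; push_cast; ring, zpow_mul, zpow_natCast, pow_orderOf_eq_one, one_zpow]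
  obtain ⟨j, -, hj⟩ := (Nat.dvd_prime_pow Nat.prime_two).1 (orderOf_dvd_of_pow_eq_one hA)
  refine ⟨j, hj, ?_, ?_, zpow_mem (mem_zpowers g) _, zpow_mem (mem_zpowers g) _⟩
  · refine Odd.of_dvd_nat (n := m) ?_ (orderOf_dvd_of_pow_eq_one ?_)
    · exact Nat.not_even_iff_odd.1 fun h => hm (even_iff_two_dvd.1 h)
    · rw [← zpow_natCast, ← zpow_mul, show s * 2 ^ k * (m : ℤ) = (orderOf g : ℤ) * s by
        rw [hkm]; push_cast; ring, zpow_mul, zpow_natCast, pow_orderOf_eq_one, one_zpow]
  · rw [← zpow_add, show t * (m : ℤ) + s * 2 ^ k = 1 by linear_combination hst, zpow_one]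

section Core

/-- The hypothesis: distinct Sylow 2-subgroups meet in cyclic subgroups. -/
def IsCI (G : Type*) [Group G] : Prop :=
  ∀ S T : Sylow 2 G, S ≠ T → IsCyclic ↥((S : Subgroup G) ⊓ (T : Subgroup G))

variable [Finite G]

theorem exists_sylow_ne (hns : ¬ Group.IsSolvable G) (S : Sylow 2 G) : ∃ T : Sylow 2 G, T ≠ S := by
  haveI : Fact (Nat.Prime 2) := ⟨Nat.prime_two⟩
  by_contra hcon
  push Not at hcon
  haveI hn : (S : Subgroup G).Normal := by
    refine normalizer_eq_top_iff.1 (eq_top_iff.2 fun g _ => ?_)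
    exact Sylow.smul_eq_iff_mem_normalizer.1 (hcon (g • S))
  haveI := S.isPGroup'.isNilpotent
  have hodd : Odd (Nat.card (G ⧸ (S : Subgroup G))) := by
    rw [← index_eq_card, ← Nat.not_even_iff_odd, even_iff_two_dvd]
    exact S.not_dvd_index
  haveI := H16.FT.oddOrder hodd
  exact hns ((Group.isSolvable_iff_subgroup_quotient (S : Subgroup G)).mpr ⟨inferInstance, inferInstance⟩)

/-- The standing situation. -/
structure Setup (G : Type*) [Group G] (Z : Subgroup G) : Prop where
  ci : IsCI G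
  ns : ¬ Group.IsSolvable G
  core : Cfsg.oddCore G = ⊥
  z_eq : Z = Cfsg.pCore 2 G

variable {Z : Subgroup G}

theorem Setup.z_pgroup (h : Setup G Z) : IsPGroup 2 Z := h.z_eq ▸ H10.pCore_isPGroup

theorem Setup.z_normal (h : Setup G Z) : Z.Normal := h.z_eq ▸ H10.pCore_normal

theorem Setup.z_le (h : Setup G Z) (S : Sylow 2 G) : Z ≤ (S : Subgroup G) := by
  haveI : Fact (Nat.Prime 2) := ⟨Nat.prime_two⟩
  exact h.z_eq ▸ H10.pCore_le_sylow S

theorem Setup.z_cyclic (h : Setup G Z) : IsCyclic Z := by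
  haveI : Fact (Nat.Prime 2) := ⟨Nat.prime_two⟩
  obtain ⟨T, hT⟩ := exists_sylow_ne h.ns (default : Sylow 2 G)
  haveI := h.ci _ _ hT
  exact isCyclic_of_injective
    (Subgroup.inclusion (le_inf (h.z_le T) (h.z_le (default : Sylow 2 G))))
    (Subgroup.inclusion_injective _)

theorem Setup.odd_centralizes (h : Setup G Z) {g : G} (hg : Odd (orderOf g)) :
    g ∈ centralizer (Z : Set G) := by
  haveI : Fact (Nat.Prime 2) := ⟨Nat.prime_two⟩
  haveI := h.z_cyclic
  haveI := h.z_normal
  set φ : G →* MulAut Z := MulAut.conjNormal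
  have h1 : orderOf (φ g) ∣ Nat.card (MulAut Z) := orderOf_dvd_natCard _
  obtain ⟨n, hn⟩ := IsPGroup.iff_card.mp h.z_pgroup
  have h2 : ∃ j, Nat.card (MulAut Z) = 2 ^ j := by
    rw [IsCyclic.card_mulAut, hn]
    rcases Nat.eq_zero_or_pos n with rfl | hpos
    · exact ⟨0, by simp⟩
    · exact ⟨n - 1, by rw [Nat.totient_prime_pow Nat.prime_two hpos]; simp⟩
  obtain ⟨j, hj⟩ := h2
  have h3 : orderOf (φ g) = 1 := by
    refine Nat.eq_one_of_dvd_coprimes (b := orderOf g) ?_ (hj ▸ h1) (orderOf_map_dvd φ g)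
    exact ((Nat.coprime_two_left.2 hg)).pow_left j
  rw [orderOf_eq_one_iff] at h3
  rw [mem_centralizer_iff]
  intro x hx
  have := congrArg (fun f : MulAut Z => ((f ⟨x, hx⟩ : Z) : G)) h3
  simp only [φ, MulAut.conjNormal_apply, MulAut.one_apply] at this
  exact (mul_inv_eq_iff_eq_mul.1 this).symm

/-- The part of the argument with `O₂(G)` not central. -/
structure Noncentral (G : Type*) [Group G] (Z : Subgroup G) : Prop where
  setup : Setup G Z
  out : ∃ x : G, x ∉ centralizer (Z : Set G) ∧ ∃ k : ℕ, orderOf x = 2 ^ k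

theorem noncentral_of_not_le (h : Setup G Z) (hz : ¬ Z ≤ center G) : Noncentral G Z := by
  refine ⟨h, ?_⟩
  obtain ⟨z, hzZ, hzc⟩ := SetLike.not_le_iff_exists.1 hz
  rw [Subgroup.mem_center_iff] at hzc
  push Not at hzc
  obtain ⟨g, hg⟩ := hzc
  obtain ⟨a, b, k, hk, hb, rfl, -, -⟩ := exists_parts g
  refine ⟨a, fun ha => hg ?_, k, hk⟩
  exact ((mem_centralizer_iff.1 (mul_mem ha (h.odd_centralizes hb))) z hzZ).symm

namespace Noncentral

variable (h : Noncentral G Z)
include h

/-- There is an element of order four in `Z`. -/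
theorem exists_four : ∃ ζ ∈ Z, orderOf ζ = 4 := by
  haveI : Fact (Nat.Prime 2) := ⟨Nat.prime_two⟩
  haveI := h.setup.z_cyclic
  haveI := h.setup.z_normal
  obtain ⟨g, hg⟩ := IsCyclic.exists_generator (α := Z)
  obtain ⟨k, hk⟩ := orderOf_two_pow h.setup.z_pgroup g.2
  rcases Nat.lt_or_ge k 2 with hlt | hge
  · exfalso
    obtain ⟨x, hx, -⟩ := h.out
    refine hx (mem_centralizer_iff.2 fun a ha => ?_)
    have hconj : x * a * x⁻¹ ∈ Z := h.setup.z_normal.conj_mem a ha x
    suffices heq : x * a * x⁻¹ = a by exact (mul_inv_eq_iff_eq_mul.1 heq).symm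
    by_cases ha1 : a = 1
    · simp [ha1]
    have hord : ∀ b ∈ Z, b ≠ 1 → orderOf b = 2 := by
      intro b hb hb1
      obtain ⟨i, hi⟩ := mem_zpowers_iff.1 (hg ⟨b, hb⟩)
      have hd : orderOf b ∣ orderOf (g : G) := by
        rw [orderOf_dvd_iff_pow_eq_one]
        have : (g : G) ^ i = b := by rw [← Subgroup.coe_zpow, hi]
        rw [← this, ← zpow_natCast, ← zpow_mul, mul_comm, zpow_mul, zpow_natCast, pow_orderOf_eq_one,
          one_zpow]
      rw [hk] at hd
      have hd2 : orderOf b ∣ 2 := hd.trans (by interval_cases k <;> simp)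
      rcases (Nat.dvd_prime Nat.prime_two).1 hd2 with e | e
      · exact absurd (orderOf_eq_one_iff.1 e) hb1
      · exact e
    exact invol_unique h.setup.z_cyclic hconj ha
      (hord _ hconj (fun e => ha1 (conj_eq_one_iff.1 e))) (hord a ha ha1)
  · refine ⟨(g : G) ^ 2 ^ (k - 2), pow_mem g.2 _, ?_⟩
    rw [orderOf_pow_of_dvd (by positivity) (by rw [hk]; exact pow_dvd_pow 2 (by omega)), hk,
      Nat.pow_div (by omega) two_pos, show k - (k - 2) = 2 by omega]
    norm_num

theorem not_cyclic {a : G} (ha : orderOf a = 2) (haZ : a ∉ Z) {Q : Subgroup G} (hZQ : Z ≤ Q)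
    (haQ : a ∈ Q) : ¬ IsCyclic Q := by
  intro hQ
  obtain ⟨ζ, hζ, hζ4⟩ := h.exists_four
  have h2 : orderOf (ζ ^ 2) = 2 := by
    rw [orderOf_pow_of_dvd two_ne_zero (by rw [hζ4]; norm_num), hζ4]
  exact haZ (invol_unique hQ haQ (hZQ (pow_mem hζ 2)) ha h2 ▸ pow_mem hζ 2)

theorem unique_sylow {Q : Subgroup G} (hQ : ¬ IsCyclic Q) {S T : Sylow 2 G}
    (hS : Q ≤ (S : Subgroup G)) (hT : Q ≤ (T : Subgroup G)) : S = T := by
  by_contra hne
  haveI := h.setup.ci S T hne
  exact hQ (isCyclic_of_injective (Subgroup.inclusion (le_inf hS hT)) (Subgroup.inclusion_injective _))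

theorem sup_pgroup {x : G} {k : ℕ} (hk : orderOf x = 2 ^ k) : IsPGroup 2 (Z ⊔ zpowers x : Subgroup G) := by
  haveI := h.setup.z_normal
  exact h.setup.z_pgroup.to_sup_of_normal_left (zpowers_isPGroup hk)

/-- An involution outside `Z` lies in a unique Sylow 2-subgroup. -/
theorem invol_sylow {i : G} (hi : orderOf i = 2) (hiZ : i ∉ Z) :
    ∃ S : Sylow 2 G, i • S = S ∧ ∀ T : Sylow 2 G, i • T = T → T = S := by
  haveI : Fact (Nat.Prime 2) := ⟨Nat.prime_two⟩
  obtain ⟨S, hS⟩ := (h.sup_pgroup (x := i) (k := 1) (by simpa using hi)).exists_le_sylow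
  refine ⟨S, Sylow.smul_eq_iff_mem_normalizer.2 (le_normalizer (hS (mem_sup_right (mem_zpowers i)))),
    fun T hT => ?_⟩
  exact h.unique_sylow (h.not_cyclic hi hiZ le_sup_left (mem_sup_right (mem_zpowers i)))
    (sup_le (h.setup.z_le T) (zpowers_le.2 (mem_sylow_of_normalizes T (k := 1) (by simpa using hi) hT))) hS

/-- Two involutions with different Sylow subgroups generate a dihedral group which is cyclic of
odd order modulo `Z`, and lie on the same side of `C(Z)`. -/
theorem pair {i j : G} (hi : orderOf i = 2) (hj : orderOf j = 2) (hiZ : i ∉ Z) (hjZ : j ∉ Z)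
    {S T : Sylow 2 G} (hiS : i • S = S) (hjT : j • T = T) (hne : S ≠ T) :
    i * j ∈ centralizer (Z : Set G) ∧
      (i ∈ centralizer (Z : Set G) → ∃ n : ℕ, Odd n ∧ (i * j) ^ n ∈ Z) := by
  haveI : Fact (Nat.Prime 2) := ⟨Nat.prime_two⟩
  haveI := h.setup.z_normal
  obtain ⟨a, b, k, hk, hb, hab, ha, -⟩ := exists_parts (i * j)
  set Q : Subgroup G := Z ⊔ zpowers a with hQ
  have hinv : ∀ t : G, t * (i * j) * t⁻¹ = (i * j)⁻¹ → t * a * t⁻¹ = a⁻¹ := by
    intro t ht
    obtain ⟨m, hm⟩ := mem_zpowers_iff.1 ha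
    rw [← hm, ← conj_zpow, ht, inv_zpow]
  have hia : i * a * i⁻¹ = a⁻¹ := hinv i (H70.semiconj_prod hi hj)
  have hja : j * a * j⁻¹ = a⁻¹ := by
    refine hinv j ?_
    rw [mul_inv_rev, H70.inv_eq_self_of_two hi, H70.inv_eq_self_of_two hj, mul_assoc, mul_assoc,
      H70.mul_self_of_two hj, mul_one]
  have hQcyc : IsCyclic Q := by
    by_contra hnc
    obtain ⟨U, hU⟩ := (h.sup_pgroup hk).exists_le_sylow
    have hfix : ∀ t : G, orderOf t = 2 → t * a * t⁻¹ = a⁻¹ → t • U = U := by
      intro t ht hta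
      refine h.unique_sylow hnc (sup_le (h.setup.z_le _) (zpowers_le.2 ?_)) hU
      rw [Sylow.coe_subgroup_smul, mem_pointwise_smul_iff_inv_smul_mem, MulAut.smul_def,
        MulAut.conj_inv_apply]
      have e : t⁻¹ * a * t = a⁻¹ := by
        have := hta
        rwa [H70.inv_eq_self_of_two ht] at this ⊢
      rw [e]
      exact inv_mem (hU (mem_sup_right (mem_zpowers a)))
    obtain ⟨S₀, -, hS₀⟩ := h.invol_sylow hi hiZ
    obtain ⟨T₀, -, hT₀⟩ := h.invol_sylow hj hjZ
    exact hne ((hS₀ S hiS).trans ((hS₀ U (hfix i hi hia)).symm.trans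
      ((hT₀ U (hfix j hj hja)).trans (hT₀ T hjT).symm)))
  have haC : a ∈ centralizer (Z : Set G) := mem_centralizer_iff.2 fun z hz =>
    comm_of_mem_cyclic hQcyc (mem_sup_left hz) (mem_sup_right (mem_zpowers a))
  refine ⟨hab ▸ mul_mem haC (h.setup.odd_centralizes hb), fun hiC => ⟨orderOf b, hb, ?_⟩⟩
  -- the 2-part `a` lies in `Z`
  have haZ : a ∈ Z := by
    haveI := h.setup.z_cyclic
    obtain ⟨g, hg⟩ := IsCyclic.exists_generator (α := Z)
    obtain ⟨l, hl⟩ := orderOf_two_pow h.setup.z_pgroup g.2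
    rcases le_total k l with hle | hle
    · exact zpowers_le.2 g.2 (mem_zpowers_of_dvd hQcyc (mem_sup_right (mem_zpowers a))
        (mem_sup_left g.2) (by rw [hk, hl]; exact pow_dvd_pow 2 hle))
    · exfalso
      obtain ⟨ζ, hζ, hζ4⟩ := h.exists_four
      have hgz := mem_zpowers_of_dvd hQcyc (mem_sup_left g.2) (mem_sup_right (mem_zpowers a))
        (by rw [hk, hl]; exact pow_dvd_pow 2 hle)
      have hζa : ζ ∈ zpowers a := by
        obtain ⟨m, hm⟩ := mem_zpowers_iff.1 (hg ⟨ζ, hζ⟩)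
        have : ((g : G)) ^ m = ζ := by rw [← Subgroup.coe_zpow, hm]
        exact this ▸ zpow_mem hgz m
      obtain ⟨m, hm⟩ := mem_zpowers_iff.1 hζa
      have h1 : i * ζ * i⁻¹ = ζ⁻¹ := by rw [← hm, ← conj_zpow, hia, inv_zpow]
      rw [← mem_centralizer_iff.1 hiC ζ hζ, mul_inv_cancel_right] at h1
      have h2 : ζ ^ 2 = 1 := by rw [sq]; nth_rw 1 [h1]; exact inv_mul_cancel ζ
      have := orderOf_dvd_of_pow_eq_one h2
      rw [hζ4] at this
      exact absurd (Nat.le_of_dvd two_pos this) (by norm_num)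
  rw [hab, Commute.mul_pow, pow_orderOf_eq_one, mul_one]
  · exact pow_mem haZ _
  · exact ((mem_centralizer_iff.1 (h.setup.odd_centralizes hb)) a haZ)

theorem exists_invol_centralizing :
    ∃ i : G, orderOf i = 2 ∧ i ∉ Z ∧ i ∈ centralizer (Z : Set G) := by
  haveI : Fact (Nat.Prime 2) := ⟨Nat.prime_two⟩
  haveI := h.setup.z_normal
  by_contra hcon
  push Not at hcon
  set C := centralizer (Z : Set G) with hC
  obtain ⟨P, hP⟩ : ∃ P : Sylow 2 C, True := ⟨default, trivial⟩
  obtain ⟨ζ, hζ, hζ4⟩ := h.exists_four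
  have hZC : Z ≤ C := fun z hz => mem_centralizer_iff.2 fun w hw =>
    comm_of_mem_cyclic h.setup.z_cyclic hw hz
  have hone : ∀ x : C, orderOf x = 2 → (x : G) = ζ ^ 2 := by
    intro x hx
    have hxG : orderOf (x : G) = 2 := by rw [Subgroup.orderOf_coe]; exact hx
    have hxZ : (x : G) ∈ Z := by
      by_contra hxZ
      exact hcon x hxG hxZ x.2
    exact invol_unique h.setup.z_cyclic hxZ (pow_mem hζ 2) hxG
      (by rw [orderOf_pow_of_dvd two_ne_zero (by rw [hζ4]; norm_num), hζ4])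
  have hnormC : (Z.subgroupOf C).Normal := inferInstance
  have hζP : (⟨ζ, hZC hζ⟩ : C) ∈ (P : Subgroup C) := by
    obtain ⟨Q, hQ⟩ := (h.setup.z_pgroup.comap_subtype (K := C)).exists_le_sylow
    obtain ⟨g, rfl⟩ := MulAction.exists_smul_eq C Q P
    rw [Sylow.coe_subgroup_smul, mem_pointwise_smul_iff_inv_smul_mem, MulAut.smul_def,
      MulAut.conj_inv_apply]
    refine hQ ?_
    show (g : G)⁻¹ * ζ * g ∈ Z
    simpa using h.setup.z_normal.conj_mem ζ hζ (g : G)⁻¹
  have hPc : IsCyclic P := by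
    rcases H2.cyclic_or_quaternion P.isPGroup' (fun H K hH hK => by
      haveI := isCyclic_of_prime_card hH
      haveI := isCyclic_of_prime_card hK
      obtain ⟨a, ha⟩ := exists_prime_orderOf_dvd_card' 2 (by rw [hH] : 2 ∣ Nat.card H)
      obtain ⟨b, hb⟩ := exists_prime_orderOf_dvd_card' 2 (by rw [hK] : 2 ∣ Nat.card K)
      have e : ((a : P) : C) = ((b : P) : C) := Subtype.ext ((hone _ (by
        rw [Subgroup.orderOf_coe, Subgroup.orderOf_coe]; exact ha)).trans (hone _ (by
        rw [Subgroup.orderOf_coe, Subgroup.orderOf_coe]; exact hb)).symm)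
      have hH' : zpowers (a : P) = H := eq_of_le_of_card_ge (zpowers_le.2 a.2)
        (by rw [Nat.card_zpowers, Subgroup.orderOf_coe, ha, hH])
      have hK' : zpowers (b : P) = K := eq_of_le_of_card_ge (zpowers_le.2 b.2)
        (by rw [Nat.card_zpowers, Subgroup.orderOf_coe, hb, hK])
      rw [← hH', ← hK', Subtype.ext e]) with hc | ⟨k, ⟨e⟩⟩
    · exact hc
    · rcases Nat.eq_zero_or_pos k with rfl | hk
      · haveI : IsCyclic (QuaternionGroup (2 ^ 0)) := QuaternionGroup.quaternionGroup_one_isCyclic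
        exact isCyclic_of_surjective e.symm.toMonoidHom e.symm.surjective
      · exfalso
        have hcen : ∀ g, g * e ⟨_, hζP⟩ = e ⟨_, hζP⟩ * g := by
          intro g
          obtain ⟨y, rfl⟩ := e.surjective g
          rw [← map_mul, ← map_mul]
          exact congrArg e (Subtype.ext (Subtype.ext
            (mem_centralizer_iff.1 (y : C).2 ζ hζ).symm))
        have hsq := H70.quaternion_center_sq (Nat.le_self_pow hk.ne' 2) hcen
        rw [← map_pow, ← map_one e, e.injective.eq_iff] at hsq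
        have hsq' : ζ ^ 2 = 1 := congrArg (fun y : P => ((y : C) : G)) hsq
        have := orderOf_dvd_of_pow_eq_one hsq'
        rw [hζ4] at this
        exact absurd (Nat.le_of_dvd two_pos this) (by norm_num)
  -- Burnside: a normal 2-complement, which is trivial
  have h2C : 2 ∣ Nat.card C := by
    have := orderOf_dvd_natCard C (hZC hζ)
    rw [hζ4] at this
    exact Dvd.dvd.trans (by norm_num) this
  have hmin : (Nat.card C).minFac = 2 := Nat.minFac_eq_two_iff _ |>.2 h2C
  have hcompl := IsCyclic.isComplement' hmin (P := P) hPc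
  set K := (MonoidHom.transferSylow P (hPc.normalizer_le_centralizer hmin)).ker
  have hKodd : Odd (Nat.card K) := by
    rw [← hcompl.index_eq_card, ← Nat.not_even_iff_odd, even_iff_two_dvd]
    exact P.not_dvd_index
  haveI hKn : K.Normal := MonoidHom.normal_ker _
  have hK1 : K = ⊥ := by
    have hle : K ≤ Cfsg.pPrimeCore 2 C := H10.le_pPrimeCore hKn (Nat.coprime_two_right.2 hKodd)
    haveI hCn : C.Normal := inferInstance
    have h2 := (map_mono (f := C.subtype) hle).trans (H10.map_pPrimeCore_subtype_le hCn)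
    rw [show Cfsg.pPrimeCore 2 G = ⊥ from h.setup.core, le_bot_iff,
      map_eq_bot_iff_of_injective _ C.subtype_injective] at h2
    exact h2
  rw [hK1] at hcompl
  have hCp : IsPGroup 2 C := by
    have hPtop : (P : Subgroup C) = ⊤ := isComplement'_bot_left.1 hcompl
    obtain ⟨n, hn⟩ := IsPGroup.iff_card.mp P.isPGroup'
    rw [hPtop, card_top] at hn
    exact IsPGroup.of_card hn
  refine h.setup.ns ?_
  have hG : IsPGroup 2 G := by
    intro g
    obtain ⟨a, b, k, hk, hb, hab, ha, hb'⟩ := exists_parts g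
    have hb1 : b = 1 := by
      obtain ⟨j, hj⟩ := orderOf_two_pow hCp (h.setup.odd_centralizes hb)
      rw [hj] at hb
      rcases Nat.eq_zero_or_pos j with rfl | hpos
      · rwa [pow_zero, orderOf_eq_one_iff] at hj
      · exact absurd (Nat.even_pow.2 ⟨even_two, hpos.ne'⟩) (Nat.not_even_iff_odd.2 hb)
    exact ⟨k, by rw [hab, hb1, mul_one, ← hk, pow_orderOf_eq_one]⟩
  haveI := hG.isNilpotent
  infer_instance

theorem invol_centralizes {a : G} (ha : orderOf a = 2) (haZ : a ∉ Z) :
    a ∈ centralizer (Z : Set G) := by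
  haveI : Fact (Nat.Prime 2) := ⟨Nat.prime_two⟩
  haveI := h.setup.z_normal
  obtain ⟨i, hi, hiZ, hiC⟩ := h.exists_invol_centralizing
  obtain ⟨S, hS, -⟩ := h.invol_sylow ha haZ
  obtain ⟨T₀, hT₀, -⟩ := h.invol_sylow hi hiZ
  obtain ⟨T, hT⟩ := exists_sylow_ne h.setup.ns S
  obtain ⟨g, hg⟩ := MulAction.exists_smul_eq G T₀ T
  have hi' : orderOf (g * i * g⁻¹) = 2 :=
    (orderOf_injective (MulAut.conj g).toMonoidHom (MulAut.conj g).injective i).trans hi
  have hiZ' : g * i * g⁻¹ ∉ Z := fun hmem => hiZ (by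
    simpa [mul_assoc] using h.setup.z_normal.conj_mem _ hmem g⁻¹)
  have hiC' : g * i * g⁻¹ ∈ centralizer (Z : Set G) :=
    (inferInstance : (centralizer (Z : Set G)).Normal).conj_mem i hiC g
  have hfix : (g * i * g⁻¹) • T = T := by
    rw [← hg, ← mul_smul, inv_mul_cancel_right, mul_smul, hT₀]
  have hp := (h.pair ha hi' haZ hiZ' hS hfix (Ne.symm hT)).1
  have := mul_mem hp (inv_mem hiC')
  rwa [mul_inv_cancel_right] at this

omit h in
theorem exists_core {H : Type*} [Group H] [Finite H]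
    (hcyc : ∀ P : Subgroup H, IsPGroup 2 P → IsCyclic P) :
    ∃ K : Subgroup H, Odd (Nat.card K) ∧ ∀ x : H, Odd (orderOf x) → x ∈ K := by
  haveI : Fact (Nat.Prime 2) := ⟨Nat.prime_two⟩
  by_cases h2 : 2 ∣ Nat.card H
  · obtain ⟨P⟩ : Nonempty (Sylow 2 H) := inferInstance
    have hPc := hcyc P P.isPGroup'
    have hmin : (Nat.card H).minFac = 2 := Nat.minFac_eq_two_iff _ |>.2 h2
    have hcompl := IsCyclic.isComplement' hmin (P := P) hPc
    set K := (MonoidHom.transferSylow P (hPc.normalizer_le_centralizer hmin)).ker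
    haveI hKn : K.Normal := MonoidHom.normal_ker _
    refine ⟨K, ?_, fun x hx => ?_⟩
    · rw [← hcompl.index_eq_card, ← Nat.not_even_iff_odd, even_iff_two_dvd]
      exact P.not_dvd_index
    · obtain ⟨n, hn⟩ := IsPGroup.iff_card.mp P.isPGroup'
      have hidx : Nat.card (H ⧸ K) = 2 ^ n := by
        rw [← index_eq_card, hcompl.symm.index_eq_card, hn]
      have h1 : orderOf (QuotientGroup.mk' K x) = 1 :=
        Nat.eq_one_of_dvd_coprimes (a := 2 ^ n) (b := orderOf x)
          ((Nat.coprime_two_left.2 hx).pow_left n) (hidx ▸ orderOf_dvd_natCard _) (orderOf_map_dvd _ x)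
      rwa [orderOf_eq_one_iff, QuotientGroup.mk'_apply, QuotientGroup.eq_one_iff] at h1
  · exact ⟨⊤, by rwa [card_top, ← Nat.not_even_iff_odd, even_iff_two_dvd], fun x _ => mem_top x⟩

/-- The odd core of `G/Z` is trivial. -/
theorem core_quot [Z.Normal] : ∀ M : Subgroup (G ⧸ Z), M.Normal → Odd (Nat.card M) → M = ⊥ := by
  intro M hM hodd
  haveI : Fact (Nat.Prime 2) := ⟨Nat.prime_two⟩
  set π := QuotientGroup.mk' Z
  set W := M.comap π with hW
  haveI hWn : W.Normal := hM.comap π
  have hWC : ∀ w ∈ W, w ∈ centralizer (Z : Set G) := by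
    intro w hw
    obtain ⟨a, b, k, hk, hb, rfl, ha, -⟩ := exists_parts w
    have haW : a ∈ W := zpowers_le.2 hw ha
    have h1 : orderOf (π a) = 1 :=
      Nat.eq_one_of_dvd_coprimes (a := 2 ^ k) (b := Nat.card M)
        ((Nat.coprime_two_left.2 hodd).pow_left k) (hk ▸ orderOf_map_dvd π a)
        (Subgroup.orderOf_dvd_natCard M haW)
    rw [orderOf_eq_one_iff, QuotientGroup.mk'_apply, QuotientGroup.eq_one_iff] at h1
    exact mul_mem (mem_centralizer_iff.2 fun z hz => comm_of_mem_cyclic h.setup.z_cyclic hz h1)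
      (h.setup.odd_centralizes hb)
  have hZW : Z ≤ W := fun z hz => by
    show π z ∈ M
    rw [show π z = 1 from (QuotientGroup.eq_one_iff z).2 hz]
    exact one_mem M
  have hidx : (Z.subgroupOf W).index = Nat.card M := by
    have h1 : Z.relIndex W = Nat.card (W.map π) := by rw [← relIndex_ker, QuotientGroup.ker_mk']
    rwa [hW, map_comap_eq_self_of_surjective (QuotientGroup.mk'_surjective Z), ← hW] at h1
  obtain ⟨n, hn⟩ := IsPGroup.iff_card.mp h.setup.z_pgroup
  obtain ⟨K, hK⟩ := exists_right_complement'_of_coprime (N := Z.subgroupOf W) (by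
    rw [hidx, Nat.card_congr (subgroupOfEquivOfLe hZW).toEquiv, hn]
    exact (Nat.coprime_two_left.2 hodd).pow_left n)
  have hKcard : Nat.card K = Nat.card M := by rw [← hidx, hK.symm.index_eq_card]
  have hmemK : ∀ x : W, Odd (orderOf x) → x ∈ K := by
    intro x hx
    obtain ⟨⟨⟨z, hz⟩, ⟨y, hy⟩⟩, hzy⟩ := hK.2 x
    simp only at hzy
    have hcomm : Commute z y := Subtype.ext (mem_centralizer_iff.1 (hWC _ y.2) _ hz)
    have hz1 : z ^ orderOf x = 1 := by
      have h1 : z ^ orderOf x * y ^ orderOf x = 1 := by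
        rw [← hcomm.mul_pow, hzy, pow_orderOf_eq_one]
      exact mem_bot.1 (hK.disjoint.le_bot (mem_inf.2
        ⟨pow_mem hz _, eq_inv_of_mul_eq_one_left h1 ▸ inv_mem (pow_mem hy _)⟩))
    obtain ⟨i, hi⟩ := orderOf_two_pow h.setup.z_pgroup hz
    have h1 : orderOf (z : G) = 1 := by
      refine Nat.eq_one_of_dvd_coprimes ((Nat.coprime_two_left.2 hx).pow_left i) (hi ▸ dvd_rfl) ?_
      rw [Subgroup.orderOf_coe]; exact orderOf_dvd_of_pow_eq_one hz1
    rw [Subgroup.orderOf_coe, orderOf_eq_one_iff] at h1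
    rw [← hzy, h1, one_mul]; exact hy
  have hnormal : (K.map W.subtype).Normal := by
    refine ⟨?_⟩
    rintro _ ⟨x, hx, rfl⟩ g
    refine ⟨⟨g * x * g⁻¹, hWn.conj_mem x x.2 g⟩, hmemK _ ?_, rfl⟩
    rw [← Subgroup.orderOf_coe]
    show Odd (orderOf (g * (x : G) * g⁻¹))
    rw [show orderOf (g * (x : G) * g⁻¹) = orderOf x from
      (orderOf_injective (MulAut.conj g).toMonoidHom (MulAut.conj g).injective _).trans
        (Subgroup.orderOf_coe x)]
    exact (hKcard ▸ hodd : Odd (Nat.card K)).of_dvd_nat (Subgroup.orderOf_dvd_natCard _ hx)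
  have h0 : K.map W.subtype ≤ Cfsg.pPrimeCore 2 G := H10.le_pPrimeCore hnormal (by
    rw [Subgroup.card_map_of_injective W.subtype_injective, hKcard]; exact Nat.coprime_two_right.2 hodd)
  rw [show Cfsg.pPrimeCore 2 G = ⊥ from h.setup.core, le_bot_iff,
    map_eq_bot_iff_of_injective _ W.subtype_injective] at h0
  rw [h0, card_bot] at hKcard
  exact Subgroup.card_eq_one.1 hKcard.symm

/-- Lifts of two involutions outside `Z` that agree modulo a 2-element fixing two Sylow subgroups. -/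
theorem two_part_mem {S T : Sylow 2 G} (hST : S ≠ T) {a i : G} {k : ℕ} (hk : orderOf a = 2 ^ k)
    (haS : a • S = S) (haT : a • T = T) (hi : i ∈ centralizer (Z : Set G))
    (hinv : i * a * i⁻¹ = a⁻¹) : a ∈ Z := by
  haveI : Fact (Nat.Prime 2) := ⟨Nat.prime_two⟩
  haveI hQ : IsCyclic (Z ⊔ zpowers a : Subgroup G) := by
    haveI := h.setup.ci S T hST
    have hle : Z ⊔ zpowers a ≤ (S : Subgroup G) ⊓ (T : Subgroup G) :=
      sup_le (le_inf (h.setup.z_le _) (h.setup.z_le _)) (zpowers_le.2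
        (mem_inf.2 ⟨mem_sylow_of_normalizes S hk haS, mem_sylow_of_normalizes T hk haT⟩))
    exact isCyclic_of_injective (Subgroup.inclusion hle) (Subgroup.inclusion_injective _)
  haveI := h.setup.z_cyclic
  obtain ⟨g, hg⟩ := IsCyclic.exists_generator (α := Z)
  obtain ⟨l, hl⟩ := orderOf_two_pow h.setup.z_pgroup g.2
  rcases le_total k l with hle | hle
  · exact zpowers_le.2 g.2 (mem_zpowers_of_dvd hQ (mem_sup_right (mem_zpowers a))
      (mem_sup_left g.2) (by rw [hk, hl]; exact pow_dvd_pow 2 hle))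
  · exfalso
    obtain ⟨ζ, hζ, hζ4⟩ := h.exists_four
    have hgz := mem_zpowers_of_dvd hQ (mem_sup_left g.2) (mem_sup_right (mem_zpowers a))
      (by rw [hk, hl]; exact pow_dvd_pow 2 hle)
    have hζa : ζ ∈ zpowers a := by
      obtain ⟨m, hm⟩ := mem_zpowers_iff.1 (hg ⟨ζ, hζ⟩)
      have : ((g : G)) ^ m = ζ := by rw [← Subgroup.coe_zpow, hm]
      exact this ▸ zpow_mem hgz m
    obtain ⟨m, hm⟩ := mem_zpowers_iff.1 hζa
    have h1 : i * ζ * i⁻¹ = ζ⁻¹ := by rw [← hm, ← conj_zpow, hinv, inv_zpow]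
    rw [← mem_centralizer_iff.1 hi ζ hζ, mul_inv_cancel_right] at h1
    have h2 : ζ ^ 2 = 1 := by rw [sq]; nth_rw 1 [h1]; exact inv_mul_cancel ζ
    have := orderOf_dvd_of_pow_eq_one h2
    rw [hζ4] at this
    exact absurd (Nat.le_of_dvd two_pos this) (by norm_num)

/-- An element fixing two Sylow subgroups centralises `Z`. -/
theorem two_fixed {S T : Sylow 2 G} (hST : S ≠ T) {g : G} (hS : g • S = S) (hT : g • T = T) :
    g ∈ centralizer (Z : Set G) := by
  haveI : Fact (Nat.Prime 2) := ⟨Nat.prime_two⟩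
  obtain ⟨a, b, k, hk, hb, hab, ha, -⟩ := exists_parts g
  have hfix : ∀ U : Sylow 2 G, g • U = U → a • U = U := fun U hU =>
    MulAction.mem_stabilizer_iff.1 (zpowers_le.2 (MulAction.mem_stabilizer_iff.2 hU) ha)
  haveI := h.setup.ci S T hST
  have haST : a ∈ (S : Subgroup G) ⊓ (T : Subgroup G) :=
    mem_inf.2 ⟨mem_sylow_of_normalizes S hk (hfix S hS), mem_sylow_of_normalizes T hk (hfix T hT)⟩
  rw [hab]
  exact mul_mem (mem_centralizer_iff.2 fun z hz => comm_of_mem_cyclic this
    (mem_inf.2 ⟨h.setup.z_le S hz, h.setup.z_le T hz⟩) haST) (h.setup.odd_centralizes hb)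

theorem false_of_noncentral : False := by
  classical
  haveI : Fact (Nat.Prime 2) := ⟨Nat.prime_two⟩
  haveI := h.setup.z_normal
  set π := QuotientGroup.mk' Z with hπ
  have hker : Z ≤ (MulAction.toPermHom G (Sylow 2 G)).ker := by
    intro z hz
    refine Equiv.ext fun T => ?_
    exact Sylow.smul_eq_iff_mem_normalizer.2 (le_normalizer (h.setup.z_le T hz))
  letI : MulAction (G ⧸ Z) (Sylow 2 G) := MulAction.compHom _ (QuotientGroup.lift Z _ hker)
  have hsmul : ∀ (g : G) (T : Sylow 2 G), π g • T = g • T := fun g T => rfl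
  haveI : Nontrivial (Sylow 2 G) := by
    obtain ⟨T, hT⟩ := exists_sylow_ne h.setup.ns (default : Sylow 2 G)
    exact ⟨⟨T, default, hT⟩⟩
  let J : G ⧸ Z → Prop := fun u => ∃ i : G, orderOf i = 2 ∧ i ∉ Z ∧ π i = u
  let pt : G ⧸ Z → Sylow 2 G := fun u => if e : ∃ T : Sylow 2 G, u • T = T then e.choose else default
  have hJfix : ∀ u, J u → u • pt u = pt u := by
    rintro u ⟨i, hi, hiZ, rfl⟩
    obtain ⟨S, hS, -⟩ := h.invol_sylow hi hiZ
    have e : ∃ T : Sylow 2 G, π i • T = T := ⟨S, hS⟩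
    simp only [pt, dif_pos e]
    exact e.choose_spec
  have hJuniq : ∀ u a, J u → u • a = a → a = pt u := by
    rintro u a ⟨i, hi, hiZ, rfl⟩ ha
    obtain ⟨S, -, hS⟩ := h.invol_sylow hi hiZ
    exact (hS a ha).trans (hS _ (hJfix _ ⟨i, hi, hiZ, rfl⟩)).symm
  have hJinv : ∀ u, J u → orderOf u = 2 := by
    rintro u ⟨i, hi, hiZ, rfl⟩
    refine orderOf_eq_prime ?_ (fun e => hiZ ((QuotientGroup.eq_one_iff i).1 e))
    rw [← map_pow, show i ^ 2 = 1 by rw [← hi]; exact pow_orderOf_eq_one i, map_one]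
  have hcomm : ∀ (i : G) (z : G), i ∈ centralizer (Z : Set G) → z ∈ Z → i * z = z * i :=
    fun i z hi hz => (mem_centralizer_iff.1 hi z hz).symm
  have hctx : H80.SE.Ctx J pt := by
    refine ⟨hJinv, ?_, ?_, hJfix, hJuniq, ?_, ?_, ?_, ?_⟩
    · rintro u g ⟨i, hi, hiZ, rfl⟩
      obtain ⟨g, rfl⟩ := QuotientGroup.mk'_surjective Z g
      exact ⟨g * i * g⁻¹, (orderOf_injective (MulAut.conj g).toMonoidHom (MulAut.conj g).injective i).trans hi,
        fun hm => hiZ (by simpa [mul_assoc] using h.setup.z_normal.conj_mem _ hm g⁻¹),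
        by simp [π]⟩
    · rintro u v ⟨i, hi, hiZ, rfl⟩ ⟨j, hj, hjZ, rfl⟩ hc hne
      have hiC := h.invol_centralizes hi hiZ
      set ζ := i * j * i⁻¹ * j⁻¹ with hζ
      have hζZ : ζ ∈ Z := by
        rw [← QuotientGroup.eq_one_iff]
        show π ζ = 1
        simp only [hζ, map_mul, map_inv]
        rw [hc.eq]; group
      have e1 : i * j * i⁻¹ = ζ * j := by rw [hζ]; group
      have hii : i * i = 1 := H70.mul_self_of_two hi
      have hjj : j * j = 1 := H70.mul_self_of_two hj
      have hsqp : (i * j) * (i * j) = ζ := by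
        calc (i * j) * (i * j) = (i * j * i⁻¹) * (i * i) * j := by group
          _ = ζ * (j * j) := by rw [e1, hii, mul_one, mul_assoc]
          _ = ζ := by rw [hjj, mul_one]
      have hζ2 : ζ * ζ = 1 := by
        have h2 : j = ζ * ζ * j := by
          calc j = i * (i * j * i⁻¹) * i⁻¹ := by
                rw [show i * (i * j * i⁻¹) * i⁻¹ = (i * i) * j * (i * i)⁻¹ by group, hii]; group
            _ = (i * ζ) * j * i⁻¹ := by rw [e1]; group
            _ = ζ * (i * j * i⁻¹) := by rw [hcomm i ζ hiC hζZ]; group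
            _ = ζ * ζ * j := by rw [e1]; exact (mul_assoc _ _ _).symm
        exact mul_eq_right.1 h2.symm
      have hne' : i * j ∉ Z := by
        intro hm
        refine hne ?_
        rw [← QuotientGroup.eq_one_iff, ← QuotientGroup.mk'_apply, map_mul,
          mul_eq_one_iff_eq_inv] at hm
        rwa [H70.inv_eq_self_of_two (hJinv _ ⟨j, hj, hjZ, rfl⟩)] at hm
      have hijC : i * j ∈ centralizer (Z : Set G) :=
        mul_mem hiC (h.invol_centralizes hj hjZ)
      obtain ⟨ξ, hξ, hξ2⟩ : ∃ ξ ∈ Z, ξ * ξ = ζ := by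
        by_cases h1 : ζ = 1
        · exact ⟨1, one_mem _, by rw [one_mul, h1]⟩
        · obtain ⟨ξ, hξ, hξ4⟩ := h.exists_four
          refine ⟨ξ, hξ, ?_⟩
          rw [← sq]
          exact invol_unique h.setup.z_cyclic (pow_mem hξ 2) hζZ
            (by rw [orderOf_pow_of_dvd two_ne_zero (by rw [hξ4]; norm_num), hξ4])
            (orderOf_eq_prime (by rw [sq, hζ2]) h1)
      refine ⟨i * j * ξ⁻¹, orderOf_eq_prime ?_ ?_, ?_, ?_⟩
      · have hc' : Commute (i * j) ξ⁻¹ := hcomm _ _ hijC (inv_mem hξ)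
        rw [hc'.mul_pow, sq, sq, hsqp, ← mul_inv_rev, hξ2, mul_inv_cancel]
      · intro e
        exact hne' (by rw [mul_inv_eq_one] at e; exact e ▸ hξ)
      · intro hm
        exact hne' (by simpa using mul_mem hm hξ)
      · rw [map_mul, map_mul, map_inv, show π ξ = 1 from (QuotientGroup.eq_one_iff ξ).2 hξ, inv_one,
          mul_one]
    · intro a
      obtain ⟨i, hi, hiZ, -⟩ := h.exists_invol_centralizing
      obtain ⟨S, hS, -⟩ := h.invol_sylow hi hiZ
      obtain ⟨g, hg⟩ := MulAction.exists_smul_eq G S a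
      have hJ : J (π (g * i * g⁻¹)) := ⟨g * i * g⁻¹,
        (orderOf_injective (MulAut.conj g).toMonoidHom (MulAut.conj g).injective i).trans hi,
        fun hm => hiZ (by simpa [mul_assoc] using h.setup.z_normal.conj_mem _ hm g⁻¹), rfl⟩
      refine ⟨_, hJ, (hJuniq _ a hJ ?_).symm⟩
      rw [hsmul, ← hg, ← mul_smul, inv_mul_cancel_right, mul_smul, hS]
    · rintro u v ⟨i, hi, hiZ, rfl⟩ ⟨j, hj, hjZ, rfl⟩ hne
      obtain ⟨n, hn, hnZ⟩ := (h.pair hi hj hiZ hjZ (hJfix _ ⟨i, hi, hiZ, rfl⟩)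
        (hJfix _ ⟨j, hj, hjZ, rfl⟩) hne).2 (h.invol_centralizes hi hiZ)
      refine hn.of_dvd_nat (orderOf_dvd_of_pow_eq_one ?_)
      rw [← map_mul, ← map_pow]
      exact (QuotientGroup.eq_one_iff _).2 hnZ
    · intro a b hab
      let St' : Subgroup (G ⧸ Z) := MulAction.stabilizer (G ⧸ Z) a ⊓ MulAction.stabilizer (G ⧸ Z) b
      have hcyc : ∀ P : Subgroup St', IsPGroup 2 P → IsCyclic P := by
        intro P hP
        set P' := P.map St'.subtype
        set W := P'.comap π with hW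
        have hWp : IsPGroup 2 W := (hP.map St'.subtype).comap_of_ker_isPGroup π
          (by rw [QuotientGroup.ker_mk']; exact h.setup.z_pgroup)
        have hWle : W ≤ (a : Subgroup G) ⊓ (b : Subgroup G) := by
          intro g hg
          obtain ⟨x, -, hx⟩ := mem_map.1 (mem_comap.1 hg)
          have hfix : π g • a = a ∧ π g • b = b := by
            rw [← hx]; exact ⟨(mem_inf.1 x.2).1, (mem_inf.1 x.2).2⟩
          obtain ⟨k, hk⟩ := orderOf_two_pow hWp hg
          exact mem_inf.2 ⟨mem_sylow_of_normalizes a hk hfix.1, mem_sylow_of_normalizes b hk hfix.2⟩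
        haveI := h.setup.ci a b hab
        haveI hWc : IsCyclic W := isCyclic_of_injective (Subgroup.inclusion hWle) (Subgroup.inclusion_injective _)
        haveI hWm : IsCyclic (W.map π) := isCyclic_of_surjective (π.subgroupMap W) (π.subgroupMap_surjective W)
        have e : W.map π = P' := map_comap_eq_self_of_surjective (QuotientGroup.mk'_surjective Z) P'
        rw [e] at hWm
        exact isCyclic_of_surjective (equivMapOfInjective P St'.subtype St'.subtype_injective).symm.toMonoidHom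
          (equivMapOfInjective P St'.subtype St'.subtype_injective).symm.surjective
      obtain ⟨K, hK, hKmem⟩ := exists_core (H := St') hcyc
      refine ⟨K.map St'.subtype, ?_, by rwa [Subgroup.card_map_of_injective St'.subtype_injective], fun d hda hdb hd => ?_⟩
      · rintro _ ⟨x, -, rfl⟩
        exact ⟨(mem_inf.1 x.2).1, (mem_inf.1 x.2).2⟩
      · exact ⟨⟨d, mem_inf.2 ⟨hda, hdb⟩⟩, hKmem _ (by rwa [← Subgroup.orderOf_coe]), rfl⟩
    · rintro u v a ⟨i, hi, hiZ, rfl⟩ ⟨j, hj, hjZ, rfl⟩ hne hsw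
      obtain ⟨c, b, k, hk, hb, hcb, hc, -⟩ := exists_parts (i * j)
      have hii : i • i • a = a := by rw [← mul_smul, H70.mul_self_of_two hi, one_smul]
      have hji : j • a = i • a := hsw
      have hfa : (i * j) • a = a := by rw [mul_smul, hji, hii]
      have hfb : (i * j) • (i • a) = i • a := by
        rw [mul_smul, ← hji, ← mul_smul j j, H70.mul_self_of_two hj, one_smul, hji]
      have hfix : ∀ U : Sylow 2 G, (i * j) • U = U → c • U = U := fun U hU =>
        MulAction.mem_stabilizer_iff.1 (zpowers_le.2 (MulAction.mem_stabilizer_iff.2 hU) hc)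
      have hinv : i * c * i⁻¹ = c⁻¹ := by
        obtain ⟨m, hm⟩ := mem_zpowers_iff.1 hc
        rw [← hm, ← conj_zpow, H70.semiconj_prod hi hj, inv_zpow]
      have hcZ := h.two_part_mem (Ne.symm hne) hk (hfix a hfa) (hfix _ hfb)
        (h.invol_centralizes hi hiZ) hinv
      rw [← map_mul, hcb, map_mul, show π c = 1 from (QuotientGroup.eq_one_iff c).2 hcZ, one_mul]
      exact hb.of_dvd_nat (orderOf_map_dvd π b)
  -- the number of involutions with a given fixed point is odd and not one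
  obtain ⟨a₀, b₀, hab₀⟩ := exists_pair_ne (Sylow 2 G)
  set m := H80.SE.mAt J pt a₀ with hm
  have hmodd : Odd m := by
    obtain ⟨D, h1, h2, h3⟩ := hctx.core a₀ b₀ hab₀
    obtain ⟨u, hu, hua⟩ := hctx.exists_swap hab₀
    obtain ⟨-, hcard⟩ := hctx.core_spec hab₀ hu hua h1 h2 h3
    exact h2.of_dvd_nat (hm ▸ hcard ▸ relIndex_dvd_card _ D)
  have hm1 : m ≠ 1 := by
    intro h1
    obtain ⟨u, hu, hua⟩ := hctx.surj a₀
    have hsingle : ∀ v, J v → pt v = pt u → v = u := by
      intro v hv hpt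
      have hsub : Subsingleton {t : G ⧸ Z // J t ∧ pt t = a₀} := (Nat.card_eq_one_iff_unique.1 h1).1
      exact congrArg Subtype.val (hsub.elim ⟨v, hv, hpt.trans hua⟩ ⟨u, hu, hua⟩)
    have hiso : Cfsg.IsIsolatedInvolution u := by
      refine ⟨hJinv u hu, fun g hg => ?_⟩
      exact hsingle _ (hctx.conj u g hu) (hctx.pt_eq_of_commute (hctx.conj u g hu) hu hg.symm)
    have hcentral : ∀ g, g * u = u * g := by
      intro g
      have hz := H85.zStar hiso g
      have hbot : Cfsg.pPrimeCore 2 (G ⧸ Z) = ⊥ :=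
        h.core_quot _ H10.pPrimeCore_normal (Nat.coprime_two_right.1 H10.pPrimeCore_coprime)
      rw [hbot, mem_bot, mul_inv_eq_one, mul_inv_eq_iff_eq_mul] at hz
      exact hz.symm
    obtain ⟨T, hT⟩ := exists_sylow_ne h.setup.ns a₀
    obtain ⟨g, hg⟩ := MulAction.exists_smul_eq G a₀ T
    refine hT ?_
    rw [← hua] at hg ⊢
    refine hJuniq u T hu ?_
    rw [← hg, ← hsmul g, ← mul_smul, ← hcentral, mul_smul, hJfix u hu]
  obtain ⟨p, hp, hpm⟩ := Nat.exists_prime_and_dvd hm1
  have hp2 : p ≠ 2 := by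
    rintro rfl
    exact Nat.not_even_iff_odd.2 hmodd (even_iff_two_dvd.2 hpm)
  haveI := Fact.mk hp
  have E : H80.SE.Hyp J pt p := by
    refine ⟨hctx, hp, hp2, inferInstance, fun a => (hctx.mAt_const a₀ a) ▸ hpm, ?_⟩
    intro v X hv hX hfix hvX hidx
    obtain ⟨i, hi, hiZ, rfl⟩ := hv
    set S := pt (π i)
    have hiS : i • S = S := hJfix _ ⟨i, hi, hiZ, rfl⟩
    have hcent : X ≤ centralizer ({π i} : Set (G ⧸ Z)) := by
      intro x hx
      obtain ⟨g, rfl⟩ := QuotientGroup.mk'_surjective Z x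
      have hgS : g • S = S := hfix _ hx
      set c := g * i * g⁻¹ * i⁻¹ with hc
      have hcS : c ∈ (S : Subgroup G) := by
        have hiS' : i ∈ (S : Subgroup G) := mem_sylow_of_normalizes S (k := 1) (by simpa using hi) hiS
        exact mul_mem ((mem_normalizer_iff.1 (Sylow.smul_eq_iff_mem_normalizer.1 hgS) i).1 hiS')
          (inv_mem hiS')
      have hcX : π c ∈ X := by
        have h2 : π i * (π g)⁻¹ * (π i)⁻¹ ∈ X := (mem_normalizer_iff.1 hvX _).1 (inv_mem hx)
        have := mul_mem hx h2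
        rw [show π c = π g * (π i * (π g)⁻¹ * (π i)⁻¹) by simp only [hc, map_mul, map_inv]; group]
        exact this
      obtain ⟨k, hk⟩ := orderOf_two_pow S.isPGroup' hcS
      obtain ⟨l, hl⟩ := IsPGroup.iff_orderOf.mp hX ⟨π c, hcX⟩
      rw [orderOf_mk] at hl
      have h1 : orderOf (π c) = 1 := Nat.eq_one_of_dvd_coprimes (a := 2 ^ k) (b := p ^ l)
        (((Nat.coprime_primes Nat.prime_two hp).2 (Ne.symm hp2)).pow k l) (hk ▸ orderOf_map_dvd π c)
        (hl ▸ dvd_rfl)
      rw [orderOf_eq_one_iff] at h1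
      simp only [hc, map_mul, map_inv] at h1
      rw [mul_inv_eq_one, mul_inv_eq_iff_eq_mul] at h1
      exact mem_centralizer_singleton_iff.2 h1
    rw [H80.SE.invIdx, relIndex_eq_one.2 hcent, hctx.mAt_const S a₀, ← hm] at hidx
    have hpos := hp.factorization_pos_of_dvd (fun h0 => hm1 (absurd hmodd (by rw [h0]; decide))) hpm
    exact absurd hidx.symm (Nat.one_lt_pow hpos.ne' hp.one_lt).ne'
  obtain ⟨x, hxC, k, hk⟩ := h.out
  obtain ⟨S, hS⟩ := (zpowers_isPGroup hk).exists_le_sylow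
  have hxS : x • S = S := Sylow.smul_eq_iff_mem_normalizer.2 (le_normalizer (hS (mem_zpowers x)))
  obtain ⟨T, hT⟩ := exists_sylow_ne h.setup.ns S
  have hxT : S ≠ x • T := fun e => hT (smul_left_cancel x (e.symm.trans hxS.symm))
  obtain ⟨y, hyK, hyS, hyT⟩ := E.transitive ((centralizer (Z : Set G)).map π) (fun q hq => by
    obtain ⟨g, rfl⟩ := QuotientGroup.mk'_surjective Z q
    obtain ⟨a, b, l, hl, hb, hab, hag, -⟩ := exists_parts g
    have ha : π a = 1 := by
      rw [← orderOf_eq_one_iff]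
      refine Nat.eq_one_of_dvd_coprimes ((Nat.coprime_two_left.2 hq).pow_left l) (hl ▸ orderOf_map_dvd π a) ?_
      obtain ⟨n, rfl⟩ := mem_zpowers_iff.1 hag
      exact orderOf_dvd_of_mem_zpowers (by rw [map_zpow]; exact zpow_mem (mem_zpowers _) n)
    exact ⟨b, h.setup.odd_centralizes hb, by rw [hab, map_mul, ha, one_mul]⟩)
    hxT (Ne.symm hT)
  obtain ⟨g, hg, rfl⟩ := hyK
  refine hxC ?_
  have hgx : g * x ∈ centralizer (Z : Set G) := h.two_fixed (Ne.symm hT)
    (by rw [mul_smul, hxS, ← hsmul]; exact hyS) (by rw [mul_smul, ← hsmul]; exact hyT)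
  simpa using mul_mem (inv_mem hg) hgx

end Noncentral

/-- In the core-free case every solvable normal subgroup lies in the central cyclic `O₂(G)`. -/
theorem solvable_normal_le (hC : IsCI G) (hns : ¬ Group.IsSolvable G) (hO : Cfsg.oddCore G = ⊥)
    {N : Subgroup G} [hNn : N.Normal] (hN : Group.IsSolvable N) :
    IsCyclic N ∧ IsPGroup 2 N ∧ N ≤ center G := by
  haveI : Fact (Nat.Prime 2) := ⟨Nat.prime_two⟩
  set Z := Cfsg.pCore 2 G
  have h : Setup G Z := ⟨hC, hns, hO, rfl⟩
  haveI := h.z_normal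
  have hcentre : Z ≤ center G := by
    by_contra hz
    exact (noncentral_of_not_le h hz).false_of_noncentral
  -- odd-order normal subgroups are trivial
  have hodd : ∀ M : Subgroup G, M.Normal → Odd (Nat.card M) → M = ⊥ := fun M hM ho =>
    le_bot_iff.1 ((H10.le_pPrimeCore hM (Nat.coprime_two_right.2 ho)).trans
      (le_of_eq (show Cfsg.pPrimeCore 2 G = ⊥ from hO)))
  have hle : N ≤ Z := by
    by_contra hnle
    -- the last term of the derived series of `N` not inside `Z`
    set d : ℕ → Subgroup G := fun n => (derivedSeries N n).map N.subtype with hd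
    have hd0 : d 0 = N := by simp [hd, ← MonoidHom.range_eq_map]
    obtain ⟨n, hn⟩ : ∃ n, d n ≤ Z := by
      obtain ⟨n, hn⟩ := (Group.isSolvable_def N).1 hN
      exact ⟨n, by simp [hd, hn]⟩
    obtain ⟨k, hk, hk'⟩ : ∃ k, ¬ d k ≤ Z ∧ d (k + 1) ≤ Z := by
      by_contra hcon
      push Not at hcon
      have : ∀ j, ¬ d j ≤ Z := fun j => by
        induction j with
        | zero => rwa [hd0]
        | succ j ih => exact hcon j ih
      exact this n hn
    set D := d k with hD
    have hDn : D.Normal := H10.map_subtype_normal hNn _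
    have hDD : ⁅D, D⁆ ≤ center G := by
      refine le_trans (le_of_eq ?_) (hk'.trans hcentre)
      rw [hD, hd, ← map_commutator]
      rfl
    haveI : Group.IsNilpotent D := by
      refine Subgroup.isNilpotent_of_ker_le_center (Abelianization.of (G := D)) ?_
      rw [Abelianization.ker_of]
      intro x hx
      rw [mem_center_iff]
      intro y
      have hxD : (x : G) ∈ ⁅D, D⁆ := by
        have h1 : x.1 ∈ (commutator D).map D.subtype := mem_map_of_mem _ hx
        rwa [commutator_def, map_commutator, ← MonoidHom.range_eq_map, range_subtype] at h1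
      exact Subtype.ext (mem_center_iff.1 (hDD hxD) y)
    have hDp : IsPGroup 2 D := by
      intro x
      obtain ⟨a, b, l, hl, hb, hab, ha, hb'⟩ := exists_parts x
      suffices b = 1 by exact ⟨l, by rw [hab, this, mul_one, ← hl, pow_orderOf_eq_one]⟩
      by_contra hb1
      obtain ⟨q, hq, hqb⟩ := Nat.exists_prime_and_dvd (fun e => hb1 (orderOf_eq_one_iff.1 e))
      haveI := Fact.mk hq
      obtain ⟨Q⟩ : Nonempty (Sylow q D) := inferInstance
      have hQn : (Q : Subgroup D).Normal :=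
        Q.normal_of_normalizerCondition Group.normalizerCondition_of_isNilpotent
      haveI := Q.characteristic_of_normal hQn
      have hQ1 : ((Q : Subgroup D).map D.subtype) = ⊥ := by
        refine hodd _ (H10.map_subtype_normal hDn _) ?_
        rw [Subgroup.card_map_of_injective D.subtype_injective]
        obtain ⟨j, hj⟩ := IsPGroup.iff_card.mp Q.isPGroup'
        rw [hj]
        exact (hb.of_dvd_nat hqb).pow
      rw [map_eq_bot_iff_of_injective _ D.subtype_injective] at hQ1
      have hnd : ¬ q ∣ (Q : Subgroup D).index := Q.not_dvd_index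
      rw [hQ1, index_bot] at hnd
      exact hnd (hqb.trans (orderOf_dvd_natCard b))
    exact hk ((H10.le_pCore hDn hDp).trans le_rfl)
  haveI := h.z_cyclic
  exact ⟨isCyclic_of_injective (Subgroup.inclusion hle) (Subgroup.inclusion_injective hle),
    h.z_pgroup.to_le hle, hle.trans hcentre⟩

omit [Finite G] in
/-- The image of a Sylow subgroup of a preimage is everything. -/
theorem map_sylowIn_comap [Finite G] {H : Type*} [Group H] (π : G →* H) (hπ : Function.Surjective π)
    {K : Subgroup H} (hK : IsPGroup 2 K) {P : Subgroup G} (hP : H82.SylowIn 2 P (K.comap π)) :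
    P.map π = K := by
  haveI : Fact (Nat.Prime 2) := ⟨Nat.prime_two⟩
  haveI : Finite H := Finite.of_surjective π hπ
  have hle : P.map π ≤ K := map_le_iff_le_comap.2 hP.le
  have h1 : (P.map π).relIndex K ∣ P.relIndex (K.comap π) := by
    have := relIndex_map_map π P (K.comap π)
    rw [map_comap_eq_self_of_surjective hπ] at this
    rw [this]
    exact relIndex_dvd_of_le_left _ le_sup_left |>.trans
      (by rw [sup_eq_left.2 (ker_le_comap π K)])
  obtain ⟨m, hm⟩ := IsPGroup.iff_card.mp hK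
  have h2 : (P.map π).relIndex K ∣ 2 ^ m := hm ▸ relIndex_dvd_card _ _
  obtain ⟨j, -, hj⟩ := (Nat.dvd_prime_pow Nat.prime_two).1 h2
  rcases Nat.eq_zero_or_pos j with rfl | hpos
  · exact le_antisymm hle (relIndex_eq_one.1 (by rw [hj, pow_zero]))
  · exact absurd ((dvd_pow_self 2 hpos.ne').trans (hj ▸ h1)) hP.not_dvd

/-- The hypothesis passes to quotients. -/
theorem isCI_map {H : Type*} [Group H] [Finite H] (π : G →* H) (hπ : Function.Surjective π)
    (hC : IsCI G) : IsCI H := by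
  haveI : Fact (Nat.Prime 2) := ⟨Nat.prime_two⟩
  intro S T hne
  set K : Subgroup H := (S : Subgroup H) ⊓ (T : Subgroup H)
  have hK : IsPGroup 2 K := S.isPGroup'.to_le inf_le_left
  obtain ⟨P, hP⟩ := H82.exists_sylowIn 2 (K.comap π)
  have hlift : ∀ U : Sylow 2 H, K ≤ (U : Subgroup H) →
      ∃ U' : Sylow 2 G, P ≤ (U' : Subgroup G) ∧ (U : Subgroup H) = (U' : Subgroup G).map π := by
    intro U hKU
    obtain ⟨R, hR, hPR⟩ := H82.exists_sylowIn_ge hP.isPGroup (hP.le.trans (comap_mono hKU))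
    obtain ⟨U', hU'⟩ := hR.isPGroup.exists_le_sylow
    refine ⟨U', hPR.trans hU', ?_⟩
    have h1 : (U : Subgroup H) ≤ (U' : Subgroup G).map π :=
      (map_sylowIn_comap π hπ U.isPGroup' hR).ge.trans (map_mono hU')
    exact (U.3 (U'.isPGroup'.map π) h1).symm
  obtain ⟨S', hS', hSe⟩ := hlift S inf_le_left
  obtain ⟨T', hT', hTe⟩ := hlift T inf_le_right
  have hne' : S' ≠ T' := fun e => hne (Sylow.ext (by rw [hSe, hTe, e]))
  haveI := hC S' T' hne'
  haveI : IsCyclic P := isCyclic_of_injective (Subgroup.inclusion (le_inf hS' hT'))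
    (Subgroup.inclusion_injective _)
  haveI h2 : IsCyclic (P.map π) :=
    isCyclic_of_surjective (π.subgroupMap P) (π.subgroupMap_surjective P)
  rwa [map_sylowIn_comap π hπ hK hP] at h2

end Core

end H80.CI
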