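import Cfsg.Agent.H80.Blocks
import Mathlib.FieldTheory.Finite.Basic

/-!
Minimal offenders in a `p`-group commute, and the elements trivial on the factors of the flag of
a minimal offender lie in it.
-/

set_option autoImplicit false
set_option linter.unusedSectionVars false

open Subgroup H73
open scoped MatrixGroups

namespace H80.LFF

/-- A derivation of a finite field vanishes. -/
theorem deriv_zero {F : Type} [Field F] [Fintype F] (f : F → F)
    (hmul : ∀ x y, f (x * y) = x * f y + y * f x) (x : F) : f x = 0 := by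
  have h1 : f 1 = 0 := by simpa using hmul 1 1
  have hpow : ∀ n : ℕ, f (x ^ (n + 1)) = (n + 1 : ℕ) * x ^ n * f x := by
    intro n
    induction n with
    | zero => simp
    | succ n ih => rw [pow_succ' x (n + 1), hmul, ih]; push_cast; ring
  obtain ⟨m, hm⟩ := Nat.exists_eq_succ_of_ne_zero (Fintype.card_ne_zero (α := F))
  have h := hpow m
  rw [show m + 1 = Fintype.card F by omega, FiniteField.pow_card, FiniteField.cast_card_eq_zero,
    zero_mul, zero_mul] at h
  exact h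

/-- An additive map twisted invariantly by the torus is linear. -/
theorem torus_linear {F : Type} [Field F] (h2 : (2 : F) ≠ 0) (f : F → F)
    (hadd : ∀ x y, f (x + y) = f x + f y)
    (htw : ∀ t : F, t ≠ 0 → ∃ s, ∀ y, t * f (t * y) = f y + s * y) (y : F) : f y = f 1 * y := by
  set g : F → F := fun y => f y - f 1 * y with hg
  have gadd : ∀ x y, g (x + y) = g x + g y := fun x y => by simp only [hg, hadd]; ring
  have g0 : g 0 = 0 := by have := gadd 0 0; simpa using this
  have g1 : g 1 = 0 := by simp [hg]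
  have gneg : ∀ x, g (-x) = -g x := fun x => eq_neg_of_add_eq_zero_left (by rw [← gadd, neg_add_cancel, g0])
  have key : ∀ t y : F, t ≠ 0 → t * g (t * y) = g y + t * g t * y := by
    intro t y ht
    obtain ⟨s, hs⟩ := htw t ht
    have e1 := hs 1
    have e2 := hs y
    simp only [mul_one] at e1
    simp only [hg]
    linear_combination e2 - y * e1
  have hsym : ∀ t y : F, t ≠ 0 → y ≠ 0 → y * g y * (1 - t * t) = t * g t * (1 - y * y) := by
    intro t y ht hy
    have e1 := key t y ht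
    have e2 := key y t hy
    rw [mul_comm y t] at e2
    linear_combination (t : F) * e2 - y * e1
  suffices g y = 0 by simpa [hg, sub_eq_zero] using this
  by_cases hy : y * y = 1
  · rcases mul_self_eq_one_iff.1 hy with rfl | rfl
    · exact g1
    · rw [gneg, g1, neg_zero]
  rcases eq_or_ne y 0 with rfl | hy0
  · exact g0
  have hy1 : y + 1 ≠ 0 := fun h => hy (by rw [eq_neg_of_add_eq_zero_left h]; ring)
  have hy2 : -y + 1 ≠ 0 := fun h => hy (by
    rw [← neg_mul_neg, eq_neg_of_add_eq_zero_left h]; ring)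
  have hyy : (1 : F) - y * y ≠ 0 := sub_ne_zero.2 (Ne.symm hy)
  have hneg : g (-y) = -g y := gneg y
  have e1 := hsym y (y + 1) hy0 hy1
  have e2 := hsym y (-y + 1) hy0 hy2
  rw [gadd, g1, add_zero] at e1 e2
  rw [hneg] at e2
  have h3 : g y * ((2 : F) * y) = 0 := by linear_combination e1 + e2
  rcases mul_eq_zero.1 h3 with h | h
  · exact h
  · exact absurd h (mul_ne_zero h2 hy0)

universe uH uV

variable {p : ℕ} [Fact p.Prime] {H : Type uH} [Group H] [Finite H] {V : Type uV} [AddCommGroup V]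
  [Finite V] [DistribMulAction H V] [FaithfulSMul H V]

theorem cj_sq_imp (hp : p ≠ 2) {g : H} {A : Subgroup H} (hg : ∃ k, g ^ p ^ k = 1)
    (h : cj (g * g) A = A) : cj g A = A := by
  obtain ⟨k, hk⟩ := hg
  obtain ⟨m, hm⟩ := ((Fact.out : p.Prime).odd_of_ne_two hp).pow (n := k)
  have h1 := mem_normalizer_iff_cj.2 h
  have h2 : g = ((g * g) ^ m)⁻¹ := by
    rw [eq_inv_iff_mul_eq_one, ← pow_two, ← pow_mul, ← pow_succ', ← hm, hk]
  exact mem_normalizer_iff_cj.1 (h2 ▸ inv_mem (pow_mem h1 m))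

namespace Blk

variable {A : Subgroup H} {B : Blk V A}

theorem quot {g g' : H} {β β' : B.F → B.F} {ψ ψ' : fx V B.X → B.F}
    {δ δ' : fx V B.X → fx V B.X} {γ γ' : B.F → fx V B.X}
    (h : B.Frm g β ψ δ γ) (h' : B.Frm g' β' ψ' δ' γ') :
    ∃ β₀ ψ₀ δ₀ γ₀, B.Frm (g * g'⁻¹) β₀ ψ₀ δ₀ γ₀ := by
  have hl : ∀ x, g • B.e ((x, 0), 0) = B.e ((x, 0), 0) := fun x => by
    rw [h.app]; simp [h.β_zero, h.ψ_zero, h.δ_zero, h.γ_zero]
  have hl' : ∀ x, g' • B.e ((x, 0), 0) = B.e ((x, 0), 0) := fun x => by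
    rw [h'.app]; simp [h'.β_zero, h'.ψ_zero, h'.δ_zero, h'.γ_zero]
  have him : ∀ {k : H} {b : B.F → B.F} {u : fx V B.X → B.F} {d : fx V B.X → fx V B.X}
      {w : B.F → fx V B.X}, B.Frm k b u d w → ∀ v, k • v - v ∈ fx V A := by
    intro k b u d w hk v
    obtain ⟨x, y, c, rfl⟩ := B.exists_eq v
    rw [hk.app, B.e_sub, sub_self]
    exact B.mem_fx_iff.2 ⟨_, _, rfl⟩
  refine exists_frm (fun x => ?_) fun v => ?_
  · rw [mul_smul, inv_smul_eq_iff.2 (hl' x).symm, hl]
  · rw [mul_smul, ← sub_add_sub_cancel _ (g'⁻¹ • v)]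
    refine add_mem (him h _) ?_
    have := neg_mem (him h' (g'⁻¹ • v))
    rwa [smul_inv_smul, neg_sub] at this

theorem Frm.congr {g g' : H} {β : B.F → B.F} {ψ : fx V B.X → B.F} {δ : fx V B.X → fx V B.X}
    {γ : B.F → fx V B.X} (h : B.Frm g β ψ δ γ) (e : g = g') : B.Frm g' β ψ δ γ := e ▸ h

theorem Frm.dconj {g : H} {β : B.F → B.F} {ψ : fx V B.X → B.F} {δ : fx V B.X → fx V B.X}
    {γ : B.F → fx V B.X} (h : B.Frm g β ψ δ γ) (t : B.Fˣ) :
    B.Frm (B.d t * g * (B.d t)⁻¹) (fun y => t * β (t * y)) (fun c => t * ψ c) δ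
      (fun y => γ (t * y)) where
  app x y c := by
    have hd : (B.d t)⁻¹ • B.e ((x, y), c) =
        B.e ((((t⁻¹ : B.Fˣ) : B.F) * x, (t : B.F) * y), c) := by
      rw [inv_smul_eq_iff, B.d_apply]
      simp
    rw [mul_smul, mul_smul, hd, h.app, B.d_apply]
    congr 2
    ext
    · simp [mul_add]
    · simp
  β_zero := by simp [h.β_zero]
  ψ_zero := by simp [h.ψ_zero]
  δ_zero := h.δ_zero
  γ_zero := by simp [h.γ_zero]

end Blk

namespace Hyp

variable {T M : Subgroup H} (hyp : Hyp p V T M)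
include hyp

theorem cm_le_fixX {A A' : Subgroup H} (hA : Mem V A) (B : Blk V A) (hA' : Mem V A') (hne : A ≠ A')
    (hc : Comm A A') : cm (⊤ : AddSubgroup V) A' ≤ fx V B.X := cm_le_iff.2 fun b hb u _ => by
  obtain ⟨x, y, c, rfl⟩ := B.exists_eq u
  obtain ⟨hW, hC⟩ := hyp.pair hA B hA' hne hc b hb
  rw [show B.e ((x, y), c) = B.e ((x, y), 0) + (c : V) by
    rw [← B.coe_eq, B.e_add, add_zero, add_zero, zero_add], smul_add, hW, add_sub_add_left_eq_sub]
  exact sub_mem (hC c) c.2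

/-- The orbit lemma. -/
theorem orbit {A : Subgroup H} (hA : Mem V A) {g : H} (hg : ∃ k, g ^ p ^ k = 1)
    (hc1 : Comm A (cj g A)) (hc2 : Comm A (cj (g * g) A))
    (hq : ∀ v ∈ cm (⊤ : AddSubgroup V) A, g • g • v - g • v = g • v - v) : cj g A = A := by
  by_contra hne
  obtain ⟨B⟩ := hyp.exists_blk hA
  have hv : B.e ((1, 0), 0) ∈ cm (⊤ : AddSubgroup V) A := B.mem_ln_iff.2 ⟨1, rfl⟩
  have h1 := hyp.cm_le_fixX hA B (hA.cn g) (Ne.symm hne) hc1 (cm_cj g hv)
  have h2 := hyp.cm_le_fixX hA B (hA.cn (g * g))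
    (fun e => hne (cj_sq_imp hyp.two hg e.symm)) hc2 (cm_cj (g * g) hv)
  rw [mul_smul] at h2
  have h3 : B.e ((1, 0), 0) ∈ fx V B.X := by
    have h4 : B.e ((1, 0), 0) =
        g • B.e ((1, 0), 0) + g • B.e ((1, 0), 0) - g • g • B.e ((1, 0), 0) := by
      rw [eq_add_of_sub_eq' (hq _ hv)]; abel
    rw [h4]
    exact sub_mem (add_mem h1 h1) h2
  have h5 := B.e_fix ⟨_, h3⟩
  exact zero_ne_one (B.inj h5).1

/-- Minimal offenders in one `p`-group commute. -/
theorem comm_of_pGroup {A A' : Subgroup H} (hA : Mem V A) (hA' : Mem V A')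
    (hP : IsPGroup p ↥(A ⊔ A')) : Comm A A' := by
  induction hn : Nat.card ↥(A ⊔ A') using Nat.strong_induction_on generalizing A A' with
  | _ n ih =>
  have key : ∀ {A₁ A₂ : Subgroup H}, Mem V A₁ → Mem V A₂ → A₁ ⊔ A₂ = A ⊔ A' →
      A₁ = A₂ ∨ A₂ ≤ normalizer (A₁ : Set H) := by
    intro A₁ A₂ h₁ h₂ he
    rcases eq_or_ne A₁ (A ⊔ A') with h | hne
    · refine Or.inr ?_
      rw [h, ← he]
      exact le_sup_right.trans le_normalizer
    refine Or.inr fun a ha => mem_normalizer_iff_cj.2 ?_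
    set P := A ⊔ A'
    have hA₁P : A₁ ≤ P := he ▸ le_sup_left
    have haP : a ∈ P := he ▸ mem_sup_right ha
    haveI : Group.IsNilpotent P := hP.isNilpotent
    obtain ⟨N, hN, hle⟩ := (eq_top_or_exists_le_coatom (A₁.subgroupOf P)).resolve_left fun h =>
      hne (le_antisymm hA₁P (subgroupOf_eq_top.1 h))
    haveI hNn : N.Normal := NormalizerCondition.normal_of_coatom N normalizerCondition_of_isNilpotent hN
    set N' := N.map P.subtype
    have hA₁N : A₁ ≤ N' := by
      rw [← map_subgroupOf_eq_of_le hA₁P]; exact map_mono hle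
    have hconj : ∀ k ∈ P, cj k A₁ ≤ N' := fun k hk => by
      refine (cj_mono hA₁N).trans ?_
      rintro _ ⟨_, ⟨y, hy, rfl⟩, rfl⟩
      exact ⟨_, hNn.conj_mem y hy ⟨k, hk⟩, rfl⟩
    have hlt : Nat.card N' < n := by
      rw [← hn, card_map_of_injective P.subtype_injective, ← Subgroup.card_top (G := P)]
      exact Set.Finite.card_lt_card (Set.toFinite _) (SetLike.coe_ssubset_coe.2 hN.lt_top)
    have hcomm : ∀ k ∈ P, Comm A₁ (cj k A₁) := fun k hk =>
      ih _ (lt_of_le_of_lt (card_le_of_le (sup_le hA₁N (hconj k hk))) hlt) h₁ (h₁.cn k)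
        (hP.to_le ((sup_le hA₁N (hconj k hk)).trans (map_subtype_le _))) rfl
    refine hyp.orbit h₁ ⟨1, by rw [pow_one]; exact h₂.quad.pow_eq_one hyp.exp ha⟩ (hcomm a haP)
      (hcomm _ (mul_mem haP haP)) fun v _ => ?_
    rw [h₂.quad.smul_smul ha ha]; abel
  rcases eq_or_ne A A' with rfl | hne
  · exact fun a ha b hb => hA.quad.comm ha hb
  have h1 := (key hA hA' rfl).resolve_left hne
  have h2 := (key hA' hA (sup_comm A' A)).resolve_left hne.symm
  intro a ha b hb
  have hc : a * b * a⁻¹ * b⁻¹ ∈ A ⊓ A' := by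
    constructor
    · have := mul_mem ha ((mem_normalizer_iff.1 (h1 hb) a⁻¹).1 (inv_mem ha))
      simpa [mul_assoc] using this
    · exact mul_mem ((mem_normalizer_iff.1 (h2 ha) b).1 hb) (A'.inv_mem hb)
  rw [hyp.inf_eq_bot hA hA' hne, mem_bot] at hc
  exact mul_inv_eq_iff_eq_mul.1 (mul_inv_eq_one.1 hc)

/-- Moving the line inside the fixed points either fixes the member or sends it into `C_V(X)`. -/
theorem move_line {A : Subgroup H} (hA : Mem V A) (B : Blk V A) {h : H}
    (hle : ∀ v ∈ cm (⊤ : AddSubgroup V) A, h • v ∈ fx V A) :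
    cj h A = A ∨ cm (⊤ : AddSubgroup V) (cj h A) ≤ fx V B.X := by
  rcases eq_or_ne (cj h A) A with he | hne
  · exact Or.inl he
  refine Or.inr (hyp.cm_le_fixX hA B (hA.cn h) hne.symm (hyp.comm_of_pGroup hA (hA.cn h) ?_))
  set L := cm (⊤ : AddSubgroup V) (cj h A)
  have hLA : L ≤ fx V A := by
    refine cm_le_iff.2 fun x hx u _ => ?_
    obtain ⟨a, ha, rfl⟩ := hx
    have h1 := hle _ (smul_sub_mem_cm ha (AddSubgroup.mem_top (h⁻¹ • u)))
    simpa [smul_sub, ← mul_smul, mul_assoc] using h1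
  let K : Subgroup H :=
    { carrier := {g | (∀ v, g • v - v ∈ fx V A) ∧ (∀ v ∈ fx V A, g • v - v ∈ L) ∧ ∀ v ∈ L, g • v = v}
      one_mem' := ⟨fun v => by rw [one_smul, sub_self]; exact zero_mem _,
        fun v _ => by rw [one_smul, sub_self]; exact zero_mem _, fun v _ => one_smul H v⟩
      mul_mem' := fun {a b} ha hb => ⟨fun v => by
          rw [mul_smul, ← sub_add_sub_cancel _ (b • v)]
          exact add_mem (ha.1 _) (hb.1 v),
        fun v hv => by
          rw [mul_smul, ← sub_add_sub_cancel _ (b • v)]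
          refine add_mem (ha.2.1 _ ?_) (hb.2.1 v hv)
          exact sub_add_cancel (b • v) v ▸ add_mem (hLA (hb.2.1 v hv)) hv,
        fun v hv => by rw [mul_smul, hb.2.2 v hv, ha.2.2 v hv]⟩
      inv_mem' := fun {a} ha => by
        have h0 : ∀ v : V, a⁻¹ • v - v = -(a • (a⁻¹ • v) - a⁻¹ • v) := fun v => by
          rw [smul_inv_smul, neg_sub]
        have h1 : ∀ v, a⁻¹ • v - v ∈ fx V A := fun v => h0 v ▸ neg_mem (ha.1 _)
        exact ⟨h1, fun v hv => h0 v ▸ neg_mem
          (ha.2.1 _ (sub_add_cancel (a⁻¹ • v) v ▸ add_mem (h1 v) hv)),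
          fun v hv => by rw [inv_smul_eq_iff, ha.2.2 v hv]⟩ }
  have hKp : IsPGroup p K := by
    intro g
    refine ⟨1, Subtype.ext ?_⟩
    rw [pow_one, Subgroup.coe_pow, Subgroup.coe_one]
    refine eq_of_smul_eq_smul fun v : V => ?_
    obtain ⟨m, hm⟩ := (Fact.out : p.Prime).odd_of_ne_two hyp.two
    set d := (g : H) • v - v
    set e := (g : H) • d - d
    have he : (g : H) • e = e := g.2.2.2 _ (g.2.2.1 _ (g.2.1 v))
    have hgd : (g : H) • d = d + e := by rw [add_sub_cancel]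
    have hgv : (g : H) • v = v + d := by rw [add_sub_cancel]
    have key : ∀ n : ℕ, (g : H) ^ n • v = v + n • d + (n.choose 2) • e := by
      intro n
      induction n with
      | zero => simp
      | succ n ih =>
        rw [pow_succ', mul_smul, ih, smul_add, smul_add, hgv,
          smul_comm (g : H) n d, hgd, smul_comm (g : H) (n.choose 2) e, he,
          Nat.choose_succ_succ, Nat.choose_one_right, succ_nsmul, smul_add, add_nsmul]
        abel
    rw [key, one_smul, hyp.exp, add_zero]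
    have hch : p.choose 2 = m * p := by
      rw [Nat.choose_two_right, hm, Nat.add_sub_cancel, mul_comm (2 * m + 1), mul_assoc,
        Nat.mul_div_cancel_left _ (by norm_num)]
    rw [hch, mul_nsmul, hyp.exp, add_zero]
  refine hKp.to_le (sup_le ?_ ?_)
  · exact fun a ha => ⟨hA.quad a ha, fun v hv => by rw [hv a ha, sub_self]; exact zero_mem _,
      fun v hv => hLA hv a ha⟩
  · intro x hx
    have hxL : ∀ v, x • v - v ∈ L := fun v => smul_sub_mem_cm hx (AddSubgroup.mem_top v)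
    exact ⟨fun v => hLA (hxL v), fun v _ => hxL v, fun v hv => ln_mem_fx (hA.cn h).quad hv x hx⟩

theorem mem_of_frm_trivial {A : Subgroup H} (hA : Mem V A) {B : Blk V A} {g : H} {β : B.F → B.F}
    {ψ : fx V B.X → B.F} {δ : fx V B.X → fx V B.X} {γ : B.F → fx V B.X}
    (h : B.Frm g β ψ δ γ) (hψ : ∀ c, ψ c = 0) (hδ : ∀ c, δ c = c) (hγ : ∀ y, γ y = 0) :
    g ∈ A ∧ ∃ s, ∀ y, β y = s * y := by
  have hg : g ∈ A := by
    refine hyp.mem_of_kills hA.quad (hyp.wt_mem hA) (fun v hv => ?_) fun v => ?_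
    · obtain ⟨a, c, rfl⟩ := B.mem_fx_iff.1 hv
      rw [h.app, h.β_zero, hψ, hδ, hγ]; simp
    · obtain ⟨x, y, c, rfl⟩ := B.exists_eq v
      rw [h.app, B.e_sub, sub_self]
      exact B.mem_fx_iff.2 ⟨_, _, rfl⟩
  obtain ⟨s, rfl⟩ := B.exists_u hg
  exact ⟨hg, s, fun y => congrFun (h.uniq (B.frm_u s)).1 y⟩

/-- Elements with the same outer components differ by the root group. -/
theorem same_outer {A : Subgroup H} (hA : Mem V A) {B : Blk V A} {g g' : H} {β β' : B.F → B.F}
    {ψ : fx V B.X → B.F} {δ : fx V B.X → fx V B.X} {γ : B.F → fx V B.X}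
    (h : B.Frm g β ψ δ γ) (h' : B.Frm g' β' ψ δ γ) : ∃ s, ∀ y, β y = β' y + s * y := by
  obtain ⟨β₀, ψ₀, δ₀, γ₀, h₀⟩ := Blk.quot h h'
  obtain ⟨hb, hψ, hδ, hγ⟩ := ((h₀.mul h').congr (inv_mul_cancel_right g g')).uniq h
  have hd : ∀ c, δ₀ c = c := fun c => by
    obtain ⟨c', rfl⟩ := Finite.surjective_of_injective (fun _ _ e => h'.δ_inj e : Function.Injective δ) c
    exact congrFun hδ c'
  have hp : ∀ c, ψ₀ c = 0 := fun c => by
    obtain ⟨c', rfl⟩ := Finite.surjective_of_injective (fun _ _ e => h'.δ_inj e : Function.Injective δ) c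
    have := congrFun hψ c'
    simpa using this
  have hg₀ : ∀ y, γ₀ y = 0 := fun y => by
    have := congrFun hγ y
    simp only [hd] at this
    simpa using this
  obtain ⟨-, s, hs⟩ := hyp.mem_of_frm_trivial hA h₀ hp hd hg₀
  exact ⟨s, fun y => by
    have := congrFun hb y
    simp only [hp, add_zero, hs] at this
    exact this.symm⟩

/-- Elements trivial on the factors of the flag lie in the root group. -/
theorem flag_mem {A : Subgroup H} (hA : Mem V A) {B : Blk V A} {g : H} {β : B.F → B.F}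
    {ψ : fx V B.X → B.F} {δ : fx V B.X → fx V B.X} {γ : B.F → fx V B.X}
    (h : B.Frm g β ψ δ γ) (hδ : ∀ c, δ c = c) : g ∈ A := by
  obtain rfl : δ = id := funext hδ
  have h2 := B.two_ne hyp.two hyp.exp
  -- `ψ γ` is linear
  set f : B.F → B.F := fun y => ψ (γ y)
  have hf : ∀ x y, f (x + y) = f x + f y := fun x y => by
    show ψ (γ (x + y)) = ψ (γ x) + ψ (γ y)
    rw [h.γ_add, h.ψ_add]
  have hlin : ∀ y, f y = f 1 * y := by
    intro y
    let f' : B.F → B.F := fun y => f y - f 1 * y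
    have hf' : ∀ t y, f' (t * y) = t * f' y + y * f' t := by
      intro t y
      rcases eq_or_ne t 0 with rfl | ht
      · have h0 : f 0 = 0 := by show ψ (γ 0) = 0; rw [h.γ_zero, h.ψ_zero]
        simp [f', h0]
      have h1 := h.dconj (Units.mk0 t ht)
      have e1 := h1.mul h
      have e2 := h.mul h1
      simp only [id_eq, Units.val_mk0] at e1 e2
      rw [show (fun c => ψ c + t * ψ c) = (fun c => t * ψ c + ψ c) from
        funext fun c => add_comm _ _] at e1
      rw [show (fun y => γ y + γ (t * y)) = (fun y => γ (t * y) + γ y) from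
        funext fun y => add_comm _ _] at e1
      obtain ⟨s, hs⟩ := hyp.same_outer hA e1 e2
      have a1 := hs 1
      have a2 := hs y
      simp only [mul_one] at a1
      simp only [f', f]
      linear_combination -a2 + y * a1
    exact sub_eq_zero.1 (deriv_zero f' hf' y)
  -- `β` is linear
  obtain ⟨-, s, hs⟩ := hyp.mem_of_frm_trivial hA (h.mul h.zconj) (fun c => by simp) (fun c => rfl)
    (fun y => by simp)
  have hneg : ∀ y, ψ (-γ y) = -f y := fun y => eq_neg_of_add_eq_zero_left (by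
    show ψ (-γ y) + ψ (γ y) = 0
    rw [← h.ψ_add, neg_add_cancel, h.ψ_zero])
  set r := (s + f 1) * (2 : B.F)⁻¹
  have hβ : ∀ y, β y = r * y := fun y => by
    have e := hs y
    rw [hneg, hlin] at e
    have e' : (2 : B.F) * β y = (s + f 1) * y := by linear_combination e
    calc β y = (2 : B.F)⁻¹ * (2 * β y) := by rw [inv_mul_cancel_left₀ h2]
      _ = r * y := by rw [e']; ring
  -- remove `β`
  have h' := (B.frm_u (-r)).mul h
  set g' := B.u (-r) * g
  have happ : ∀ x y c, g' • B.e ((x, y), c) = B.e ((x + ψ c, y), c + γ y) := fun x y c => by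
    rw [h'.app]
    congr 2
    · ext <;> simp [hβ]
    · simp
  -- `γ` vanishes
  have hγ : ∀ y, γ y = 0 := by
    intro y
    set w := B.ι (rot B.F)
    have hw : ∀ a b c, w • B.e ((a, b), c) = B.e ((-b, a), c) := fun a b c => by
      show B.ι _ • _ = _
      rw [B.act]
      simp [ent, coe_rot]
    have hline : ∀ x, (w * g' * w⁻¹) • B.e ((x, 0), 0) = B.e ((x, 0), γ (-x)) := fun x => by
      rw [mul_smul, mul_smul, show w⁻¹ • B.e ((x, 0), 0) = B.e ((0, -x), 0) by
        rw [inv_smul_eq_iff, hw, neg_neg], happ, hw]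
      simp [h.ψ_zero]
    have hfx : ∀ v ∈ cm (⊤ : AddSubgroup V) A, (w * g' * w⁻¹) • v ∈ fx V A := fun v hv => by
      obtain ⟨x, rfl⟩ := B.mem_ln_iff.1 hv
      exact B.mem_fx_iff.2 ⟨_, _, hline x⟩
    have hmem : ∀ x, (w * g' * w⁻¹) • B.e ((x, 0), 0) ∈ cm (⊤ : AddSubgroup V) (cj (w * g' * w⁻¹) A) :=
      fun x => cm_cj _ (B.mem_ln_iff.2 ⟨x, rfl⟩)
    rcases hyp.move_line hA B hfx with he | hX
    · have h3 := hmem (-y)
      rw [he, hline, neg_neg] at h3
      obtain ⟨a, ha⟩ := B.mem_ln_iff.1 h3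
      exact (B.inj ha).2.2
    · have h3 := hX (hmem 1)
      rw [hline] at h3
      exact absurd (B.inj (B.e_fix ⟨_, h3⟩)).1 zero_ne_one
  -- `ψ` vanishes
  have hg1 : g' = 1 := hyp.pure B (fun x y => by rw [happ, h.ψ_zero, hγ]; simp)
    (fun c => ⟨ψ c, by rw [← B.coe_eq c, happ, hγ]; simp⟩)
  have : g = (B.u (-r))⁻¹ := eq_inv_of_mul_eq_one_right hg1
  rw [this]
  exact inv_mem (B.u_mem _)

/-- An element fixing the line and trivial on `V / fx A` is a root element times an element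
centralising `X`. -/
theorem split {A : Subgroup H} (hA : Mem V A) (B : Blk V A) {g : H}
    (hl : ∀ v ∈ cm (⊤ : AddSubgroup V) A, g • v = v) (him : ∀ v, g • v - v ∈ fx V A) :
    ∃ a ∈ A, ∃ g', g = a * g' ∧ (∀ k : SL(2, B.F), g' * B.ι k = B.ι k * g') ∧
      ∀ x y, g' • B.e ((x, y), 0) = B.e ((x, y), 0) := by
  obtain ⟨β, ψ, δ, γ, h⟩ := Blk.exists_frm (fun x => hl _ (B.mem_ln_iff.2 ⟨x, rfl⟩)) him
  obtain ⟨β₀, ψ₀, δ₀, γ₀, h₀⟩ := Blk.quot h h.zconj
  obtain ⟨-, hψ, hδ, hγ⟩ := ((h₀.mul h.zconj).congr (inv_mul_cancel_right g _)).uniq h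
  have hd : ∀ c, δ₀ c = c := fun c => by
    obtain ⟨c', rfl⟩ := Finite.surjective_of_injective (fun _ _ e => h.δ_inj e : Function.Injective δ) c
    exact congrFun hδ c'
  obtain ⟨s₀, hs₀⟩ := B.exists_u (hyp.flag_mem hA h₀ hd)
  obtain ⟨-, hψ0, -, hγ0⟩ := h₀.uniq ((B.frm_u s₀).congr hs₀)
  have h2 := B.two_ne hyp.two hyp.exp
  have hψz : ∀ c, ψ c = 0 := fun c => by
    have := congrFun hψ c
    simp only [hψ0, add_zero] at this
    have h3 : (2 : B.F) * ψ c = 0 := by linear_combination -this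
    simpa [h2] using h3
  have hγz : ∀ y, γ y = 0 := fun y => by
    have := congrFun hγ y
    simp only [hd, hγ0, add_zero] at this
    exact B.eq_zero_of_eq_neg hyp.two hyp.exp this.symm
  obtain rfl : ψ = fun _ => 0 := funext hψz
  obtain rfl : γ = fun _ => 0 := funext hγz
  have hβ : ∀ y, β y = β 1 * y := torus_linear h2 β h.β_add fun t ht => by
    have h1 := h.dconj (Units.mk0 t ht)
    simp only [Units.val_mk0, mul_zero] at h1
    exact hyp.same_outer hA h1 h
  have h' := (B.frm_u (-β 1)).mul h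
  have happ : ∀ x y c, (B.u (-β 1) * g) • B.e ((x, y), c) = B.e ((x, y), δ c) := fun x y c => by
    rw [h'.app]
    congr 2
    · ext <;> simp [← hβ]
    · simp
  refine ⟨(B.u (-β 1))⁻¹, inv_mem (B.u_mem _), B.u (-β 1) * g, by group,
    fun k => B.comm_X (fun x y => by rw [happ, h.δ_zero]) (fun c => ?_) k,
    fun x y => by rw [happ, h.δ_zero]⟩
  rw [← B.coe_eq c, happ, B.coe_eq]
  exact (δ c).2

/-- The central involution is determined by the member. -/
theorem z_unique {A : Subgroup H} (hA : Mem V A) (B B' : Blk V A) : B'.z = B.z := by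
  have hzz : ∀ C : Blk V A, C.z * C.z = 1 := fun C => C.ext_smul fun a b c => by
    rw [mul_smul, C.z_apply, C.z_apply, neg_neg, neg_neg, one_smul]
  have hneg : ∀ (C : Blk V A) (v : V), C.z • v + v ∈ fx V A ∧
      (v ∈ cm (⊤ : AddSubgroup V) A → C.z • v = -v) ∧
      (v ∈ fx V A → C.z • v - v ∈ cm (⊤ : AddSubgroup V) A) := by
    intro C v
    obtain ⟨a, b, c, rfl⟩ := C.exists_eq v
    refine ⟨?_, fun hv => ?_, fun hv => ?_⟩
    · rw [C.z_apply, C.e_add]
      exact C.mem_fx_iff.2 ⟨-a + a, c + c, by rw [neg_add_cancel b]⟩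
    · obtain ⟨x, hx⟩ := C.mem_ln_iff.1 hv
      rw [hx, C.z_apply, ← map_neg]
      simp
    · obtain ⟨x, c', hx⟩ := C.mem_fx_iff.1 hv
      rw [hx, C.z_apply, C.e_sub]
      exact C.mem_ln_iff.2 ⟨-x - x, by simp⟩
  set g := B'.z * B.z
  have hl : ∀ v ∈ cm (⊤ : AddSubgroup V) A, g • v = v := fun v hv => by
    rw [mul_smul, (hneg B v).2.1 hv, smul_neg, (hneg B' v).2.1 hv, neg_neg]
  have him : ∀ v, g • v - v ∈ fx V A := fun v => by
    rw [mul_smul, show B'.z • B.z • v - v = (B'.z • B.z • v + B.z • v) - (B.z • v + v) by abel]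
    exact sub_mem (hneg B' _).1 (hneg B v).1
  obtain ⟨β, ψ, δ, γ, h⟩ := Blk.exists_frm (fun x => hl _ (B.mem_ln_iff.2 ⟨x, rfl⟩)) him
  have hδ : ∀ c, δ c = c := fun c => by
    have hc : B.e ((0, 0), c) ∈ fx V A := B.mem_fx_iff.2 ⟨0, c, rfl⟩
    have h1 : g • B.e ((0, 0), c) - B.e ((0, 0), c) ∈ cm (⊤ : AddSubgroup V) A := by
      rw [mul_smul, B.z_apply, neg_zero]
      exact (hneg B' _).2.2 hc
    rw [h.app, B.e_sub] at h1
    obtain ⟨x, hx⟩ := B.mem_ln_iff.1 h1
    have h2 := (B.inj hx).2.2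
    rw [h.γ_zero, add_zero, sub_eq_zero] at h2
    exact h2
  obtain ⟨s, hs⟩ := B.exists_u (hyp.flag_mem hA h hδ)
  have hz' : B'.z = B.u s * B.z := by rw [hs, mul_assoc, hzz B, mul_one]
  have h1 := hzz B'
  rw [hz', mul_assoc, ← mul_assoc B.z, hyp.z_u B s, mul_assoc, hzz B, mul_one] at h1
  have h2 := congrArg (· • B.e ((0, 1), 0)) h1
  simp only [mul_smul, B.u_apply, one_smul] at h2
  have h3 : (2 : B.F) * s = 0 := by linear_combination (B.inj h2).1
  have hs0 : s = 0 := (mul_eq_zero.1 h3).resolve_left (B.two_ne hyp.two hyp.exp)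
  rw [hz', B.ext_smul (g := B.u s) (h := 1) fun a b c => by
    rw [B.u_apply, hs0, zero_mul, add_zero, one_smul], one_mul]

end Hyp

end H80.LFF
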