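import Cfsg.Agent.H80.Coord
import Mathlib.GroupTheory.Nilpotent

/-!
Minimal offenders for odd `p`: two in one `p`-group commute, and the second centralises the
`SL₂` of the first.
-/

set_option autoImplicit false
set_option linter.unusedSectionVars false

open Subgroup H73
open scoped MatrixGroups

namespace H80.LFF

universe uH uV

variable {p : ℕ} [Fact p.Prime] {H : Type uH} [Group H] [Finite H] {V : Type uV} [AddCommGroup V]
  [Finite V] [DistribMulAction H V] [FaithfulSMul H V]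

/-- Commuting subgroups. -/
def Comm (A A' : Subgroup H) : Prop := ∀ a ∈ A, ∀ b ∈ A', a * b = b * a

theorem exists_mul_of_mem_sup' {K N : Subgroup H} (hK : K ≤ normalizer (N : Set H)) {x : H}
    (hx : x ∈ K ⊔ N) : ∃ a ∈ K, ∃ b ∈ N, a * b = x := by
  rw [← SetLike.mem_coe, Subgroup.coe_mul_of_left_le_normalizer_right K N hK] at hx
  exact Set.mem_mul.1 hx

theorem Comm.symm {A A' : Subgroup H} (h : Comm A A') : Comm A' A := fun b hb a ha => (h a ha b hb).symm

theorem Comm.fx_invariant {A A' : Subgroup H} (h : Comm A A') {b : H} (hb : b ∈ A') {v : V}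
    (hv : v ∈ fx V A) : b • v ∈ fx V A := fun a ha => by
  rw [← mul_smul, h a ha b hb, mul_smul, hv a ha]

theorem Comm.sup_comm {A A' : Subgroup H} (h : Comm A A') (hA : Comm A A) (hA' : Comm A' A') :
    Comm (A ⊔ A') (A ⊔ A') := by
  have h1 : A ⊔ A' ≤ centralizer ((A ⊔ A' : Subgroup H) : Set H) := by
    rw [H10.centralizer_sup]
    refine le_inf (sup_le ?_ ?_) (sup_le ?_ ?_) <;> intro x hx <;> rw [mem_centralizer_iff] <;>
      intro y hy
    · exact hA y hy x hx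
    · exact h y hy x hx
    · exact (h x hx y hy).symm
    · exact hA' y hy x hx
  exact fun a ha b hb => (mem_centralizer_iff.1 (h1 ha) b hb).symm

theorem mem_sup_of_comm {A A' : Subgroup H} (h : Comm A A') {x : H} (hx : x ∈ A ⊔ A') :
    ∃ a ∈ A, ∃ b ∈ A', a * b = x := by
  refine exists_mul_of_mem_sup' (H75.le_normalizer_of_conj fun a ha y hy => ?_) hx
  rw [h a ha y hy, mul_inv_cancel_right]; exact hy

theorem card_sup_mul_card_inf (U W : AddSubgroup V) :
    Nat.card ↥(U ⊔ W) * Nat.card ↥(U ⊓ W) = Nat.card U * Nat.card W := by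
  let f : U × W →+ ↥(U ⊔ W) :=
    AddMonoidHom.mk' (fun q => ⟨(q.1 : V) + q.2, add_mem (AddSubgroup.mem_sup_left q.1.2)
      (AddSubgroup.mem_sup_right q.2.2)⟩) fun a b => Subtype.ext (by simp; abel)
  have hf : Function.Surjective f := by
    rintro ⟨v, hv⟩
    obtain ⟨u, hu, w, hw, rfl⟩ := AddSubgroup.mem_sup.1 hv
    exact ⟨(⟨u, hu⟩, ⟨w, hw⟩), rfl⟩
  have hk : Nat.card f.ker = Nat.card ↥(U ⊓ W) := Nat.card_congr
    { toFun := fun q => ⟨((q : U × W).1 : V), (q : U × W).1.2, by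
        have h : ((q : U × W).1 : V) + (q : U × W).2 = 0 := congrArg Subtype.val q.2
        rw [eq_neg_of_add_eq_zero_left h]; exact W.neg_mem (q : U × W).2.2⟩
      invFun := fun v => ⟨(⟨v, v.2.1⟩, ⟨-v, neg_mem v.2.2⟩), Subtype.ext (add_neg_cancel (v : V))⟩
      left_inv := fun q => by
        have h : ((q : U × W).1 : V) + (q : U × W).2 = 0 := congrArg Subtype.val q.2
        exact Subtype.ext (Prod.ext rfl (Subtype.ext (neg_eq_of_add_eq_zero_right h)))
      right_inv := fun v => rfl }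
  rw [← hk, ← Nat.card_prod ↥U ↥W, AddSubgroup.card_eq_card_quotient_mul_card_addSubgroup f.ker]
  congr 1
  exact (Nat.card_congr (QuotientAddGroup.quotientKerEquivOfSurjective f hf).toEquiv).symm

theorem ln_mem_fx {A : Subgroup H} (hA : Quad V A) : cm (⊤ : AddSubgroup V) A ≤ fx V A :=
  cm_le_iff.2 fun a ha u _ => hA a ha u

theorem cm_cj {A : Subgroup H} (g : H) {v : V} (hv : v ∈ cm (⊤ : AddSubgroup V) A) :
    g • v ∈ cm (⊤ : AddSubgroup V) (cj g A) := by
  have h : cm (⊤ : AddSubgroup V) A ≤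
      (cm (⊤ : AddSubgroup V) (cj g A)).comap (DistribMulAction.toAddEquiv V g).toAddMonoidHom := by
    refine cm_le_iff.2 fun a ha u _ => ?_
    show g • (a • u - u) ∈ cm (⊤ : AddSubgroup V) (cj g A)
    have h1 := smul_sub_mem_cm (U := (⊤ : AddSubgroup V)) ((conj_mem_cj (g := g)).2 ha)
      (AddSubgroup.mem_top (g • u))
    rwa [mul_smul, inv_smul_smul, mul_smul, ← smul_sub] at h1
  exact h hv

namespace Blk

variable {A : Subgroup H} (B : Blk V A)

theorem e_add (a b a' b' : B.F) (c c' : fx V B.X) :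
    B.e ((a, b), c) + B.e ((a', b'), c') = B.e ((a + a', b + b'), c + c') := by
  rw [← map_add]; rfl

theorem e_sub (a b a' b' : B.F) (c c' : fx V B.X) :
    B.e ((a, b), c) - B.e ((a', b'), c') = B.e ((a - a', b - b'), c - c') := by
  rw [← map_sub]; rfl

theorem inj {a b a' b' : B.F} {c c' : fx V B.X} (h : B.e ((a, b), c) = B.e ((a', b'), c')) :
    a = a' ∧ b = b' ∧ c = c' := by
  have := B.e.injective h
  simp only [Prod.mk.injEq] at this
  exact ⟨this.1.1, this.1.2, this.2⟩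

theorem ext_smul {g h : H} (hh : ∀ a b c, g • B.e ((a, b), c) = h • B.e ((a, b), c)) : g = h :=
  eq_of_smul_eq_smul fun v : V => by
    obtain ⟨a, b, c, rfl⟩ := B.exists_eq v
    exact hh a b c

theorem cast_p (hV : ∀ v : V, p • v = 0) : (p : B.F) = 0 := by
  have h := hV (B.e ((1, 0), 0))
  rw [← map_nsmul, EmbeddingLike.map_eq_zero_iff] at h
  have := congrArg (fun q : (B.F × B.F) × fx V B.X => q.1.1) h
  simpa [nsmul_eq_mul] using this

theorem two_ne (hp : p ≠ 2) (hV : ∀ v : V, p • v = 0) : (2 : B.F) ≠ 0 := fun h => by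
  obtain ⟨m, hm⟩ := (Fact.out : p.Prime).odd_of_ne_two hp
  have h1 := B.cast_p hV
  rw [hm, Nat.cast_add, Nat.cast_mul, Nat.cast_ofNat, h, zero_mul, zero_add, Nat.cast_one] at h1
  exact one_ne_zero h1

theorem mem_ln_iff {v : V} : v ∈ cm (⊤ : AddSubgroup V) A ↔ ∃ a, v = B.e ((a, 0), 0) := by
  constructor
  · intro hv
    let L : AddSubgroup V :=
      { carrier := {v | ∃ a, v = B.e ((a, 0), 0)}
        zero_mem' := ⟨0, by rw [show ((((0 : B.F), (0 : B.F)), (0 : fx V B.X))) = 0 from rfl, map_zero]⟩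
        add_mem' := by rintro _ _ ⟨a, rfl⟩ ⟨a', rfl⟩; exact ⟨a + a', by rw [B.e_add, add_zero, add_zero]⟩
        neg_mem' := by
          rintro _ ⟨a, rfl⟩
          exact ⟨-a, by rw [← map_neg]; congr 1; simp⟩ }
    refine (cm_le_iff (W := L)).2 (fun x hx u _ => ?_) hv
    obtain ⟨t, rfl⟩ := B.exists_u hx
    obtain ⟨a, b, c, rfl⟩ := B.exists_eq u
    exact ⟨t * b, by rw [B.u_apply, B.e_sub, sub_self, sub_self, add_sub_cancel_left]⟩
  · rintro ⟨a, rfl⟩
    have h := smul_sub_mem_cm (U := (⊤ : AddSubgroup V)) (B.u_mem a)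
      (AddSubgroup.mem_top (B.e ((0, 1), 0)))
    rwa [B.u_apply, B.e_sub, sub_self, sub_self, zero_add, mul_one, sub_zero] at h

include B in
/-- A nontrivial element of the root group fixes only the fixed points of the group. -/
theorem fx_of_elem {x : H} (hx : x ∈ A) (h1 : x ≠ 1) {v : V} (hv : x • v = v) : v ∈ fx V A := by
  obtain ⟨t, rfl⟩ := B.exists_u hx
  obtain ⟨a, b, c, rfl⟩ := B.exists_eq v
  rw [B.u_apply] at hv
  obtain ⟨h2, -, -⟩ := B.inj hv
  rcases mul_eq_zero.1 (add_eq_left.1 h2) with ht | hb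
  · exact absurd (B.ext_smul (h := 1) fun a b c => by rw [B.u_apply, ht, zero_mul, add_zero, one_smul]) h1
  · exact B.mem_fx_iff.2 ⟨a, c, by rw [hb]⟩

theorem coe_eq (c : fx V B.X) : B.e ((0, 0), c) = (c : V) := B.e_fix c

/-- An element fixing `[V, X]` and mapping `C_V(X)` into itself commutes with `X`. -/
theorem comm_X {b : H} (hW : ∀ x y : B.F, b • B.e ((x, y), 0) = B.e ((x, y), 0))
    (hC : ∀ c : fx V B.X, b • (c : V) ∈ fx V B.X) (g : SL(2, B.F)) : b * B.ι g = B.ι g * b := by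
  have hb : ∀ x y c, b • B.e ((x, y), c) = B.e ((x, y), ⟨b • (c : V), hC c⟩) := fun x y c => by
    have h : B.e ((x, y), c) = B.e ((x, y), 0) + (c : V) := by
      rw [← B.coe_eq, B.e_add, add_zero, add_zero, zero_add]
    rw [h, smul_add, hW]
    refine (congrArg (fun q => B.e ((x, y), 0) + q) (B.coe_eq ⟨b • (c : V), hC c⟩).symm).trans ?_
    rw [B.e_add]
    simp
  refine B.ext_smul fun x y c => ?_
  rw [mul_smul, mul_smul, B.act, hb, hb, B.act]

/-- The action of an element fixing the line, trivial on `V / fx A`. -/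
structure Frm (g : H) (β : B.F → B.F) (ψ : fx V B.X → B.F) (δ : fx V B.X → fx V B.X)
    (γ : B.F → fx V B.X) : Prop where
  app : ∀ x y c, g • B.e ((x, y), c) = B.e ((x + β y + ψ c, y), δ c + γ y)
  β_zero : β 0 = 0
  ψ_zero : ψ 0 = 0
  δ_zero : δ 0 = 0
  γ_zero : γ 0 = 0

variable {B}

theorem exists_frm {g : H} (hl : ∀ x, g • B.e ((x, 0), 0) = B.e ((x, 0), 0))
    (him : ∀ v, g • v - v ∈ fx V A) : ∃ β ψ δ γ, B.Frm g β ψ δ γ := by
  have h1 : ∀ y : B.F, ∃ a c, g • B.e ((0, y), 0) - B.e ((0, y), 0) = B.e ((a, 0), c) :=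
    fun y => B.mem_fx_iff.1 (him _)
  have h2 : ∀ c : fx V B.X, ∃ a c', g • B.e ((0, 0), c) - B.e ((0, 0), c) = B.e ((a, 0), c') :=
    fun c => B.mem_fx_iff.1 (him _)
  choose β γ hβγ using h1
  choose ψ δ hψδ using h2
  have hz := hβγ 0
  rw [hl, sub_self, ← map_zero B.e] at hz
  obtain ⟨hβ0, -, hγ0⟩ := B.inj hz
  have hz' := hψδ 0
  rw [hl, sub_self, ← map_zero B.e] at hz'
  obtain ⟨hψ0, -, hδ0⟩ := B.inj hz'
  refine ⟨β, ψ, fun c => c + δ c, γ, fun x y c => ?_, hβ0.symm, hψ0.symm, by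
    simp only [← hδ0, add_zero], hγ0.symm⟩
  have h3 : B.e ((x, y), c) = B.e ((x, 0), 0) + (B.e ((0, y), 0) + B.e ((0, 0), c)) := by
    rw [B.e_add, B.e_add]; simp
  rw [h3, smul_add, smul_add, hl, eq_add_of_sub_eq' (hβγ y), eq_add_of_sub_eq' (hψδ c), B.e_add,
    B.e_add, B.e_add, B.e_add]
  congr 2
  · ext <;> simp [add_assoc]
  · abel

variable {g g' : H} {β β' : B.F → B.F} {ψ ψ' : fx V B.X → B.F} {δ δ' : fx V B.X → fx V B.X}
  {γ γ' : B.F → fx V B.X}

theorem Frm.add (h : B.Frm g β ψ δ γ) (y y' : B.F) (c c' : fx V B.X) :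
    β (y + y') + ψ (c + c') = β y + ψ c + (β y' + ψ c') ∧
      δ (c + c') + γ (y + y') = δ c + γ y + (δ c' + γ y') := by
  have h1 : g • B.e ((0, y + y'), c + c') = g • B.e ((0, y), c) + g • B.e ((0, y'), c') := by
    rw [← smul_add, B.e_add, add_zero]
  rw [h.app, h.app, h.app, B.e_add] at h1
  obtain ⟨h2, -, h3⟩ := B.inj h1
  exact ⟨by linear_combination h2, h3⟩

theorem Frm.β_add (h : B.Frm g β ψ δ γ) (y y' : B.F) : β (y + y') = β y + β y' := by
  simpa [h.ψ_zero] using (h.add y y' 0 0).1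

theorem Frm.γ_add (h : B.Frm g β ψ δ γ) (y y' : B.F) : γ (y + y') = γ y + γ y' := by
  simpa [h.δ_zero] using (h.add y y' 0 0).2

theorem Frm.ψ_add (h : B.Frm g β ψ δ γ) (c c' : fx V B.X) : ψ (c + c') = ψ c + ψ c' := by
  simpa [h.β_zero] using (h.add 0 0 c c').1

theorem Frm.δ_add (h : B.Frm g β ψ δ γ) (c c' : fx V B.X) : δ (c + c') = δ c + δ c' := by
  simpa [h.γ_zero] using (h.add 0 0 c c').2

theorem Frm.δ_inj (h : B.Frm g β ψ δ γ) {c c' : fx V B.X} (he : δ c = δ c') : c = c' := by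
  have h1 : g • B.e ((-ψ c, 0), c) = g • B.e ((-ψ c', 0), c') := by
    rw [h.app, h.app, h.β_zero, h.γ_zero, he]
    congr 2
    simp
  exact (B.inj (smul_left_cancel g h1)).2.2

theorem Frm.mul (h : B.Frm g β ψ δ γ) (h' : B.Frm g' β' ψ' δ' γ') :
    B.Frm (g * g') (fun y => β' y + β y + ψ (γ' y)) (fun c => ψ' c + ψ (δ' c)) (fun c => δ (δ' c))
      (fun y => δ (γ' y) + γ y) where
  app x y c := by
    rw [mul_smul, h'.app, h.app, h.ψ_add, h.δ_add]
    congr 2
    · ext <;> simp <;> ring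
    · abel
  β_zero := by simp [h.β_zero, h'.β_zero, h'.γ_zero, h.ψ_zero]
  ψ_zero := by simp [h'.ψ_zero, h'.δ_zero, h.ψ_zero]
  δ_zero := by simp [h'.δ_zero, h.δ_zero]
  γ_zero := by simp [h'.γ_zero, h.δ_zero, h.γ_zero]

theorem Frm.zconj (h : B.Frm g β ψ δ γ) :
    B.Frm (B.z * g * B.z) β (fun c => -ψ c) δ (fun y => -γ y) where
  app x y c := by
    have hγ : γ (-y) = -γ y := eq_neg_of_add_eq_zero_left (by rw [← h.γ_add, neg_add_cancel, h.γ_zero])
    have hβ : β (-y) = -β y := eq_neg_of_add_eq_zero_left (by rw [← h.β_add, neg_add_cancel, h.β_zero])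
    rw [mul_smul, mul_smul, B.z_apply, h.app, B.z_apply, hγ, hβ]
    congr 2
    ext <;> simp; ring
  β_zero := h.β_zero
  ψ_zero := by simp [h.ψ_zero]
  δ_zero := h.δ_zero
  γ_zero := by simp [h.γ_zero]

theorem frm_u (B : Blk V A) (s : B.F) :
    B.Frm (B.u s) (fun y => s * y) (fun _ => 0) id (fun _ => 0) where
  app x y c := by rw [B.u_apply]; simp
  β_zero := mul_zero s
  ψ_zero := rfl
  δ_zero := rfl
  γ_zero := rfl

theorem Frm.uniq (h : B.Frm g β ψ δ γ) (h' : B.Frm g β' ψ' δ' γ') :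
    β = β' ∧ ψ = ψ' ∧ δ = δ' ∧ γ = γ' := by
  have hy : ∀ y, β y = β' y ∧ γ y = γ' y := fun y => by
    have h1 := (h.app 0 y 0).symm.trans (h'.app 0 y 0)
    obtain ⟨h2, -, h3⟩ := B.inj h1
    simp only [h.ψ_zero, h'.ψ_zero, add_zero, zero_add, h.δ_zero, h'.δ_zero] at h2 h3
    exact ⟨h2, h3⟩
  have hc : ∀ c, ψ c = ψ' c ∧ δ c = δ' c := fun c => by
    have h1 := (h.app 0 0 c).symm.trans (h'.app 0 0 c)
    obtain ⟨h2, -, h3⟩ := B.inj h1
    simp only [h.β_zero, h'.β_zero, add_zero, zero_add, h.γ_zero, h'.γ_zero] at h2 h3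
    exact ⟨h2, h3⟩
  exact ⟨funext fun y => (hy y).1, funext fun c => (hc c).1, funext fun c => (hc c).2,
    funext fun y => (hy y).2⟩

theorem frm_uniq_rest (B : Blk V A) {g : H} {β β' : B.F → B.F} {ψ ψ' : fx V B.X → B.F}
    {δ δ' : fx V B.X → fx V B.X} {γ γ' : B.F → fx V B.X}
    (h : B.Frm g β ψ δ γ) (h' : B.Frm g β' ψ' δ' γ') : ψ = ψ' ∧ δ = δ' ∧ γ = γ' :=
  (h.uniq h').2

theorem eq_zero_of_eq_neg (B : Blk V A) (hp : p ≠ 2) (hV : ∀ v : V, p • v = 0) {c : fx V B.X}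
    (h : c = -c) : c = 0 := by
  obtain ⟨m, hm⟩ := (Fact.out : p.Prime).odd_of_ne_two hp
  have h2 : c + c = 0 := by nth_rewrite 2 [h]; exact add_neg_cancel c
  have h4 : p • c = 0 := Subtype.ext (by rw [AddSubgroup.coe_nsmul]; exact hV _)
  rwa [hm, add_nsmul, mul_comm, mul_nsmul', two_nsmul, h2, nsmul_zero, zero_add, one_nsmul] at h4

end Blk

/-- The rotation. -/
def rot (F : Type) [Field F] : SL(2, F) := ⟨!![0, -1; 1, 0], by simp [Matrix.det_fin_two]⟩

theorem coe_rot (F : Type) [Field F] : (rot F : Matrix (Fin 2) (Fin 2) F) = !![0, -1; 1, 0] := rfl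

namespace Hyp

variable {T M : Subgroup H} (hyp : Hyp p V T M)
include hyp

/-- No abelian subgroup is more than an exact offender. -/
theorem wt_le_comm {A : Subgroup H} (hA : Comm A A) : wt V A ≤ Nat.card V := by
  obtain ⟨B, hB, hmax⟩ := Set.exists_max_image {B : Subgroup H | B ≤ A} (wt V) (Set.toFinite _)
    ⟨A, le_refl A⟩
  obtain ⟨h1, -⟩ := replacement hyp.exp (fun a ha b hb => hA a (hB ha) b (hB hb))
    (fun C hC => hmax C (le_trans hC hB)) (⊤ : AddSubgroup V)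
  refine (hmax A (le_refl A)).trans (h1 ▸ hyp.wt_le fun a ha v b hb => hb.2 _ ?_)
  exact smul_sub_mem_cm ha.1 (AddSubgroup.mem_top v)

theorem inf_eq_bot {A A' : Subgroup H} (hA : Mem V A) (hA' : Mem V A') (hne : A ≠ A') :
    A ⊓ A' = ⊥ := by
  by_contra h0
  obtain ⟨⟨x, hx⟩, hx1⟩ := Subgroup.ne_bot_iff_exists_ne_one.1 h0
  have hx1' : x ≠ 1 := fun e => hx1 (Subtype.ext e)
  obtain ⟨B⟩ := hyp.exists_blk hA
  obtain ⟨B'⟩ := hyp.exists_blk hA'
  have heq : fx V A = fx V A' := le_antisymm (fun v hv => B'.fx_of_elem hx.2 hx1' (hv x hx.1))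
    (fun v hv => B.fx_of_elem hx.1 hx1' (hv x hx.2))
  exact hne (le_antisymm
    (hyp.le_of_kills hA'.quad (hyp.wt_mem hA') heq.ge fun b hb v => heq ▸ hA.quad b hb v)
    (hyp.le_of_kills hA.quad (hyp.wt_mem hA) heq.le fun b hb v => heq.symm ▸ hA'.quad b hb v))

theorem sum_top {A A' : Subgroup H} (hA : Mem V A) (hA' : Mem V A') (hne : A ≠ A') (hc : Comm A A') :
    fx V A ⊔ fx V A' = ⊤ ∧ wt V (A ⊔ A') = Nat.card V := by
  have hAA : Comm A A := fun a ha b hb => hA.quad.comm ha hb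
  have hle := hyp.wt_le_comm (hc.sup_comm hAA fun a ha b hb => hA'.quad.comm ha hb)
  have hnorm : A ≤ normalizer (A' : Set H) := H75.le_normalizer_of_conj fun a ha b hb => by
    rw [hc a ha b hb, mul_inv_cancel_right]; exact hb
  have hcard := H10.card_mul_card_inf hnorm
  rw [hyp.inf_eq_bot hA hA' hne, Subgroup.card_bot, mul_one] at hcard
  have hfx : fx V (A ⊔ A') = fx V A ⊓ fx V A' := by
    ext v; rw [mem_fx_sup, AddSubgroup.mem_inf]
  have hsum : Nat.card ↥(fx V A ⊔ fx V A') * Nat.card ↥(fx V A ⊓ fx V A') =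
      Nat.card (fx V A) * Nat.card (fx V A') := card_sup_mul_card_inf _ _
  have hw1 := hyp.wt_mem hA
  have hw2 := hyp.wt_mem hA'
  rw [wt, hcard, hfx] at hle
  rw [wt] at hw1 hw2
  have key : Nat.card V * Nat.card V ≤ Nat.card ↥(fx V A ⊔ fx V A') * Nat.card V := by
    calc Nat.card V * Nat.card V = Nat.card A * Nat.card (fx V A) * (Nat.card A' * Nat.card (fx V A')) := by
          rw [hw1, hw2]
      _ = Nat.card ↥(fx V A ⊔ fx V A') *
          (Nat.card A * Nat.card A' * Nat.card ↥(fx V A ⊓ fx V A')) := by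
          rw [mul_left_comm (Nat.card ↥(fx V A ⊔ fx V A')), hsum]; ring
      _ ≤ _ := Nat.mul_le_mul_left _ hle
  have h1 : Nat.card V ≤ Nat.card ↥(fx V A ⊔ fx V A') := Nat.le_of_mul_le_mul_right key Nat.card_pos
  have htop := AddSubgroup.eq_top_of_le_card _ h1
  refine ⟨htop, ?_⟩
  rw [htop, AddSubgroup.card_top] at hsum
  rw [wt, hcard, hfx]
  refine Nat.eq_of_mul_eq_mul_left (Nat.card_pos (α := V)) ?_
  calc Nat.card V * (Nat.card A * Nat.card A' * Nat.card ↥(fx V A ⊓ fx V A'))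
      = Nat.card A * Nat.card (fx V A) * (Nat.card A' * Nat.card (fx V A')) := by
        rw [mul_left_comm (Nat.card V), hsum]; ring
    _ = _ := by rw [hw1, hw2]

theorem im_mem {A A' : Subgroup H} (hA : Mem V A) (hA' : Mem V A') (hne : A ≠ A') (hc : Comm A A')
    {b : H} (hb : b ∈ A') (v : V) : b • v - v ∈ fx V A := by
  obtain ⟨c, hc', c', hc'', rfl⟩ := AddSubgroup.mem_sup.1
    ((hyp.sum_top hA hA' hne hc).1 ▸ AddSubgroup.mem_top v : v ∈ _)
  rw [smul_add, hc'' b hb, add_sub_add_right_eq_sub]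
  exact sub_mem (hc.fx_invariant hb hc') hc'

theorem sup_quad {A A' : Subgroup H} (hA : Mem V A) (hA' : Mem V A') (hne : A ≠ A') (hc : Comm A A') :
    Quad V (A ⊔ A') := by
  let K : Subgroup H :=
    { carrier := {x | x ∈ A ⊔ A' ∧ ∀ v, x • v - v ∈ fx V (A ⊔ A')}
      one_mem' := ⟨one_mem _, fun v => by rw [one_smul, sub_self]; exact zero_mem _⟩
      mul_mem' := fun {a b} ha hb => ⟨mul_mem ha.1 hb.1, fun v => by
        rw [mul_smul, ← sub_add_sub_cancel _ (b • v)]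
        exact add_mem (ha.2 _) (hb.2 v)⟩
      inv_mem' := fun {a} ha => ⟨inv_mem ha.1, fun v => by
        have h := neg_mem (ha.2 (a⁻¹ • v))
        rwa [smul_inv_smul, neg_sub] at h⟩ }
  have h : A ⊔ A' ≤ K := sup_le
    (fun a ha => ⟨mem_sup_left ha, fun v => mem_fx_sup.2
      ⟨hA.quad a ha v, hyp.im_mem hA' hA (Ne.symm hne) hc.symm ha v⟩⟩)
    (fun b hb => ⟨mem_sup_right hb, fun v => mem_fx_sup.2
      ⟨hyp.im_mem hA hA' hne hc hb v, hA'.quad b hb v⟩⟩)
  exact fun x hx v => (h hx).2 v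

/-- No nontrivial element fixes `[V, X]` and maps `C_V(X)` into the root line. -/
theorem pure {A : Subgroup H} (B : Blk V A) {g : H}
    (hW : ∀ x y : B.F, g • B.e ((x, y), 0) = B.e ((x, y), 0))
    (hC : ∀ c : fx V B.X, ∃ a, g • (c : V) = B.e ((a, 0), c)) : g = 1 := by
  classical
  by_contra hg1
  choose α hα using hC
  let w : H := B.ι (rot B.F)
  have hw : ∀ a b c, w • B.e ((a, b), c) = B.e ((-b, a), c) := fun a b c => by
    show B.ι _ • _ = _
    rw [B.act]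
    simp [ent, coe_rot]
  -- elements fixing `[V, X]`, mapping `ker α` to zero and the fixed points into a line
  let P : (B.F → V) → H → Prop := fun ℓ h =>
    (∀ x y : B.F, h • B.e ((x, y), 0) = B.e ((x, y), 0)) ∧
      ∀ c : fx V B.X, (∃ a, h • (c : V) = ℓ a + c) ∧ (α c = 0 → h • (c : V) = c)
  let up' : B.F → V := fun a => B.e ((a, 0), 0)
  let dn : B.F → V := fun a => B.e ((0, a), 0)
  have hsplit : ∀ a c, B.e ((a, 0), c) = up' a + (c : V) := fun a c => by
    show _ = B.e ((a, 0), 0) + (c : V)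
    rw [← B.coe_eq, B.e_add, add_zero, add_zero, zero_add]
  let Φ : Set H := {h | P up' h}
  let Ψ : Set H := {h | P dn h}
  have hgΦ : g ∈ Φ := ⟨hW, fun c => ⟨⟨α c, by rw [hα, hsplit]⟩, fun h0 => by
    rw [hα, h0, B.coe_eq]⟩⟩
  obtain ⟨c₀, hc₀⟩ : ∃ c, α c ≠ 0 := by
    by_contra hno
    push Not at hno
    refine hg1 (B.ext_smul fun a b c => ?_)
    rw [one_smul, show B.e ((a, b), c) = B.e ((a, b), 0) + (c : V) by
      rw [← B.coe_eq, B.e_add, add_zero, add_zero, zero_add], smul_add, hW, hα, hno, B.coe_eq]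
  let Φ' : Subgroup H := Subgroup.closure Φ
  let Ψ' : Subgroup H := Subgroup.closure Ψ
  let K : Subgroup H := Φ' ⊔ Ψ'
  have hKfix : ∀ h ∈ K, (∀ x y : B.F, h • B.e ((x, y), 0) = B.e ((x, y), 0)) ∧
      ∀ c : fx V B.X, (∃ x y, h • (c : V) = B.e ((x, y), 0) + c) ∧ (α c = 0 → h • (c : V) = c) := by
    let K₀ : Subgroup H :=
      { carrier := {h | (∀ x y : B.F, h • B.e ((x, y), 0) = B.e ((x, y), 0)) ∧
          ∀ c : fx V B.X, (∃ x y, h • (c : V) = B.e ((x, y), 0) + c) ∧ (α c = 0 → h • (c : V) = c)}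
        one_mem' := ⟨fun x y => one_smul H _, fun c => ⟨⟨0, 0, by
          rw [one_smul, B.coe_eq]; simp⟩, fun _ => one_smul H _⟩⟩
        mul_mem' := fun {a b} ha hb => ⟨fun x y => by rw [mul_smul, hb.1, ha.1], fun c => by
          obtain ⟨x, y, hxy⟩ := (hb.2 c).1
          obtain ⟨x', y', hxy'⟩ := (ha.2 c).1
          exact ⟨⟨x + x', y + y', by rw [mul_smul, hxy, smul_add, ha.1, hxy', ← add_assoc, B.e_add, add_zero]⟩,
            fun h0 => by rw [mul_smul, (hb.2 c).2 h0, (ha.2 c).2 h0]⟩⟩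
        inv_mem' := fun {a} ha => ⟨fun x y => by rw [inv_smul_eq_iff, ha.1], fun c => by
          obtain ⟨x, y, hxy⟩ := (ha.2 c).1
          exact ⟨⟨-x, -y, by
            rw [inv_smul_eq_iff, smul_add, ha.1, hxy, ← add_assoc, B.e_add, neg_add_cancel,
              neg_add_cancel, add_zero, B.coe_eq]; simp⟩,
            fun h0 => by rw [inv_smul_eq_iff, (ha.2 c).2 h0]⟩⟩ }
    have : K ≤ K₀ := sup_le
      ((Subgroup.closure_le _).2 fun h hh => ⟨hh.1, fun c => ⟨by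
        obtain ⟨a, ha⟩ := (hh.2 c).1; exact ⟨a, 0, ha⟩, (hh.2 c).2⟩⟩)
      ((Subgroup.closure_le _).2 fun h hh => ⟨hh.1, fun c => ⟨by
        obtain ⟨a, ha⟩ := (hh.2 c).1; exact ⟨0, a, ha⟩, (hh.2 c).2⟩⟩)
    exact fun h hh => this hh
  have hKq : Quad V K := by
    intro h hh v k hk
    obtain ⟨a, b, c, rfl⟩ := B.exists_eq v
    obtain ⟨x, y, hxy⟩ := ((hKfix h hh).2 c).1
    have : h • B.e ((a, b), c) - B.e ((a, b), c) = B.e ((x, y), 0) := by
      rw [show B.e ((a, b), c) = B.e ((a, b), 0) + (c : V) by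
        rw [← B.coe_eq, B.e_add, add_zero, add_zero, zero_add], smul_add, (hKfix h hh).1, hxy]
      abel
    rw [this, (hKfix k hk).1]
  -- the weight
  let ker : AddSubgroup ↥(fx V B.X) :=
    { carrier := {c | g • (c : V) = c}
      zero_mem' := by simp
      add_mem' := fun {a b} ha hb => by
        show g • ((a + b : fx V B.X) : V) = _
        rw [AddSubgroup.coe_add, smul_add, ha, hb]
      neg_mem' := fun {a} ha => by
        show g • ((-a : fx V B.X) : V) = _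
        rw [AddSubgroup.coe_neg, smul_neg, ha] }
  have hker : ∀ c, c ∈ ker ↔ α c = 0 := fun c => by
    show g • (c : V) = c ↔ _
    rw [hα, ← B.coe_eq c]
    exact ⟨fun h => (B.inj h).1, fun h => by rw [h]⟩
  have hfxK : (B.F × B.F) × ker → fx V K := fun q => ⟨B.e ((q.1.1, q.1.2), 0) + ((q.2 : fx V B.X) : V),
    fun h hh => by rw [smul_add, (hKfix h hh).1, ((hKfix h hh).2 _).2 ((hker _).1 q.2.2)]⟩
  have hcardfx : Nat.card ((B.F × B.F) × ker) ≤ Nat.card (fx V K) := by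
    refine Nat.card_le_card_of_injective
      (fun q => (⟨B.e ((q.1.1, q.1.2), 0) + ((q.2 : fx V B.X) : V), fun h hh => by
        rw [smul_add, (hKfix h hh).1, ((hKfix h hh).2 _).2 ((hker _).1 q.2.2)]⟩ : fx V K)) ?_
    intro q q' h
    have h' := congrArg Subtype.val h
    simp only [← B.coe_eq, B.e_add, add_zero, zero_add] at h'
    obtain ⟨h1, h2, h3⟩ := B.inj h'
    exact Prod.ext (Prod.ext h1 h2) (Subtype.ext h3)
  have hC' : Nat.card ↥(fx V B.X) ≤ Nat.card B.F * Nat.card ker := by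
    rw [AddSubgroup.card_eq_card_quotient_mul_card_addSubgroup ker]
    refine Nat.mul_le_mul_right _ (Nat.card_le_card_of_injective
      (Quotient.lift α fun a b hab => ?_) ?_)
    · have h : -a + b ∈ ker := QuotientAddGroup.leftRel_apply.1 hab
      have h1 : g • ((-a + b : fx V B.X) : V) = ((-a + b : fx V B.X) : V) := h
      rw [AddSubgroup.coe_add, AddSubgroup.coe_neg, smul_add, smul_neg, hα, hα, ← B.coe_eq a,
        ← B.coe_eq b, ← map_neg, ← map_add, ← map_neg, ← map_add] at h1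
      have h2 := congrArg (fun q : (B.F × B.F) × fx V B.X => q.1.1) (B.e.injective h1)
      simp only [Prod.fst_add, Prod.fst_neg, neg_zero, zero_add] at h2
      exact (neg_add_eq_zero.1 h2)
    · rintro ⟨a⟩ ⟨b⟩ hab
      refine Quotient.sound (QuotientAddGroup.leftRel_apply.2 ?_)
      show g • ((-a + b : fx V B.X) : V) = ((-a + b : fx V B.X) : V)
      have hab' : α a = α b := hab
      rw [AddSubgroup.coe_add, AddSubgroup.coe_neg, smul_add, smul_neg, hα, hα, hab', ← B.coe_eq a,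
        ← B.coe_eq b, ← map_neg, ← map_add, ← map_neg, ← map_add]
      congr 1
      simp
  -- the two orbits
  have horb : ∀ (t : B.F), ∃ h ∈ Φ, ∀ c : fx V B.X, h • (c : V) = up' (t * α c) + c := by
    intro t
    rcases eq_or_ne t 0 with rfl | ht
    · exact ⟨1, ⟨fun x y => one_smul H _, fun c => ⟨⟨0, by
        rw [one_smul, ← hsplit, B.coe_eq]⟩, fun _ => one_smul H _⟩⟩,
        fun (c : fx V B.X) => by rw [one_smul, zero_mul, ← hsplit, B.coe_eq]⟩
    set d := B.d (Units.mk0 t ht)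
    have hdinv : d⁻¹ = B.d (Units.mk0 t ht)⁻¹ := by
      rw [inv_eq_iff_mul_eq_one]
      refine B.ext_smul fun a b c => ?_
      rw [mul_smul, B.d_apply, B.d_apply, one_smul]
      simp [ht]
    have hfix : ∀ c : fx V B.X, (d * g * d⁻¹) • (c : V) = up' (t * α c) + c := fun c => by
      rw [mul_smul, mul_smul, hdinv, ← B.coe_eq c, B.d_apply, mul_zero, mul_zero, B.coe_eq, hα,
        B.d_apply, mul_zero, ← hsplit]
      rfl
    refine ⟨d * g * d⁻¹, ⟨fun x y => ?_, fun c => ⟨⟨_, hfix c⟩, fun h0 => ?_⟩⟩, hfix⟩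
    · rw [mul_smul, mul_smul, hdinv, B.d_apply, hW, B.d_apply]
      simp [ht]
    · rw [hfix, h0, mul_zero, ← hsplit, B.coe_eq]
  choose hΦ hΦm hΦv using horb
  have hwinv : ∀ a b c, w⁻¹ • B.e ((a, b), c) = B.e ((b, -a), c) := fun a b c => by
    rw [inv_smul_eq_iff, hw, neg_neg]
  have hψ : ∀ t, w * hΦ t * w⁻¹ ∈ Ψ ∧ ∀ c : fx V B.X, (w * hΦ t * w⁻¹) • (c : V) = dn (t * α c) + c := by
    intro t
    have hv : ∀ c : fx V B.X, (w * hΦ t * w⁻¹) • (c : V) = dn (t * α c) + c := fun c => by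
      rw [mul_smul, mul_smul, ← B.coe_eq c, hwinv, neg_zero, B.coe_eq, hΦv, smul_add]
      show w • B.e ((t * α c, 0), 0) + w • (c : V) = B.e ((0, t * α c), 0) + (c : V)
      rw [hw, ← B.coe_eq c, hw, neg_zero]
    refine ⟨⟨fun x y => ?_, fun c => ⟨⟨_, hv c⟩, fun h0 => ?_⟩⟩, hv⟩
    · rw [mul_smul, mul_smul, hwinv, (hΦm t).1, hw, neg_neg]
    · rw [hv, h0, mul_zero]
      show B.e ((0, 0), 0) + (c : V) = c
      rw [B.coe_eq]; simp
  have hcardK : Nat.card (B.F × B.F) ≤ Nat.card K := by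
    refine Nat.card_le_card_of_injective (fun q => (⟨hΦ q.1 * (w * hΦ q.2 * w⁻¹),
      mul_mem (mem_sup_left (Subgroup.subset_closure (hΦm _)))
        (mem_sup_right (Subgroup.subset_closure (hψ _).1))⟩ : K)) ?_
    intro q q' h
    have h' := congrArg (fun k : K => (k : H) • (c₀ : V)) h
    simp only [mul_smul (hΦ q.1) _ (c₀ : V), mul_smul (hΦ q'.1) _ (c₀ : V), (hψ _).2, smul_add, hΦv,
      dn, (hΦm _).1] at h'
    simp only [up', ← B.coe_eq c₀, B.e_add, add_zero, zero_add] at h'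
    obtain ⟨h1, h2, -⟩ := B.inj h'
    exact Prod.ext (mul_right_cancel₀ hc₀ h1) (mul_right_cancel₀ hc₀ h2)
  have hle := hyp.wt_le hKq
  rw [wt, B.card_eq] at hle
  rw [Nat.card_prod] at hcardK
  rw [Nat.card_prod, Nat.card_prod] at hcardfx
  have hq : 1 < Nat.card B.F := Finite.one_lt_card
  have hk : 0 < Nat.card ker := Nat.card_pos
  have h5 := le_trans (Nat.mul_le_mul hcardK hcardfx) hle
  have h6 : Nat.card B.F * (Nat.card B.F * Nat.card ↥(fx V B.X)) ≤
      Nat.card B.F * (Nat.card B.F * (Nat.card B.F * Nat.card ker)) :=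
    Nat.mul_le_mul_left _ (Nat.mul_le_mul_left _ hC')
  have h7 : 0 < Nat.card B.F * Nat.card B.F * (Nat.card B.F * Nat.card ker) := by positivity
  nlinarith

/-- The central involution commutes with the root group. -/
theorem z_u {A : Subgroup H} (B : Blk V A) (t : B.F) : B.z * B.u t = B.u t * B.z :=
  B.ext_smul fun a b c => by
    rw [mul_smul, mul_smul, B.u_apply, B.z_apply, B.z_apply, B.u_apply]
    congr 2
    ring_nf

/-- A commuting second member centralises the `SL₂` of the first. -/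
theorem pair {A A' : Subgroup H} (hA : Mem V A) (B : Blk V A) (hA' : Mem V A') (hne : A ≠ A')
    (hc : Comm A A') : ∀ b ∈ A', (∀ x y : B.F, b • B.e ((x, y), 0) = B.e ((x, y), 0)) ∧
      ∀ c : fx V B.X, b • (c : V) ∈ fx V B.X := by
  classical
  have h2 := B.two_ne hyp.two hyp.exp
  have hzz : B.z * B.z = 1 := B.ext_smul fun a b c => by
    rw [mul_smul, B.z_apply, B.z_apply, neg_neg, neg_neg, one_smul]
  have hex : ∀ b ∈ A', ∃ β ψ δ γ, B.Frm b β ψ δ γ := fun b hb =>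
    B.exists_frm (fun x => by
      refine cm_le_iff.2 (fun y hy u _ => hyp.im_mem hA' hA (Ne.symm hne) hc.symm hy u)
        (B.mem_ln_iff.2 ⟨x, rfl⟩) b hb) (hyp.im_mem hA hA' hne hc hb)
  have hline : ∀ {b β ψ δ γ}, b ∈ A' → B.Frm b β ψ δ γ → ∀ y, ∃ c, β y = ψ c ∧ γ y = δ c - c := by
    intro b β ψ δ γ hb hf y
    obtain ⟨w, hw, w', hw', he⟩ := AddSubgroup.mem_sup.1
      ((hyp.sum_top hA hA' hne hc).1 ▸ AddSubgroup.mem_top (B.e ((0, y), 0)) : B.e ((0, y), 0) ∈ _)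
    obtain ⟨a, c, rfl⟩ := B.mem_fx_iff.1 hw
    refine ⟨c, ?_⟩
    have h1 : b • B.e ((0, y), 0) - B.e ((0, y), 0) = b • B.e ((a, 0), c) - B.e ((a, 0), c) := by
      rw [← he, smul_add, hw' b hb, add_sub_add_right_eq_sub]
    rw [hf.app, hf.app, B.e_sub, B.e_sub, hf.β_zero, hf.γ_zero, hf.δ_zero, hf.ψ_zero] at h1
    obtain ⟨h3, -, h4⟩ := B.inj h1
    exact ⟨by simpa using h3, by simpa using h4⟩
  -- `z` conjugates `A'` into `A A'`
  set U := A ⊔ A'
  have hU := hyp.sup_quad hA hA' hne hc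
  have hUw := (hyp.sum_top hA hA' hne hc).2
  have hzD : ∀ v ∈ fx V U, B.z • v ∈ fx V U := by
    intro v hv
    obtain ⟨a, c, rfl⟩ := B.mem_fx_iff.1 (mem_fx_sup.1 hv).1
    have h1 : B.z • B.e ((a, 0), c) = B.e ((a, 0), c) - (B.e ((a, 0), 0) + B.e ((a, 0), 0)) := by
      rw [B.z_apply, B.e_add, B.e_sub]
      congr 2 <;> simp
    rw [h1]
    have hl : B.e ((a, 0), 0) ∈ fx V U :=
      mem_fx_sup.2 ⟨B.mem_fx_iff.2 ⟨a, 0, rfl⟩,
        cm_le_iff.2 (fun y hy u _ => hyp.im_mem hA' hA (Ne.symm hne) hc.symm hy u)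
          (B.mem_ln_iff.2 ⟨a, rfl⟩)⟩
    exact sub_mem hv (add_mem hl hl)
  intro b hb
  obtain ⟨β, ψ, δ, γ, hf⟩ := hex b hb
  have hzU : B.z * b * B.z ∈ U := by
    refine hyp.mem_of_kills hU hUw (fun v hv => ?_) fun v => ?_
    · rw [mul_smul, mul_smul, hzD v hv b (mem_sup_right hb), ← mul_smul, hzz, one_smul]
    · have h := hzD _ (hU b (mem_sup_right hb) (B.z • v))
      rwa [smul_sub, ← mul_smul, ← mul_smul, ← mul_smul, hzz, one_smul] at h
  obtain ⟨a₁, ha₁, b₁, hb₁, he⟩ := mem_sup_of_comm hc hzU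
  obtain ⟨s, rfl⟩ := B.exists_u ha₁
  obtain ⟨β₁, ψ₁, δ₁, γ₁, hf₁⟩ := hex b₁ hb₁
  obtain ⟨hψ₁, hδ₁, hγ₁⟩ := B.frm_uniq_rest ((B.frm_u s).mul hf₁) (he ▸ hf.zconj)
  -- `b₁ = b b₂`
  obtain ⟨β₂, ψ₂, δ₂, γ₂, hf₂⟩ := hex (b⁻¹ * b₁) (mul_mem (inv_mem hb) hb₁)
  obtain ⟨hψ', hδ', hγ'⟩ := B.frm_uniq_rest (mul_inv_cancel_left b b₁ ▸ hf.mul hf₂) hf₁
  have hδ : ∀ c, δ₂ c = c := fun c => hf.δ_inj (by
    have := congrFun hδ' c; have h5 := congrFun hδ₁ c
    simp only [id_eq] at this h5 ⊢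
    rw [this, h5])
  have hψ : ∀ c, ψ₂ c = -ψ c - ψ c := fun c => by
    have := congrFun hψ' c; have h5 := congrFun hψ₁ c
    simp only [hδ, zero_add] at this h5
    linear_combination this + h5
  have hγ : ∀ y, γ y = 0 := by
    intro y
    obtain ⟨c, -, hc₂⟩ := hline (mul_mem (inv_mem hb) hb₁) hf₂ y
    rw [hδ, sub_self] at hc₂
    have := congrFun hγ' y; have h5 := congrFun hγ₁ y
    simp only [hc₂, hf.δ_zero, id_eq, zero_add, add_zero] at this h5
    exact B.eq_zero_of_eq_neg hyp.two hyp.exp (this.trans h5)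
  have hγ₂ : ∀ y, γ₂ y = 0 := fun y => by
    obtain ⟨c, -, hc₂⟩ := hline (mul_mem (inv_mem hb) hb₁) hf₂ y
    rwa [hδ, sub_self] at hc₂
  -- the pure element
  have hzc : ∀ c : fx V B.X, B.z • B.e ((0, 0), c) = B.e ((0, 0), c) := fun c => by
    rw [B.z_apply, neg_zero]
  set b₂ := b⁻¹ * b₁
  have hz₂ := hf₂.zconj
  have hψ0 : ∀ c, ψ c = 0 := by
    have hw : b₂ * (B.z * b₂ * B.z)⁻¹ = 1 := by
      refine hyp.pure B (fun x y => ?_) fun c => ⟨ψ₂ c + ψ₂ c, ?_⟩
      · rw [mul_smul, show (B.z * b₂ * B.z)⁻¹ • B.e ((x, y), 0) = B.e ((x - β₂ y, y), 0) by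
          rw [inv_smul_eq_iff, hz₂.app]
          simp [hγ₂, hf₂.ψ_zero, hf₂.δ_zero], hf₂.app]
        simp [hγ₂, hf₂.ψ_zero, hf₂.δ_zero]
      · rw [← B.coe_eq c, mul_smul, show (B.z * b₂ * B.z)⁻¹ • B.e ((0, 0), c) =
          B.e ((ψ₂ c, 0), c) by
          rw [inv_smul_eq_iff, hz₂.app]
          simp [hγ₂, hf₂.β_zero, hδ], hf₂.app]
        simp [hγ₂, hf₂.β_zero, hδ]
    intro c
    have h1 := congrArg (· • B.e ((0, 0), c)) (mul_inv_eq_one.1 hw)
    simp only [hz₂.app 0 0 c, hf₂.app 0 0 c, hγ₂, hδ, hf₂.β_zero] at h1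
    obtain ⟨h3, -, -⟩ := B.inj h1
    rw [hψ] at h3
    have h4 : (2 : B.F) * (2 * ψ c) = 0 := by linear_combination -h3
    simpa [h2] using h4
  have hβ : ∀ y, β y = 0 := fun y => by
    obtain ⟨c, hc₁, -⟩ := hline hb hf y
    rw [hc₁, hψ0]
  refine ⟨fun x y => ?_, fun c => ?_⟩
  · rw [hf.app]; simp [hβ, hγ, hψ0, hf.δ_zero]
  · rw [← B.coe_eq c, hf.app]
    simp [hf.β_zero, hψ0, hγ, B.coe_eq]

end Hyp

end H80.LFF
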