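import Cfsg.Agent.H80.Zip
import Cfsg.Agent.H74.SL2

/-!
Coordinates for the natural `SL₂` through a minimal offender (`p` odd) and exactness of all
quadratic offenders.
-/

set_option autoImplicit false
set_option linter.unusedSectionVars false

open Subgroup H73
open scoped MatrixGroups

namespace H80.LFF

universe uH uV

variable {p : ℕ} [Fact p.Prime] {H : Type uH} [Group H] [Finite H] {V : Type uV} [AddCommGroup V]
  [Finite V] [DistribMulAction H V] [FaithfulSMul H V]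

/-- Matrix entries. -/
def ent {F : Type} [Field F] (g : SL(2, F)) (i j : Fin 2) : F := (g : Matrix (Fin 2) (Fin 2) F) i j

/-- A natural `SL₂` through `A`, with coordinates. -/
structure Blk (V : Type uV) [AddCommGroup V] [DistribMulAction H V] (A : Subgroup H) where
  F : Type
  [fld : Field F]
  [fin : Fintype F]
  X : Subgroup H
  ι : SL(2, F) →* H
  range_eq : ι.range = X
  e : (F × F) × fx V X ≃+ V
  e_fix : ∀ c, e ((0, 0), c) = (c : V)
  act : ∀ (g : SL(2, F)) (a b : F) (c : fx V X),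
    ι g • e ((a, b), c) = e ((ent g 0 0 * a + ent g 0 1 * b, ent g 1 0 * a + ent g 1 1 * b), c)
  mem_iff : ∀ x : H, x ∈ A ↔ ∃ t : F, ι (H74.SL2.uT t) = x

attribute [instance] Blk.fld Blk.fin

/-- The hypotheses on the acting group. -/
structure Hyp (p : ℕ) (V : Type uV) [AddCommGroup V] [DistribMulAction H V] (T M : Subgroup H) :
    Prop where
  two : p ≠ 2
  exp : ∀ v : V, p • v = 0
  Tp : IsPGroup p T
  TM : T ≤ M
  sylow : SylIn p T ⊤
  M_ne : M ≠ ⊤
  uniq : ∀ Y : Subgroup H, T ≤ Y → ¬ Y ≤ M → Y = ⊤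
  cent : ∀ h : H, (∀ v ∈ fx V T, h • v = v) → h ∈ M
  core : opc p (⊤ : Subgroup H) = ⊥

theorem fx_cj (g : H) (A : Subgroup H) {v : V} : v ∈ fx V (cj g A) ↔ g⁻¹ • v ∈ fx V A := by
  rw [← smul_mem_fx_cn (g := g) (A := A) (v := g⁻¹ • v), smul_inv_smul]

theorem exists_base_change {F : Type} [Field F] (w : Fin 2 → F) (hw : w ≠ 0) :
    ∃ g : SL(2, F), ∀ i, ent g i 0 = w i := by
  by_cases h : w 0 = 0
  · have h1 : w 1 ≠ 0 := fun h1 => hw (funext fun i => by fin_cases i <;> assumption)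
    refine ⟨⟨!![0, -(w 1)⁻¹; w 1, 0], by simp [Matrix.det_fin_two, h1]⟩, fun i => ?_⟩
    fin_cases i <;> simp [ent, h]
  · refine ⟨⟨!![w 0, 0; w 1, (w 0)⁻¹], by simp [Matrix.det_fin_two, h]⟩, fun i => ?_⟩
    fin_cases i <;> simp [ent]

theorem eq_uT {F : Type} [Field F] {g : SL(2, F)} (h0 : ent g 0 0 = 1) (h1 : ent g 1 0 = 0) :
    g = H74.SL2.uT (ent g 0 1) := by
  have hdet : ent g 0 0 * ent g 1 1 - ent g 0 1 * ent g 1 0 = 1 := by
    rw [← g.2, Matrix.det_fin_two]; rfl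
  rw [h0, h1, one_mul, mul_zero, sub_zero] at hdet
  apply Subtype.ext
  rw [H74.SL2.coe_uT]
  ext i j
  fin_cases i <;> fin_cases j <;> simp
  · exact h0
  · rfl
  · exact h1
  · exact hdet

theorem mulVec_two {F : Type} [Field F] (g : SL(2, F)) (a b : F) :
    (g : Matrix (Fin 2) (Fin 2) F).mulVec ![a, b] =
      ![ent g 0 0 * a + ent g 0 1 * b, ent g 1 0 * a + ent g 1 1 * b] := by
  ext i
  fin_cases i <;> simp [Matrix.mulVec, dotProduct, Fin.sum_univ_two, ent]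

/-- From a natural action to coordinates. -/
theorem nonempty_blk (hp : p ≠ 2) (hV : ∀ v : V, p • v = 0) {X D : Subgroup H} (hq : Quad V D)
    (hD0 : D ≠ ⊥) (hDX : D ≤ X) {F : Type} [Field F] [Fintype F] (hcard : Fintype.card F = Nat.card D)
    (ρ : X →* SL(2, F)) (hρ : Function.Bijective ρ) (c : V →+ (Fin 2 → F)) (hc : Function.Surjective c)
    (hker : ∀ v, c v = 0 ↔ v ∈ fx V X)
    (hact : ∀ (g : X) (v : V), c ((g : H) • v) = (ρ g : Matrix (Fin 2) (Fin 2) F).mulVec (c v)) :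
    ∃ B : Blk V D, B.X = X := by
  classical
  -- the line fixed by `D`
  obtain ⟨⟨a₀, ha₀⟩, hne⟩ := Subgroup.ne_bot_iff_exists_ne_one.1 hD0
  have ha₀1 : a₀ ≠ 1 := fun h1 => hne (Subtype.ext h1)
  obtain ⟨v₀, hv₀⟩ : ∃ v, c (a₀ • v - v) ≠ 0 := by
    by_contra hno
    push Not at hno
    refine ha₀1 ?_
    have h1 : ρ ⟨a₀, hDX ha₀⟩ = 1 := Subtype.ext (Matrix.ext_of_mulVec_single fun i => by
      obtain ⟨v, hv⟩ := hc (Pi.single i 1)
      rw [← hv, ← hact ⟨a₀, hDX ha₀⟩ v, Matrix.SpecialLinearGroup.coe_one, Matrix.one_mulVec]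
      have := hno v
      rwa [map_sub, sub_eq_zero] at this)
    exact congrArg Subtype.val (hρ.1 (h1.trans (map_one ρ).symm))
  set w := c (a₀ • v₀ - v₀)
  obtain ⟨g₀, hg₀⟩ := exists_base_change w hv₀
  have hwfix : ∀ b (hb : b ∈ D), (ρ ⟨b, hDX hb⟩ : Matrix (Fin 2) (Fin 2) F).mulVec w = w := by
    intro b hb
    rw [← hact, hq a₀ ha₀ v₀ b hb]
  let e₂ : X ≃* SL(2, F) := MulEquiv.ofBijective ρ hρ
  let ι : SL(2, F) →* H :=
    X.subtype.comp (e₂.symm.toMonoidHom.comp (MulAut.conj g₀).toMonoidHom)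
  have hι : ∀ g, ∃ y : X, (y : H) = ι g ∧ ρ y = g₀ * g * g₀⁻¹ := fun g =>
    ⟨e₂.symm (g₀ * g * g₀⁻¹), rfl, e₂.apply_symm_apply _⟩
  have hι' : ∀ y : X, ι (g₀⁻¹ * ρ y * g₀) = y := fun y => by
    show ((e₂.symm (g₀ * (g₀⁻¹ * ρ y * g₀) * g₀⁻¹) : X) : H) = y
    rw [show g₀ * (g₀⁻¹ * ρ y * g₀) * g₀⁻¹ = e₂ y by simp [mul_assoc, e₂], e₂.symm_apply_apply]
  let c' : V →+ (Fin 2 → F) :=
    (Matrix.mulVecLin (((g₀⁻¹ : SL(2, F)) : Matrix (Fin 2) (Fin 2) F))).toAddMonoidHom.comp c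
  have hc'ap : ∀ v, c' v = ((g₀⁻¹ : SL(2, F)) : Matrix (Fin 2) (Fin 2) F).mulVec (c v) := fun _ => rfl
  have hg₀inv : ∀ x, (g₀ : Matrix (Fin 2) (Fin 2) F).mulVec
      (((g₀⁻¹ : SL(2, F)) : Matrix (Fin 2) (Fin 2) F).mulVec x) = x := fun x => by
    rw [Matrix.mulVec_mulVec, ← Matrix.SpecialLinearGroup.coe_mul, mul_inv_cancel,
      Matrix.SpecialLinearGroup.coe_one, Matrix.one_mulVec]
  have hc'ker : ∀ v, c' v = 0 ↔ v ∈ fx V X := fun v => by
    rw [← hker, hc'ap]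
    exact ⟨fun h => by rw [← hg₀inv (c v), h, Matrix.mulVec_zero],
      fun h => by rw [h, Matrix.mulVec_zero]⟩
  have hc'act : ∀ g v, c' (ι g • v) = (g : Matrix (Fin 2) (Fin 2) F).mulVec (c' v) := by
    intro g v
    obtain ⟨y, hy, hy'⟩ := hι g
    rw [hc'ap, ← hy, hact, hy', hc'ap, Matrix.mulVec_mulVec, Matrix.mulVec_mulVec,
      ← Matrix.SpecialLinearGroup.coe_mul, ← Matrix.SpecialLinearGroup.coe_mul]
    rw [show g₀⁻¹ * (g₀ * g * g₀⁻¹) = g * g₀⁻¹ by simp [mul_assoc]]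
  have hc'surj : Function.Surjective c' := fun x => by
    obtain ⟨v, hv⟩ := hc ((g₀ : Matrix (Fin 2) (Fin 2) F).mulVec x)
    refine ⟨v, ?_⟩
    rw [hc'ap, hv, Matrix.mulVec_mulVec, ← Matrix.SpecialLinearGroup.coe_mul, inv_mul_cancel,
      Matrix.SpecialLinearGroup.coe_one, Matrix.one_mulVec]
  -- the involution
  obtain ⟨k, hk⟩ : ∃ k : ℕ, ∀ v : V, k • (v + v) = v := by
    obtain ⟨m, hm⟩ := (Fact.out : p.Prime).odd_of_ne_two hp
    refine ⟨m + 1, fun v => ?_⟩
    rw [← two_nsmul, smul_smul, show (m + 1) * 2 = p + 1 by omega, succ_nsmul, hV, zero_add]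
  set z := ι (-1)
  have hzc : ∀ v, c' (z • v) = -c' v := fun v => by
    rw [hc'act, Matrix.SpecialLinearGroup.coe_neg, Matrix.SpecialLinearGroup.coe_one,
      Matrix.neg_mulVec, Matrix.one_mulVec]
  have hzfix : ∀ v ∈ fx V X, z • v = v := fun v hv => by
    obtain ⟨y, hy, -⟩ := hι (-1)
    show ι (-1) • v = v
    rw [← hy]
    exact hv _ y.2
  let W : AddSubgroup V :=
    { carrier := {v | z • v = -v}
      zero_mem' := by simp
      add_mem' := fun {a b} ha hb => by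
        show z • (a + b) = -(a + b)
        rw [smul_add, ha, hb, neg_add]
      neg_mem' := fun {a} ha => by show z • -a = - -a; rw [smul_neg, ha] }
  have hz2 : ∀ v : V, z • z • v = v := fun v => by
    rw [← mul_smul, ← map_mul, show (-1 : SL(2, F)) * -1 = 1 by simp, map_one, one_smul]
  have hfW : Function.Bijective (c'.comp W.subtype) := by
    refine ⟨(injective_iff_map_eq_zero _).2 fun v hv => Subtype.ext ?_, fun x => ?_⟩
    · have h1 := hzfix v ((hc'ker v).1 hv)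
      have h2 : (v : V) + v = 0 := by
        nth_rewrite 1 [← h1]
        rw [v.2, neg_add_cancel]
      rw [← hk (v : V), h2, nsmul_zero]; rfl
    · obtain ⟨v, rfl⟩ := hc'surj x
      refine ⟨⟨k • (v - z • v), ?_⟩, ?_⟩
      · show z • k • (v - z • v) = -(k • (v - z • v))
        rw [smul_comm, smul_sub, hz2, ← smul_neg, neg_sub]
      · show c' (k • (v - z • v)) = c' v
        rw [map_nsmul, map_sub, hzc, sub_neg_eq_add, ← map_add, ← map_nsmul, hk]
  let f : W ≃+ (Fin 2 → F) := AddEquiv.ofBijective _ hfW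
  have hf : ∀ x, c' (f.symm x : V) = x := fun x => f.apply_symm_apply x
  let σ : (F × F) × fx V X →+ V :=
    AddMonoidHom.mk' (fun q => (f.symm ![q.1.1, q.1.2] : V) + (q.2 : V)) fun a b => by
      have : (![(a + b).1.1, (a + b).1.2] : Fin 2 → F) = ![a.1.1, a.1.2] + ![b.1.1, b.1.2] := by
        ext i; fin_cases i <;> simp
      show (f.symm ![(a + b).1.1, (a + b).1.2] : V) + ((a + b).2 : V) = _
      rw [this, map_add, Prod.snd_add, AddSubgroup.coe_add, AddSubgroup.coe_add]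
      abel
  have hσ : ∀ a b cc, σ ((a, b), cc) = (f.symm ![a, b] : V) + (cc : V) := fun _ _ _ => rfl
  have hσbij : Function.Bijective σ := by
    refine ⟨(injective_iff_map_eq_zero _).2 fun q hq => ?_, fun v => ?_⟩
    · obtain ⟨⟨a, b⟩, cc⟩ := q
      rw [hσ] at hq
      have h1 := congrArg c' hq
      rw [map_add, hf, (hc'ker _).2 cc.2, add_zero, map_zero] at h1
      rw [h1, map_zero, ZeroMemClass.coe_zero, zero_add] at hq
      exact Prod.ext (Prod.ext (congrFun h1 0) (congrFun h1 1)) (Subtype.ext hq)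
    · refine ⟨((c' v 0, c' v 1), ⟨v - (f.symm (c' v) : V), (hc'ker _).1 (by rw [map_sub, hf, sub_self])⟩), ?_⟩
      rw [hσ, show (![c' v 0, c' v 1] : Fin 2 → F) = c' v by ext i; fin_cases i <;> rfl]
      exact add_sub_cancel _ _
  refine ⟨{ F := F, X := X, ι := ι, range_eq := ?_, e := AddEquiv.ofBijective σ hσbij,
            e_fix := ?_, act := ?_, mem_iff := ?_ }, rfl⟩
  · ext x
    refine ⟨?_, fun hx => ⟨_, hι' ⟨x, hx⟩⟩⟩
    rintro ⟨g, rfl⟩
    obtain ⟨y, hy, -⟩ := hι g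
    exact hy ▸ y.2
  · intro cc
    show σ ((0, 0), cc) = cc
    rw [hσ, show (![0, 0] : Fin 2 → F) = 0 by ext i; fin_cases i <;> rfl, map_zero,
      ZeroMemClass.coe_zero, zero_add]
  · intro g a b cc
    show ι g • σ ((a, b), cc) = σ (_, cc)
    obtain ⟨y, hy, -⟩ := hι g
    have hzg : z * ι g = ι g * z := by
      rw [← map_mul, ← map_mul, neg_one_mul, mul_neg_one]
    have hW : ι g • (f.symm ![a, b] : V) ∈ W := by
      show z • ι g • _ = -(ι g • _)
      rw [← mul_smul, hzg, mul_smul, (f.symm ![a, b]).2, smul_neg]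
    rw [hσ, hσ, smul_add, show ι g • (cc : V) = cc from hy ▸ cc.2 _ y.2]
    congr 1
    refine congrArg Subtype.val (f.eq_symm_apply.2 ?_ :
      (⟨_, hW⟩ : W) = f.symm ![ent g 0 0 * a + ent g 0 1 * b, ent g 1 0 * a + ent g 1 1 * b])
    show c' (ι g • (f.symm ![a, b] : V)) = _
    rw [hc'act, hf, mulVec_two]
  · have hmap : ∀ b (hb : b ∈ D), ∃ t, ι (H74.SL2.uT t) = b := by
      intro b hb
      set g := g₀⁻¹ * ρ ⟨b, hDX hb⟩ * g₀
      have h1 : (g : Matrix (Fin 2) (Fin 2) F).mulVec ![1, 0] = ![1, 0] := by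
        have hw' : (g₀ : Matrix (Fin 2) (Fin 2) F).mulVec ![1, 0] = w := by
          ext i
          have := hg₀ i
          fin_cases i <;> simp [Matrix.mulVec, dotProduct, Fin.sum_univ_two, ent] at this ⊢ <;> exact this
        simp only [g, Matrix.SpecialLinearGroup.coe_mul, ← Matrix.mulVec_mulVec]
        rw [hw', hwfix b hb, ← hw', Matrix.mulVec_mulVec, ← Matrix.SpecialLinearGroup.coe_mul,
          inv_mul_cancel, Matrix.SpecialLinearGroup.coe_one, Matrix.one_mulVec]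
      rw [mulVec_two] at h1
      have h00 := congrFun h1 0
      have h10 := congrFun h1 1
      simp at h00 h10
      exact ⟨_, (congrArg ι (eq_uT h00 h10).symm).trans (hι' ⟨b, hDX hb⟩)⟩
    intro x
    refine ⟨hmap x, ?_⟩
    rintro ⟨t, rfl⟩
    let φ : D → F := fun b => (hmap b b.2).choose
    have hφ : ∀ b : D, ι (H74.SL2.uT (φ b)) = b := fun b => (hmap b b.2).choose_spec
    have hinj : Function.Injective φ := fun a b hab => Subtype.ext (by rw [← hφ a, ← hφ b, hab])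
    obtain ⟨b, hb⟩ := ((Nat.bijective_iff_injective_and_card φ).2
      ⟨hinj, by rw [Nat.card_eq_fintype_card (α := F), hcard]⟩).2 t
    rw [← hb, hφ b]
    exact b.2

/-- A diagonal matrix. -/
def dia {F : Type} [Field F] (t : Fˣ) : SL(2, F) :=
  ⟨!![(t : F), 0; 0, ((t⁻¹ : Fˣ) : F)], by simp [Matrix.det_fin_two]⟩

theorem coe_dia {F : Type} [Field F] (t : Fˣ) :
    (dia t : Matrix (Fin 2) (Fin 2) F) = !![(t : F), 0; 0, ((t⁻¹ : Fˣ) : F)] := rfl

namespace Blk

variable {A : Subgroup H} (B : Blk V A)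

/-- Upper root elements. -/
def u (t : B.F) : H := B.ι (H74.SL2.uT t)

/-- Lower root elements. -/
def l (t : B.F) : H := B.ι (H74.SL2.lT t)

/-- The torus. -/
def d (t : B.Fˣ) : H := B.ι (dia t)

/-- The central involution. -/
def z : H := B.ι (-1)

theorem u_apply (t a b : B.F) (c : fx V B.X) :
    B.u t • B.e ((a, b), c) = B.e ((a + t * b, b), c) := by
  rw [u, B.act]; simp [ent, H74.SL2.coe_uT]

theorem l_apply (t a b : B.F) (c : fx V B.X) :
    B.l t • B.e ((a, b), c) = B.e ((a, t * a + b), c) := by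
  rw [l, B.act]; simp [ent, H74.SL2.coe_lT]

theorem d_apply (t : B.Fˣ) (a b : B.F) (c : fx V B.X) :
    B.d t • B.e ((a, b), c) = B.e (((t : B.F) * a, ((t⁻¹ : B.Fˣ) : B.F) * b), c) := by
  rw [d, B.act]; simp [ent, coe_dia]

theorem z_apply (a b : B.F) (c : fx V B.X) : B.z • B.e ((a, b), c) = B.e ((-a, -b), c) := by
  rw [z, B.act]; simp [ent]

theorem exists_eq (v : V) : ∃ a b c, v = B.e ((a, b), c) := by
  obtain ⟨q, rfl⟩ := B.e.surjective v
  exact ⟨q.1.1, q.1.2, q.2, rfl⟩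

theorem u_mem (t : B.F) : B.u t ∈ A := (B.mem_iff _).2 ⟨t, rfl⟩

theorem exists_u {x : H} (hx : x ∈ A) : ∃ t, B.u t = x := (B.mem_iff x).1 hx

theorem u_inj {s t : B.F} (h : B.u s = B.u t) : s = t := by
  have h1 := congrArg (· • B.e ((0, 1), 0)) h
  simp only [B.u_apply, EmbeddingLike.apply_eq_iff_eq, Prod.mk.injEq] at h1
  simpa using h1.1.1

theorem range_le {g : SL(2, B.F)} : B.ι g ∈ B.X := B.range_eq ▸ ⟨g, rfl⟩

theorem mem_fx_iff {v : V} : v ∈ fx V A ↔ ∃ a c, v = B.e ((a, 0), c) := by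
  constructor
  · intro h
    obtain ⟨a, b, c, rfl⟩ := B.exists_eq v
    have h1 := h _ (B.u_mem 1)
    simp only [B.u_apply, EmbeddingLike.apply_eq_iff_eq, Prod.mk.injEq, one_mul] at h1
    exact ⟨a, c, by rw [add_eq_left.1 h1.1.1]⟩
  · rintro ⟨a, c, rfl⟩ x hx
    obtain ⟨t, rfl⟩ := B.exists_u hx
    rw [B.u_apply, mul_zero, add_zero]

theorem card_eq : Nat.card V = Nat.card B.F * (Nat.card B.F * Nat.card (fx V B.X)) := by
  rw [← Nat.card_congr B.e.toEquiv, Nat.card_prod, Nat.card_prod, mul_assoc]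

theorem card_A : Nat.card A = Nat.card B.F :=
  (Nat.card_congr (Equiv.ofBijective (fun t : B.F => (⟨B.u t, B.u_mem t⟩ : A))
    ⟨fun _ _ h => B.u_inj (congrArg Subtype.val h),
      fun x => (B.exists_u x.2).imp fun _ h => Subtype.ext h⟩)).symm

include B in
theorem wt_eq : wt V A = Nat.card V := by
  rw [wt, B.card_A, B.card_eq]
  congr 1
  rw [← Nat.card_prod]
  exact (Nat.card_congr (Equiv.ofBijective
    (fun q : B.F × fx V B.X => (⟨B.e ((q.1, 0), q.2), B.mem_fx_iff.2 ⟨_, _, rfl⟩⟩ : fx V A))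
    ⟨fun x y h => by
      have := B.e.injective (congrArg Subtype.val h)
      simp only [Prod.mk.injEq] at this
      exact Prod.ext this.1.1 this.2,
    fun v => by
      obtain ⟨a, c, h⟩ := B.mem_fx_iff.1 v.2
      exact ⟨(a, c), Subtype.ext h.symm⟩⟩)).symm

/-- The conjugate coordinates. -/
noncomputable def conj (g : H) : Blk V (cj g A) where
  F := B.F
  X := cj g B.X
  ι := (MulAut.conj g).toMonoidHom.comp B.ι
  range_eq := by rw [MonoidHom.range_comp, B.range_eq]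
  e := ((AddEquiv.refl (B.F × B.F)).prodCongr
      ((DistribMulAction.toAddEquiv V g⁻¹).addSubgroupMap (fx V (cj g B.X)) |>.trans
        (AddEquiv.addSubgroupCongr (by
          ext v
          rw [AddSubgroup.mem_map]
          exact ⟨by rintro ⟨w, hw, rfl⟩; exact (fx_cj g B.X).1 hw,
            fun hv => ⟨g • v, smul_mem_fx_cn.2 hv, by simp⟩⟩)))).trans
    (B.e.trans (DistribMulAction.toAddEquiv V g))
  e_fix c := by
    show g • B.e ((0, 0), _) = (c : V)
    rw [B.e_fix]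
    exact smul_inv_smul g (c : V)
  act h a b c := by
    show (g * B.ι h * g⁻¹) • g • B.e ((a, b), _) = g • B.e (_, _)
    rw [← mul_smul, mul_assoc, inv_mul_cancel, mul_one, mul_smul, B.act]
    rfl
  mem_iff x := by
    rw [mem_cj, B.mem_iff]
    exact exists_congr fun t =>
      ⟨fun h => by show g * B.ι _ * g⁻¹ = x; rw [h]; group,
        fun h => by
          have h' : g * B.ι (H74.SL2.uT t) * g⁻¹ = x := h
          rw [← h']; group⟩

end Blk

namespace Hyp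

variable {T M : Subgroup H} (hyp : Hyp p V T M)
include hyp

theorem conj_le {P : Subgroup H} (hP : IsPGroup p P) : ∃ g : H, cj g P ≤ T := by
  obtain ⟨g, -, hg⟩ := hyp.sylow.exists_conj_le hP le_top
  exact ⟨g, hg⟩

theorem exists_blk_of_class (𝒟 : Set (Subgroup H)) (h𝒟 : Closed 𝒟) (hmem : ∀ D ∈ 𝒟, Mem V D)
    {D₀ : Subgroup H} (hD₀ : D₀ ∈ 𝒟) :
    ∃ D ∈ 𝒟, D ≤ T ∧ ∃ B : Blk V D, ¬ B.X ≤ M := by
  obtain ⟨g, hg⟩ := hyp.conj_le ((hmem _ hD₀).quad.isPGroup hyp.exp)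
  obtain ⟨X, D, hD, hDT, hDX, hXM, F, iF, iF', hcard, ρ, hρ, c, hc, hker, hact⟩ :=
    exists_natural hyp.exp hyp.Tp hyp.TM hyp.sylow hyp.M_ne hyp.uniq hyp.cent 𝒟 h𝒟 hmem
      ⟨cj g D₀, h𝒟 _ hD₀ g, hg, by
        rw [hyp.core, le_bot_iff]
        exact ((hmem _ hD₀).cn g).ne_bot⟩
  obtain ⟨B, hB⟩ := nonempty_blk hyp.two hyp.exp (hmem D hD).quad (hmem D hD).ne_bot hDX hcard ρ hρ c
    hc hker hact
  exact ⟨D, hD, hDT, B, hB ▸ hXM⟩

/-- No quadratic subgroup is more than an exact offender. -/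
theorem wt_le {A : Subgroup H} (hA : Quad V A) : wt V A ≤ Nat.card V := by
  by_contra hgt
  obtain ⟨A₁, hA₁, hmax⟩ := Set.exists_max_image {B : Subgroup H | Quad V B} (wt V)
    (Set.toFinite _) ⟨A, hA⟩
  obtain ⟨A₂, -, hA₂⟩ := Finite.exists_le_minimal
    (p := fun B : Subgroup H => Quad V B ∧ wt V A₁ ≤ wt V B) (a := A₁) ⟨hA₁, le_rfl⟩
  have hAA₁ := hmax A hA
  let 𝒟 : Set (Subgroup H) := {D | Mem V D ∧ wt V D = wt V A₁}
  have h2 : wt V A₂ = wt V A₁ := le_antisymm (hmax _ hA₂.prop.1) hA₂.prop.2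
  have hmem2 : Mem V A₂ :=
    { ne_bot := fun h0 => by rw [h0, wt_bot] at h2; omega
      quad := hA₂.prop.1
      off := by omega
      strict := fun B hB _ hne => by
        by_contra hge
        exact hne (le_antisymm hB (hA₂.le_of_le ⟨hA₂.prop.1.mono hB, by omega⟩ hB)) }
  obtain ⟨D, hD, -, B, -⟩ := hyp.exists_blk_of_class 𝒟 (fun D hD g => ⟨hD.1.cn g, by rw [wt_cn]; exact hD.2⟩)
    (fun D hD => hD.1) ⟨hmem2, h2⟩
  have h3 := hD.2
  rw [B.wt_eq] at h3
  omega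

/-- Every minimal offender has a natural `SL₂`, not in `M` after conjugation into `T`. -/
theorem exists_blk {A : Subgroup H} (hA : Mem V A) : Nonempty (Blk V A) := by
  obtain ⟨D, ⟨g, rfl⟩, -, B, -⟩ := hyp.exists_blk_of_class {D | ∃ g, D = cj g A}
    (fun D ⟨g, hg⟩ k => ⟨k * g, by rw [hg, cj_cj]⟩) (fun D ⟨g, hg⟩ => hg ▸ hA.cn g) ⟨1, (cj_one A).symm⟩
  exact ⟨cj_inv_cj g A ▸ B.conj g⁻¹⟩

theorem wt_mem {A : Subgroup H} (hA : Mem V A) : wt V A = Nat.card V :=
  le_antisymm (hyp.wt_le hA.quad) hA.off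

/-- Two exact quadratic groups with the same fixed points coincide; element form. -/
theorem mem_of_kills {A : Subgroup H} (hA : Quad V A) (hw : wt V A = Nat.card V) {g : H}
    (hfix : ∀ v ∈ fx V A, g • v = v) (him : ∀ v, g • v - v ∈ fx V A) : g ∈ A := by
  let K : Subgroup H :=
    { carrier := {x | (∀ v ∈ fx V A, x • v = v) ∧ ∀ v, x • v - v ∈ fx V A}
      one_mem' := ⟨fun v _ => one_smul H v, fun v => by rw [one_smul, sub_self]; exact zero_mem _⟩
      mul_mem' := fun {a b} ha hb => ⟨fun v hv => by rw [mul_smul, hb.1 v hv, ha.1 v hv], fun v => by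
        rw [mul_smul, ← sub_add_sub_cancel _ (b • v)]
        exact add_mem (ha.2 _) (hb.2 v)⟩
      inv_mem' := fun {a} ha => ⟨fun v hv => by rw [inv_smul_eq_iff, ha.1 v hv], fun v => by
        have h := neg_mem (ha.2 (a⁻¹ • v))
        rwa [smul_inv_smul, neg_sub] at h⟩ }
  have hfxK : fx V A ≤ fx V K := fun v hv x hx => hx.1 v hv
  have hAK : A ≤ K := fun a ha => ⟨fun v hv => hv a ha, fun v => hA a ha v⟩
  have hKq : Quad V K := fun x hx v => hfxK (hx.2 v)
  have heq : fx V K = fx V A := le_antisymm (fx_anti hAK) hfxK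
  have hle := hyp.wt_le hKq
  rw [← hw, wt, wt, heq] at hle
  have hcard : Nat.card K ≤ Nat.card A := Nat.le_of_mul_le_mul_right hle Nat.card_pos
  rw [Subgroup.eq_of_le_of_card_ge hAK hcard]
  exact ⟨hfix, him⟩

theorem le_of_kills {A B : Subgroup H} (hA : Quad V A) (hw : wt V A = Nat.card V)
    (hfix : fx V A ≤ fx V B) (him : ∀ b ∈ B, ∀ v, b • v - v ∈ fx V A) : B ≤ A :=
  fun b hb => hyp.mem_of_kills hA hw (fun v hv => hfix hv b hb) (him b hb)

end Hyp

end H80.LFF
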