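import Mathlib
import Cfsg.Agent.H31.SectRank
import Cfsg.Agent.H31.SmallCentralizer
import Cfsg.Agent.H30.Basic

/-!
A 2-group with an elementary abelian subgroup `T` of order 16 that is the centraliser of each
involution of a four-subgroup `B ≤ T` has order at most 128 and sectional rank at most 4.
-/

set_option autoImplicit false
set_option linter.style.haveILetI false
set_option linter.unusedSectionVars false

namespace H80.DihFour

open H31.SR
open scoped commutatorElement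

universe u

variable {G : Type u} [Group G] [Finite G]

/-- A convenient criterion for membership in a normaliser. -/
theorem mem_norm {K : Subgroup G} {h : G} (hh : ∀ x ∈ K, h * x * h⁻¹ ∈ K) :
    h ∈ Subgroup.normalizer (K : Set G) := by
  rw [Subgroup.mem_normalizer_iff]
  intro x
  refine ⟨hh x, fun hx => ?_⟩
  let f : K → K := fun y => ⟨h * y * h⁻¹, hh y y.2⟩
  have hf : Function.Injective f := fun y y' e =>
    Subtype.ext (mul_left_cancel (mul_right_cancel (congrArg Subtype.val e)))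
  obtain ⟨y, hy⟩ := (Finite.injective_iff_surjective.mp hf) ⟨_, hx⟩
  have hxy : (y : G) = x := mul_left_cancel (mul_right_cancel (congrArg Subtype.val hy))
  exact hxy ▸ y.2

theorem conj_mem_of_norm {K : Subgroup G} {h : G} (hh : h ∈ Subgroup.normalizer (K : Set G))
    {x : G} (hx : x ∈ K) : h * x * h⁻¹ ∈ K :=
  (Subgroup.mem_normalizer_iff.mp hh x).mp hx

theorem inv_eq_self {x : G} (hx : x * x = 1) : x⁻¹ = x := inv_eq_of_mul_eq_one_right hx

theorem comm_eq {x y : G} (hx : x * x = 1) : ⁅x, y⁆ = x * (y * x * y⁻¹) := by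
  rw [commutatorElement_def, inv_eq_self hx]; group

/-- An element acting as an involution on an elementary abelian group fixes at least a square root of it. -/
theorem card_le_fixed_sq (V : Subgroup G) (hsq : ∀ v ∈ V, v * v = 1)
    (hcomm : ∀ v ∈ V, ∀ w ∈ V, v * w = w * v) (n : G) (hn : ∀ v ∈ V, n * v * n⁻¹ ∈ V)
    (hn2 : ∀ v ∈ V, n * n * v = v * (n * n)) :
    Nat.card V ≤ Nat.card ↥(V ⊓ Subgroup.centralizer ({n} : Set G)) *
      Nat.card ↥(V ⊓ Subgroup.centralizer ({n} : Set G)) := by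
  let f : V →* G := MonoidHom.mk' (fun v => (v : G) * (n * v * n⁻¹)) fun a b => by
    show (a : G) * b * (n * ((a : G) * b) * n⁻¹) = (a : G) * (n * a * n⁻¹) * ((b : G) * (n * b * n⁻¹))
    rw [show n * ((a : G) * b) * n⁻¹ = n * a * n⁻¹ * (n * b * n⁻¹) by group]
    rw [show (a : G) * b * (n * a * n⁻¹ * (n * b * n⁻¹)) = (a : G) * (b * (n * a * n⁻¹)) * (n * b * n⁻¹) by group,
      hcomm b b.2 _ (hn a a.2)]
    group
  have hrange : f.range ≤ V ⊓ Subgroup.centralizer ({n} : Set G) := by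
    rintro _ ⟨v, rfl⟩
    refine ⟨V.mul_mem v.2 (hn v v.2), Subgroup.mem_centralizer_singleton_iff.mpr ?_⟩
    show (v : G) * (n * v * n⁻¹) * n = n * ((v : G) * (n * v * n⁻¹))
    have h1 : n * (n * (v : G) * n⁻¹) * n⁻¹ = v := by
      calc n * (n * (v : G) * n⁻¹) * n⁻¹ = n * n * v * (n * n)⁻¹ := by group
        _ = (v : G) * (n * n) * (n * n)⁻¹ := by rw [hn2 v v.2]
        _ = v := by group
    have h2 : n * ((v : G) * (n * v * n⁻¹)) = n * v * n⁻¹ * v * n := by
      calc n * ((v : G) * (n * v * n⁻¹)) = n * v * n⁻¹ * (n * (n * v * n⁻¹) * n⁻¹) * n := by group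
        _ = _ := by rw [h1]
    rw [h2, hcomm v v.2 _ (hn v v.2)]
  have hker : Nat.card f.ker ≤ Nat.card ↥(V ⊓ Subgroup.centralizer ({n} : Set G)) := by
    rw [← Subgroup.card_map_of_injective (f := V.subtype) V.subtype_injective]
    refine Subgroup.card_le_of_le ?_
    rintro _ ⟨v, hv, rfl⟩
    refine ⟨v.2, Subgroup.mem_centralizer_singleton_iff.mpr ?_⟩
    have h1 : n * (v : G) * n⁻¹ = (v : G)⁻¹ := eq_inv_of_mul_eq_one_right hv
    rw [inv_eq_self (hsq v v.2)] at h1
    exact (mul_inv_eq_iff_eq_mul.mp h1).symm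
  have h1 := Subgroup.card_mul_index f.ker
  rw [Subgroup.index_ker] at h1
  rw [← h1]
  exact Nat.mul_le_mul hker (Subgroup.card_le_of_le hrange)

/-- A section of index more than 16 is of index at least 32. -/
theorem big_section (h2 : IsPGroup 2 G) {H N : Subgroup G} (hs : Sec H N) (hgt : ¬ N.relIndex H ≤ 2 ^ 4) :
    32 * Nat.card N ≤ Nat.card H := by
  obtain ⟨k, hk⟩ := Sec.two_pow (H := H) (N := N) h2
  rw [← relIndex_mul_card hs.le, hk]
  refine Nat.mul_le_mul_right _ ?_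
  have h5 : 5 ≤ k := by
    by_contra hlt
    exact hgt (hk ▸ Nat.pow_le_pow_right two_pos (by omega))
  calc 32 = 2 ^ 5 := by norm_num
    _ ≤ 2 ^ k := Nat.pow_le_pow_right two_pos h5

/-- The configuration. -/
structure Cfg (T B : Subgroup G) : Prop where
  h2 : IsPGroup 2 G
  sq : ∀ t ∈ T, t * t = 1
  cardT : Nat.card T = 16
  le : B ≤ T
  cardB : Nat.card B = 4
  cent : ∀ b ∈ B, b ≠ 1 → Subgroup.centralizer ({b} : Set G) = T

variable {T B : Subgroup G}

theorem Cfg.comm (c : Cfg T B) {s t : G} (hs : s ∈ T) (ht : t ∈ T) : s * t = t * s := by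
  have h := c.sq _ (T.mul_mem hs ht)
  calc s * t = s⁻¹ * (s * t * (s * t)) * t⁻¹ * (s * s) * (t * t) := by
        rw [h, c.sq s hs, c.sq t ht]
        rw [inv_eq_self (c.sq s hs), inv_eq_self (c.sq t ht)]
        simp
    _ = t * s := by
        rw [c.sq s hs, c.sq t ht]
        group

theorem Cfg.exists_b (c : Cfg T B) : ∃ b ∈ B, b ≠ 1 := by
  by_contra h
  push Not at h
  have hle : B ≤ ⊥ := fun x hx => Subgroup.mem_bot.mpr (h x hx)
  have := Subgroup.card_le_of_le hle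
  rw [c.cardB, Subgroup.card_bot] at this
  omega

theorem Cfg.cent_T (c : Cfg T B) {x : G} (hx : ∀ t ∈ T, x * t = t * x) : x ∈ T := by
  obtain ⟨b, hb, hb1⟩ := c.exists_b
  rw [← c.cent b hb hb1]
  exact Subgroup.mem_centralizer_singleton_iff.mpr (hx b (c.le hb))

/-- The fixed subgroup. -/
abbrev Fx (T : Subgroup G) (n : G) : Subgroup G := T ⊓ Subgroup.centralizer ({n} : Set G)

theorem Cfg.fx_B (c : Cfg T B) {n : G} (hn : n ∉ T) {x : G} (hx : x ∈ Fx T n) (hxB : x ∈ B) : x = 1 := by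
  by_contra hx1
  refine hn ?_
  rw [← c.cent x hxB hx1]
  exact Subgroup.mem_centralizer_singleton_iff.mpr (Subgroup.mem_centralizer_singleton_iff.mp hx.2).symm

theorem Cfg.card_fx (c : Cfg T B) {n : G} (hn : n ∈ Subgroup.normalizer (T : Set G)) (hnT : n ∉ T)
    (hn2 : n * n ∈ T) : Nat.card (Fx T n) = 4 := by
  have h1 := card_le_fixed_sq T c.sq (fun v hv w hw => c.comm hv hw) n (fun v hv => conj_mem_of_norm hn hv)
    (fun v hv => c.comm hn2 hv)
  rw [c.cardT] at h1
  let F : B × Fx T n → T := fun p => ⟨(p.1 : G) * p.2, T.mul_mem (c.le p.1.2) p.2.2.1⟩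
  have hF : Function.Injective F := by
    rintro ⟨b, w⟩ ⟨b', w'⟩ e
    have e' : (b : G) * w = b' * w' := congrArg Subtype.val e
    have h2 : (b' : G)⁻¹ * b = w' * (w : G)⁻¹ := by
      rw [inv_mul_eq_iff_eq_mul, ← mul_assoc, eq_mul_inv_iff_mul_eq]; exact e'
    have h3 := c.fx_B hnT (h2 ▸ (Fx T n).mul_mem w'.2 ((Fx T n).inv_mem w.2)) (B.mul_mem (B.inv_mem b'.2) b.2)
    have hb : (b : G) = b' := (inv_mul_eq_one.mp h3).symm
    refine Prod.ext (Subtype.ext hb) (Subtype.ext ?_)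
    rw [hb] at e'
    exact mul_left_cancel e'
  have h2 := Nat.card_le_card_of_injective F hF
  rw [Nat.card_prod, c.cardB, c.cardT] at h2
  change 16 ≤ Nat.card (Fx T n) * Nat.card (Fx T n) at h1
  nlinarith

/-- Every fixed point is a commutator. -/
theorem Cfg.fx_le_comm (c : Cfg T B) {n : G} (hn : n ∈ Subgroup.normalizer (T : Set G)) (hnT : n ∉ T)
    (hn2 : n * n ∈ T) {w : G} (hw : w ∈ Fx T n) : ∃ b ∈ B, ⁅b, n⁆ = w := by
  have hsurj : ∀ b : B, ⁅(b : G), n⁆ ∈ Fx T n := by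
    intro b
    rw [comm_eq (c.sq b (c.le b.2))]
    refine ⟨T.mul_mem (c.le b.2) (conj_mem_of_norm hn (c.le b.2)), Subgroup.mem_centralizer_singleton_iff.mpr ?_⟩
    have hb := c.le b.2
    have hnb := conj_mem_of_norm hn hb
    have h1 : n * (n * (b : G) * n⁻¹) * n⁻¹ = b := by
      calc n * (n * (b : G) * n⁻¹) * n⁻¹ = n * n * b * (n * n)⁻¹ := by group
        _ = (b : G) * (n * n) * (n * n)⁻¹ := by rw [c.comm hn2 hb]
        _ = b := by group
    calc (b : G) * (n * b * n⁻¹) * n = n * b * n⁻¹ * b * n := by rw [c.comm hb hnb]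
      _ = n * b * n⁻¹ * (n * (n * b * n⁻¹) * n⁻¹) * n := by rw [h1]
      _ = n * ((b : G) * (n * b * n⁻¹)) := by group
  let f : B → Fx T n := fun b => ⟨_, hsurj b⟩
  have hf : Function.Injective f := by
    intro b b' e
    have e' : ⁅(b : G), n⁆ = ⁅(b' : G), n⁆ := congrArg Subtype.val e
    rw [comm_eq (c.sq b (c.le b.2)), comm_eq (c.sq b' (c.le b'.2))] at e'
    set x := (b' : G) * b with hx
    have hxB : x ∈ B := B.mul_mem b'.2 b.2
    have hbb := c.sq _ (c.le b.2)
    have hbb' := c.sq _ (c.le b'.2)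
    have h1 : n * x * n⁻¹ = x := by
      have h2 : (b' : G) * ((b : G) * (n * b * n⁻¹)) = (b' : G) * ((b' : G) * (n * b' * n⁻¹)) := by rw [e']
      rw [← mul_assoc (b' : G) (b' : G), hbb', one_mul, ← mul_assoc] at h2
      calc n * x * n⁻¹ = n * b' * n⁻¹ * (n * b * n⁻¹) := by rw [hx]; group
        _ = (b' : G) * b * (n * b * n⁻¹) * (n * b * n⁻¹) := by rw [h2]
        _ = (b' : G) * b * (n * ((b : G) * b) * n⁻¹) := by group
        _ = x := by rw [hbb, mul_one, mul_inv_cancel, mul_one, hx]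
    have hx1 := c.fx_B hnT ⟨c.le hxB, Subgroup.mem_centralizer_singleton_iff.mpr
      (mul_inv_eq_iff_eq_mul.mp h1).symm⟩ hxB
    exact Subtype.ext ((mul_eq_one_iff_eq_inv'.mp hx1).trans (inv_eq_self hbb'))
  obtain ⟨b, hb⟩ := ((Nat.bijective_iff_injective_and_card f).mpr ⟨hf, by rw [c.cardB, c.card_fx hn hnT hn2]⟩).2 ⟨w, hw⟩
  exact ⟨b, b.2, congrArg Subtype.val hb⟩

theorem Cfg.decompose (c : Cfg T B) {n : G} (hn : n ∈ Subgroup.normalizer (T : Set G)) (hnT : n ∉ T)
    (hn2 : n * n ∈ T) {t : G} (ht : t ∈ T) : ∃ b ∈ B, ∃ w ∈ Fx T n, t = b * w := by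
  let F : B × Fx T n → T := fun p => ⟨(p.1 : G) * p.2, T.mul_mem (c.le p.1.2) p.2.2.1⟩
  have hF : Function.Injective F := by
    rintro ⟨b, w⟩ ⟨b', w'⟩ e
    have e' : (b : G) * w = b' * w' := congrArg Subtype.val e
    have h2 : (b' : G)⁻¹ * b = w' * (w : G)⁻¹ := by
      rw [inv_mul_eq_iff_eq_mul, ← mul_assoc, eq_mul_inv_iff_mul_eq]; exact e'
    have h3 := c.fx_B hnT (h2 ▸ (Fx T n).mul_mem w'.2 ((Fx T n).inv_mem w.2)) (B.mul_mem (B.inv_mem b'.2) b.2)
    have hb : (b : G) = b' := (inv_mul_eq_one.mp h3).symm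
    refine Prod.ext (Subtype.ext hb) (Subtype.ext ?_)
    rw [hb] at e'
    exact mul_left_cancel e'
  obtain ⟨⟨b, w⟩, e⟩ := ((Nat.bijective_iff_injective_and_card F).mpr ⟨hF, by
    rw [Nat.card_prod, c.cardB, c.card_fx hn hnT hn2, c.cardT]⟩).2 ⟨t, ht⟩
  exact ⟨b, b.2, w, w.2, (congrArg Subtype.val e).symm⟩

/-- An element of order two of the centre of `N(T)/T`. -/
theorem exists_step {K : Subgroup G} (h2 : IsPGroup 2 G) (hne : ∃ p ∈ Subgroup.normalizer (K : Set G), p ∉ K) :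
    ∃ a ∈ Subgroup.normalizer (K : Set G), a ∉ K ∧ a * a ∈ K ∧
      ∀ p ∈ Subgroup.normalizer (K : Set G), ⁅p, a⁆ ∈ K := by
  obtain ⟨p₀, hp₀, hp₀K⟩ := hne
  set P := Subgroup.normalizer (K : Set G) with hP
  haveI : (K.subgroupOf P).Normal := ⟨fun x hx g => conj_mem_of_norm g.2 hx⟩
  have hv : QuotientGroup.mk' (K.subgroupOf P) ⟨p₀, hp₀⟩ ≠ 1 := fun e => hp₀K (show p₀ ∈ K from (QuotientGroup.eq_one_iff (⟨p₀, hp₀⟩ : P)).mp e)
  obtain ⟨q, hqc, hqq, hq1⟩ := exists_central ((h2.to_subgroup P).to_quotient _) hv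
  obtain ⟨⟨a, haP⟩, rfl⟩ := QuotientGroup.mk'_surjective _ q
  refine ⟨a, haP, fun h => hq1 ((QuotientGroup.eq_one_iff _).mpr h), ?_, fun p hp => ?_⟩
  · rw [← map_mul] at hqq
    exact (QuotientGroup.eq_one_iff (N := K.subgroupOf P) _).mp hqq
  · show (⁅(⟨p, hp⟩ : P), (⟨a, haP⟩ : P)⁆) ∈ K.subgroupOf P
    refine (QuotientGroup.eq_one_iff _).mp ?_
    show QuotientGroup.mk' (K.subgroupOf P) ⁅(⟨p, hp⟩ : P), ⟨a, haP⟩⁆ = 1
    rw [map_commutatorElement, commutatorElement_eq_one_iff_mul_comm]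
    exact hqc _

theorem exists_norm_not_mem (h2 : IsPGroup 2 G) {K : Subgroup G} (hK : K ≠ ⊤) :
    ∃ p ∈ Subgroup.normalizer (K : Set G), p ∉ K := by
  haveI : Fact (Nat.Prime 2) := ⟨Nat.prime_two⟩
  haveI := h2.isNilpotent
  exact SetLike.exists_of_lt (Group.normalizerCondition_of_isNilpotent K hK.lt_top)

theorem Cfg.fx_normal (c : Cfg T B) {a : G} (ha : ∀ p ∈ Subgroup.normalizer (T : Set G), ⁅p, a⁆ ∈ T) {p : G}
    (hp : p ∈ Subgroup.normalizer (T : Set G)) {w : G} (hw : w ∈ Fx T a) : p * w * p⁻¹ ∈ Fx T a := by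
  have h1 := conj_mem_of_norm hp hw.1
  refine ⟨h1, Subgroup.mem_centralizer_singleton_iff.mpr ?_⟩
  have h2 : p * w * p⁻¹ * (p * a * p⁻¹) = p * a * p⁻¹ * (p * w * p⁻¹) := by
    rw [show p * w * p⁻¹ * (p * a * p⁻¹) = p * (w * a) * p⁻¹ by group,
      Subgroup.mem_centralizer_singleton_iff.mp hw.2]
    group
  rw [show p * a * p⁻¹ = ⁅p, a⁆ * a by rw [commutatorElement_def]; group, ← mul_assoc, c.comm h1 (ha p hp)] at h2
  simp only [mul_assoc] at h2 ⊢
  exact mul_left_cancel h2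

theorem Cfg.card_norm_le (c : Cfg T B) : Nat.card (Subgroup.normalizer (T : Set G)) ≤ 64 := by
  haveI : Fact (Nat.Prime 2) := ⟨Nat.prime_two⟩
  set P := Subgroup.normalizer (T : Set G) with hP
  by_cases hPT : ∀ p ∈ P, p ∈ T
  · exact le_trans (Subgroup.card_le_of_le (show P ≤ T from hPT)) (by rw [c.cardT]; norm_num)
  push Not at hPT
  obtain ⟨a, haP, haT, ha2, hac⟩ := exists_step c.h2 hPT
  set W := Fx T a with hW
  have hW4 : Nat.card W = 4 := c.card_fx haP haT ha2
  haveI : (W.subgroupOf P).Normal := ⟨fun x hx g => c.fx_normal hac g.2 hx⟩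
  set π := QuotientGroup.mk' (W.subgroupOf P) with hπ
  have hTP : T ≤ P := Subgroup.le_normalizer
  haveI : (T.subgroupOf P).Normal := ⟨fun x hx g => conj_mem_of_norm g.2 hx⟩
  obtain ⟨b₁, hb₁, hb₁1⟩ := c.exists_b
  have hC := H30.inf_center_ne_bot (p := 2) ((c.h2.to_subgroup P).to_quotient (W.subgroupOf P))
    (Subgroup.Normal.map (inferInstance : (T.subgroupOf P).Normal) π (QuotientGroup.mk'_surjective _))
    (by
      rw [Ne, Subgroup.map_eq_bot_iff, QuotientGroup.ker_mk']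
      intro hle
      exact hb₁1 (c.fx_B haT (hle (show (⟨b₁, hTP (c.le hb₁)⟩ : P) ∈ T.subgroupOf P from c.le hb₁)) hb₁))
  obtain ⟨⟨q, hq⟩, hq1'⟩ := Subgroup.ne_bot_iff_exists_ne_one.mp hC
  have hq1 : q ≠ 1 := fun e => hq1' (Subtype.ext e)
  obtain ⟨⟨⟨t, htP⟩, htT, rfl⟩, hqc⟩ := hq
  obtain ⟨b₀, hb₀, w₀, hw₀, rfl⟩ := c.decompose haP haT ha2 (show t ∈ T from htT)
  have hb₀1 : b₀ ≠ 1 := fun e => hq1 ((QuotientGroup.eq_one_iff _).mpr (by
    show b₀ * w₀ ∈ W
    rw [e, one_mul]; exact hw₀))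
  have hfix : ∀ p ∈ P, b₀ * (p * b₀ * p⁻¹) ∈ W := by
    intro p hp
    have h1 := Subgroup.mem_center_iff.mp hqc (π ⟨p, hp⟩)
    rw [← map_mul, ← map_mul] at h1
    have h2 : (p * (b₀ * w₀))⁻¹ * (b₀ * w₀ * p) ∈ W :=
      (QuotientGroup.eq (s := W.subgroupOf P)).mp h1
    have h3 := W.mul_mem (W.mul_mem (c.fx_normal hac hp h2) (c.fx_normal hac hp (W.inv_mem hw₀))) hw₀
    have hb₀T := c.le hb₀
    have h4 : p * b₀ * p⁻¹ ∈ T := conj_mem_of_norm hp hb₀T
    have e1 : p * ((p * (b₀ * w₀))⁻¹ * (b₀ * w₀ * p)) * p⁻¹ =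
        p * w₀⁻¹ * p⁻¹ * (p * b₀⁻¹ * p⁻¹) * b₀ * w₀ := by group
    have h5 : p * w₀⁻¹ * p⁻¹ ∈ T := (c.fx_normal hac hp (W.inv_mem hw₀)).1
    have e2 : p * b₀⁻¹ * p⁻¹ = p * b₀ * p⁻¹ := by rw [inv_eq_self (c.sq b₀ hb₀T)]
    have h6 : p * ((p * (b₀ * w₀))⁻¹ * (b₀ * w₀ * p)) * p⁻¹ * (p * w₀⁻¹ * p⁻¹) * w₀ =
        b₀ * (p * b₀ * p⁻¹) := by
      rw [e1, e2, c.comm h5 h4, mul_assoc (p * b₀ * p⁻¹), mul_assoc (p * b₀ * p⁻¹),
        show p * w₀⁻¹ * p⁻¹ * b₀ * w₀ = b₀ * w₀ * (p * w₀⁻¹ * p⁻¹) by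
          rw [mul_assoc (p * w₀⁻¹ * p⁻¹), c.comm h5 (T.mul_mem hb₀T hw₀.1)]]
      rw [show p * b₀ * p⁻¹ * (b₀ * w₀ * (p * w₀⁻¹ * p⁻¹)) * (p * w₀⁻¹ * p⁻¹) * w₀ =
          p * b₀ * p⁻¹ * b₀ * w₀ * (p * (w₀⁻¹ * w₀⁻¹) * p⁻¹) * w₀ by group,
        inv_eq_self (c.sq w₀ hw₀.1), c.sq w₀ hw₀.1, mul_one, mul_inv_cancel, mul_one,
        mul_assoc, c.sq w₀ hw₀.1, mul_one, c.comm h4 hb₀T]
    rw [← h6]
    exact h3
  let f : P ⧸ T.subgroupOf P → W := fun q => ⟨_, hfix _ q.out.2⟩
  have hf : Function.Injective f := by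
    intro q q' e
    have e' : b₀ * ((q.out : G) * b₀ * (q.out : G)⁻¹) = b₀ * ((q'.out : G) * b₀ * (q'.out : G)⁻¹) :=
      congrArg Subtype.val e
    have key : ∀ x y : G, x * b₀ * x⁻¹ = y * b₀ * y⁻¹ → x⁻¹ * y ∈ T := by
      intro x y hxy
      rw [← c.cent b₀ hb₀ hb₀1]
      refine Subgroup.mem_centralizer_singleton_iff.mpr ?_
      calc x⁻¹ * y * b₀ = x⁻¹ * (y * b₀ * y⁻¹) * y := by group
        _ = x⁻¹ * (x * b₀ * x⁻¹) * y := by rw [hxy]
        _ = _ := by group
    have h1 : (q.out : G)⁻¹ * q'.out ∈ T := key _ _ (mul_left_cancel e')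
    rw [← QuotientGroup.out_eq' q, ← QuotientGroup.out_eq' q']
    exact QuotientGroup.eq.mpr h1
  have h1 := Nat.card_le_card_of_injective f hf
  rw [hW4] at h1
  rw [Subgroup.card_eq_card_quotient_mul_card_subgroup (T.subgroupOf P),
    Nat.card_congr (Subgroup.subgroupOfEquivOfLe hTP).toEquiv, c.cardT]
  omega

/-- The case of a normal `T`. -/
theorem Cfg.bd_normal (c : Cfg T B) (hn : ∀ g : G, g ∈ Subgroup.normalizer (T : Set G)) :
    Bd 4 (⊤ : Subgroup G) := by
  have hcard : Nat.card G ≤ 64 := by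
    have h1 := c.card_norm_le
    rw [show Subgroup.normalizer (T : Set G) = ⊤ from eq_top_iff.mpr fun g _ => hn g, Subgroup.card_top] at h1
    exact h1
  intro H N _ hs
  by_contra hgt
  have h32 := big_section c.h2 hs hgt
  have hHle := Subgroup.card_le_card_group H
  have hN0 := Nat.card_pos (α := N)
  by_cases hN1 : Nat.card N = 1
  · have hNbot : N = ⊥ := Subgroup.card_eq_one.mp hN1
    have hc : ∀ x ∈ H, ∀ y ∈ H, x * y = y * x := fun x hx y hy =>
      commutatorElement_eq_one_iff_mul_comm.mp (Subgroup.mem_bot.mp (hNbot ▸ hs.comm x hx y hy))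
    have hsq : ∀ x ∈ H, x * x = 1 := fun x hx => Subgroup.mem_bot.mp (hNbot ▸ hs.sq x hx)
    have hnot : ¬ H ≤ T := fun hle => by
      have := Subgroup.card_le_of_le hle
      rw [c.cardT] at this
      omega
    obtain ⟨u, huH, huT⟩ := SetLike.not_le_iff_exists.mp hnot
    have h4 := c.card_fx (hn u) huT (by rw [hsq u huH]; exact T.one_mem)
    have hsub : H ⊓ T ≤ Fx T u := fun x hx =>
      ⟨hx.2, Subgroup.mem_centralizer_singleton_iff.mpr (hc x hx.1 u huH)⟩
    have h8 := Subgroup.card_le_of_le hsub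
    haveI hTn : T.Normal := ⟨fun x hx g => conj_mem_of_norm (hn g) hx⟩
    have h9 := card_eq_map_mul (QuotientGroup.mk' T) H
    rw [QuotientGroup.ker_mk'] at h9
    have h10 : Nat.card (H.map (QuotientGroup.mk' T)) ≤ 4 := by
      refine le_trans (Subgroup.card_le_card_group _) ?_
      have := Subgroup.card_eq_card_quotient_mul_card_subgroup T
      rw [c.cardT] at this
      omega
    have := Nat.mul_le_mul h10 (h8.trans h4.le)
    omega
  · have hH : H = ⊤ := by
      refine Subgroup.eq_top_of_le_card H ?_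
      omega
    have hTne : T ≠ ⊤ := fun e => by
      have : Nat.card T = Nat.card G := by rw [e, Subgroup.card_top]
      rw [c.cardT] at this
      omega
    obtain ⟨a, haP, haT, ha2, -⟩ := exists_step c.h2 (exists_norm_not_mem c.h2 hTne)
    have hle : Fx T a ≤ N := fun w hw => by
      obtain ⟨b, -, rfl⟩ := c.fx_le_comm haP haT ha2 hw
      exact hs.comm b (hH ▸ Subgroup.mem_top b) a (hH ▸ Subgroup.mem_top a)
    have := Subgroup.card_le_of_le hle
    rw [c.card_fx haP haT ha2] at this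
    omega

/-- A second conjugate of `T` inside the normaliser. -/
theorem Cfg.bd_not_normal (c : Cfg T B) (hn : Subgroup.normalizer (T : Set G) ≠ ⊤) :
    Bd 4 (⊤ : Subgroup G) := by
  classical
  set P := Subgroup.normalizer (T : Set G) with hP
  have hTP : T ≤ P := Subgroup.le_normalizer
  obtain ⟨g, hg, hgP⟩ := exists_norm_not_mem c.h2 hn
  set f := (MulAut.conj g).toMonoidHom with hf
  set T' := T.map f with hT'
  have hmemT' : ∀ {x}, x ∈ T' ↔ g⁻¹ * x * g ∈ T := by
    intro x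
    constructor
    · rintro ⟨t, ht, rfl⟩
      show g⁻¹ * (g * t * g⁻¹) * g ∈ T
      rwa [show g⁻¹ * (g * t * g⁻¹) * g = t by group]
    · intro h
      exact ⟨_, h, show g * (g⁻¹ * x * g) * g⁻¹ = x by group⟩
  have hgT' : ∀ t ∈ T, g * t * g⁻¹ ∈ T' := fun t ht => ⟨t, ht, rfl⟩
  have hT'P : T' ≤ P := by
    rintro _ ⟨t, ht, rfl⟩
    exact conj_mem_of_norm hg (hTP ht)
  have hT'norm : ∀ h : G, h ∈ Subgroup.normalizer (T' : Set G) ↔ h ∈ P := by
    have key : ∀ h ∈ P, g⁻¹ * h * g ∈ P := fun h hh => by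
      have := conj_mem_of_norm ((Subgroup.normalizer (P : Set G)).inv_mem hg) hh
      rwa [inv_inv] at this
    intro h
    constructor
    · intro hh
      have h1 : g⁻¹ * h * g ∈ P := mem_norm fun t ht => by
        have h2 := hmemT'.mp (conj_mem_of_norm hh (hgT' t ht))
        rwa [show g⁻¹ * (h * (g * t * g⁻¹) * h⁻¹) * g = g⁻¹ * h * g * t * (g⁻¹ * h * g)⁻¹ by group] at h2
      have := conj_mem_of_norm hg h1
      rwa [show g * (g⁻¹ * h * g) * g⁻¹ = h by group] at this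
    · intro hh
      refine mem_norm fun x hx => hmemT'.mpr ?_
      have h2 := conj_mem_of_norm (key h hh) (hmemT'.mp hx)
      rwa [show g⁻¹ * h * g * (g⁻¹ * x * g) * (g⁻¹ * h * g)⁻¹ = g⁻¹ * (h * x * h⁻¹) * g by group] at h2
  have hT'card : Nat.card T' = 16 := by
    rw [hT', Subgroup.card_map_of_injective (f := f) (MulAut.conj g).injective, c.cardT]
  have hT'sq : ∀ x ∈ T', x * x = 1 := by
    rintro _ ⟨t, ht, rfl⟩
    rw [← map_mul, c.sq t ht, map_one]
  have hT'comm : ∀ x ∈ T', ∀ y ∈ T', x * y = y * x := by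
    rintro _ ⟨t, ht, rfl⟩ _ ⟨s, hs, rfl⟩
    rw [← map_mul, c.comm ht hs, map_mul]
  have hne : ¬ T' ≤ T := fun hle => hgP (mem_norm fun t ht => hle (hgT' t ht))
  set I := T ⊓ T' with hI
  have hI_fx : ∀ u ∈ T', u ∉ T → Fx T u = I := by
    intro u hu huT
    refine le_antisymm (fun w hw => ?_) (fun w hw => ⟨hw.1,
      Subgroup.mem_centralizer_singleton_iff.mpr (hT'comm w hw.2 u hu)⟩)
    obtain ⟨b, hb, rfl⟩ := c.fx_le_comm (hT'P hu) huT (by rw [hT'sq u hu]; exact T.one_mem) hw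
    refine ⟨hw.1, ?_⟩
    rw [commutatorElement_def]
    exact T'.mul_mem (conj_mem_of_norm ((hT'norm b).mpr (hTP (c.le hb))) hu) (T'.inv_mem hu)
  obtain ⟨u₀, hu₀, hu₀T⟩ := SetLike.not_le_iff_exists.mp hne
  have hI4 : Nat.card I = 4 := by
    rw [← hI_fx u₀ hu₀ hu₀T]
    exact c.card_fx (hT'P hu₀) hu₀T (by rw [hT'sq u₀ hu₀]; exact T.one_mem)
  have hsupP : T ⊔ T' = P := by
    refine Subgroup.eq_of_le_of_card_ge (sup_le hTP hT'P) ?_
    have h1 := relIndex_mul_card (inf_le_right : T ⊓ T' ≤ T')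
    rw [Subgroup.inf_relIndex_right, hT'card] at h1
    change T.relIndex T' * Nat.card I = 16 at h1
    rw [hI4] at h1
    have h3 : T.relIndex T' ≤ T.relIndex (T ⊔ T') :=
      Subgroup.relIndex_le_of_le_right le_sup_right Subgroup.index_ne_zero_of_finite
    have h4 := relIndex_mul_card (le_sup_left : T ≤ T ⊔ T')
    rw [c.cardT] at h4
    have h5 := c.card_norm_le
    show Nat.card P ≤ Nat.card ↥(T ⊔ T')
    change Nat.card P ≤ 64 at h5
    omega
  have hcardP : Nat.card P = 64 := by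
    refine le_antisymm c.card_norm_le ?_
    have h1 := relIndex_mul_card (inf_le_right : T ⊓ T' ≤ T')
    rw [Subgroup.inf_relIndex_right, hT'card] at h1
    change T.relIndex T' * Nat.card I = 16 at h1
    rw [hI4] at h1
    have h3 : T.relIndex T' ≤ T.relIndex P :=
      Subgroup.relIndex_le_of_le_right hT'P Subgroup.index_ne_zero_of_finite
    have h4 := relIndex_mul_card hTP
    rw [c.cardT] at h4
    omega
  have hprod : ∀ p ∈ P, ∃ t ∈ T, ∃ u ∈ T', p = t * u := by
    intro p hp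
    rw [← hsupP, ← SetLike.mem_coe, Subgroup.coe_mul_of_right_le_normalizer_left T T' hT'P] at hp
    obtain ⟨t, ht, u, hu, rfl⟩ := hp
    exact ⟨t, ht, u, hu, rfl⟩
  have hP2 : ∀ p ∈ P, p ∉ T → p * p ∈ T ∧ Fx T p = I := by
    intro p hp hpT
    obtain ⟨t, ht, u, hu, rfl⟩ := hprod p hp
    have huT : u ∉ T := fun h => hpT (T.mul_mem ht h)
    refine ⟨?_, ?_⟩
    · rw [show t * u * (t * u) = t * (u * t * u⁻¹) * (u * u) by group, hT'sq u hu, mul_one]
      exact T.mul_mem ht (conj_mem_of_norm (hT'P hu) ht)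
    · rw [← hI_fx u hu huT]
      ext x
      simp only [Subgroup.mem_inf, Subgroup.mem_centralizer_singleton_iff]
      refine and_congr_right fun hx => ?_
      rw [← mul_assoc, c.comm hx ht, mul_assoc, mul_assoc]
      exact mul_right_inj t
  have hQ1 : ∀ e ∈ P, e * e = 1 → e ∈ T ∨ e ∈ T' := by
    intro e he hee
    obtain ⟨t, ht, u, hu, rfl⟩ := hprod e he
    by_cases huT : u ∈ T
    · exact Or.inl (T.mul_mem ht huT)
    · refine Or.inr (T'.mul_mem ?_ hu)
      have h1 : t * u = u * t := by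
        have h2 : (t * u)⁻¹ = t * u := inv_eq_self hee
        rw [mul_inv_rev, inv_eq_self (c.sq t ht), inv_eq_self (hT'sq u hu)] at h2
        exact h2.symm
      have : t ∈ I := hI_fx u hu huT ▸ ⟨ht, Subgroup.mem_centralizer_singleton_iff.mpr h1⟩
      exact this.2
  have helem : ∀ X : Subgroup G, X ≤ P → (∀ x ∈ X, x * x = 1) → X ≤ T ∨ X ≤ T' := by
    intro X hX hX2
    by_contra hc
    push Not at hc
    obtain ⟨x, hx, hxT⟩ := SetLike.not_le_iff_exists.mp hc.1
    obtain ⟨y, hy, hyT⟩ := SetLike.not_le_iff_exists.mp hc.2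
    have hx' := (hQ1 x (hX hx) (hX2 x hx)).resolve_left hxT
    have hy' := (hQ1 y (hX hy) (hX2 y hy)).resolve_right hyT
    rcases hQ1 _ (hX (X.mul_mem hx hy)) (hX2 _ (X.mul_mem hx hy)) with h | h
    · exact hxT ((Subgroup.mul_mem_cancel_right _ hy').mp h)
    · exact hyT ((Subgroup.mul_mem_cancel_left _ hx').mp h)
  have hcase : ∀ h : G, h ∈ Subgroup.normalizer (P : Set G) → h ∈ P ∨ g⁻¹ * h ∈ P := by
    intro h hh
    rcases helem (T.map (MulAut.conj h).toMonoidHom)
        (by rintro _ ⟨t, ht, rfl⟩; exact conj_mem_of_norm hh (hTP ht))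
        (by rintro _ ⟨t, ht, rfl⟩; rw [← map_mul, c.sq t ht, map_one]) with h1 | h1
    · exact Or.inl (mem_norm fun t ht => h1 ⟨t, ht, rfl⟩)
    · refine Or.inr (mem_norm fun t ht => ?_)
      have h2 := hmemT'.mp (h1 ⟨t, ht, rfl⟩)
      change g⁻¹ * (h * t * h⁻¹) * g ∈ T at h2
      rwa [show g⁻¹ * h * t * (g⁻¹ * h)⁻¹ = g⁻¹ * (h * t * h⁻¹) * g by group]
  have hmeet : ∀ (H : Subgroup G), (∀ h ∈ H, h ∈ Subgroup.normalizer (P : Set G)) →
      Nat.card H ≤ 2 * Nat.card ↥(H ⊓ P) := by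
    intro H hH
    by_cases hle : H ≤ P
    · rw [inf_eq_left.mpr hle]; omega
    · obtain ⟨k, hk, hkP⟩ := SetLike.not_le_iff_exists.mp hle
      have hk2 := (hcase k (hH k hk)).resolve_left hkP
      let F : H → Bool × ↥(H ⊓ P) := fun x => if hx : (x : G) ∈ P then (false, ⟨x, x.2, hx⟩) else
        (true, ⟨k⁻¹ * x, H.mul_mem (H.inv_mem hk) x.2, by
          have h2 := P.mul_mem (P.inv_mem hk2) ((hcase x (hH x x.2)).resolve_left hx)
          rwa [show (g⁻¹ * k)⁻¹ * (g⁻¹ * (x : G)) = k⁻¹ * x by group] at h2⟩)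
      have hF : Function.Injective F := by
        intro x y hxy
        simp only [F] at hxy
        split_ifs at hxy with h h' h'
        · exact Subtype.ext (congrArg (fun q : Bool × ↥(H ⊓ P) => (q.2 : G)) hxy)
        · simp at hxy
        · simp at hxy
        · exact Subtype.ext (mul_left_cancel (congrArg (fun q : Bool × ↥(H ⊓ P) => (q.2 : G)) hxy))
      have := Nat.card_le_card_of_injective F hF
      rwa [Nat.card_prod, Nat.card_eq_fintype_card (α := Bool), Fintype.card_bool] at this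
  have hfull : ∀ x : G, x ∈ Subgroup.normalizer (P : Set G) := by
    by_contra hall
    push Not at hall
    obtain ⟨x, hx⟩ := hall
    obtain ⟨h, hh, hhR⟩ := exists_norm_not_mem c.h2
      (K := Subgroup.normalizer (P : Set G)) fun e => hx (e ▸ Subgroup.mem_top x)
    refine hhR (mem_norm fun p hp => ?_)
    have key : ∀ X : Subgroup G, (X = T ∨ X = T') → ∀ t ∈ X, h * t * h⁻¹ ∈ P := by
      intro X hX
      have hXP : X ≤ P := by rcases hX with rfl | rfl <;> assumption
      have hXc : Nat.card X = 16 := by rcases hX with rfl | rfl <;> [exact c.cardT; exact hT'card]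
      have hXsq : ∀ t ∈ X, t * t = 1 := by rcases hX with rfl | rfl <;> [exact c.sq; exact hT'sq]
      have hXcomm : ∀ t ∈ X, ∀ s ∈ X, t * s = s * t := by
        rcases hX with rfl | rfl <;> [exact fun t ht s hs => c.comm ht hs; exact hT'comm]
      set T'' := X.map (MulAut.conj h).toMonoidHom with hT''
      have hR : ∀ y ∈ T'', y ∈ Subgroup.normalizer (P : Set G) := by
        rintro _ ⟨t, ht, rfl⟩
        exact conj_mem_of_norm hh (Subgroup.le_normalizer (hXP ht))
      have hsq'' : ∀ y ∈ T'', y * y = 1 := by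
        rintro _ ⟨t, ht, rfl⟩; rw [← map_mul, hXsq t ht, map_one]
      have hcomm'' : ∀ y ∈ T'', ∀ y' ∈ T'', y * y' = y' * y := by
        rintro _ ⟨t, ht, rfl⟩ _ ⟨s, hs, rfl⟩; rw [← map_mul, hXcomm t ht s hs, map_mul]
      have h8 := hmeet T'' hR
      rw [hT'', Subgroup.card_map_of_injective (f := (MulAut.conj h).toMonoidHom) (MulAut.conj h).injective,
        hXc, ← hT''] at h8
      intro t ht
      by_contra htP
      set u := h * t * h⁻¹ with hu
      have huT : u ∈ T'' := ⟨t, ht, rfl⟩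
      have hfixY : ∀ y ∈ T'' ⊓ P, u * y * u⁻¹ = y := fun y hy => by
        rw [hcomm'' u huT y hy.1, mul_inv_cancel_right]
      have hnormP := hR u huT
      rcases helem (T'' ⊓ P) inf_le_right (fun y hy => hsq'' y hy.1) with h1 | h1
      · rcases helem (T.map (MulAut.conj u).toMonoidHom)
            (by rintro _ ⟨s, hs, rfl⟩; exact conj_mem_of_norm hnormP (hTP hs))
            (by rintro _ ⟨s, hs, rfl⟩; rw [← map_mul, c.sq s hs, map_one]) with h2 | h2
        · exact htP (mem_norm fun s hs => h2 ⟨s, hs, rfl⟩)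
        · have hle : T'' ⊓ P ≤ I := fun y hy => ⟨h1 hy, hfixY y hy ▸ h2 ⟨y, h1 hy, rfl⟩⟩
          have := Subgroup.card_le_of_le hle
          omega
      · rcases helem (T'.map (MulAut.conj u).toMonoidHom)
            (by rintro _ ⟨s, hs, rfl⟩; exact conj_mem_of_norm hnormP (hT'P hs))
            (by rintro _ ⟨s, hs, rfl⟩; rw [← map_mul, hT'sq s hs, map_one]) with h2 | h2
        · have hle : T'' ⊓ P ≤ I := fun y hy => ⟨hfixY y hy ▸ h2 ⟨y, h1 hy, rfl⟩, h1 hy⟩
          have := Subgroup.card_le_of_le hle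
          omega
        · exact htP ((hT'norm u).mp (mem_norm fun s hs => h2 ⟨s, hs, rfl⟩))
    rw [← hsupP] at hp
    have hle : T ⊔ T' ≤ P.comap (MulAut.conj h).toMonoidHom :=
      sup_le (fun t ht => key T (Or.inl rfl) t ht) (fun t ht => key T' (Or.inr rfl) t ht)
    exact hle hp
  have hT'cent : ∀ x : G, (∀ y ∈ T', x * y = y * x) → x ∈ T' := by
    intro x hx
    refine hmemT'.mpr (c.cent_T fun t ht => ?_)
    have h1 := hx _ (hgT' t ht)
    calc g⁻¹ * x * g * t = g⁻¹ * (x * (g * t * g⁻¹)) * g := by group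
      _ = g⁻¹ * ((g * t * g⁻¹) * x) * g := by rw [h1]
      _ = t * (g⁻¹ * x * g) := by group
  intro H N _ hs
  by_contra hgt
  have h32 := big_section c.h2 hs hgt
  set M := H ⊓ P with hM
  have hHM : Nat.card H ≤ 2 * Nat.card M := hmeet H fun x _ => hfull x
  have hMle : Nat.card M ≤ 64 := hcardP ▸ Subgroup.card_le_of_le inf_le_right
  have hN0 := Nat.card_pos (α := N)
  by_cases hN1 : Nat.card N = 1
  · have hNbot : N = ⊥ := Subgroup.card_eq_one.mp hN1
    have hc : ∀ x ∈ H, ∀ y ∈ H, x * y = y * x := fun x hx y hy =>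
      commutatorElement_eq_one_iff_mul_comm.mp (Subgroup.mem_bot.mp (hNbot ▸ hs.comm x hx y hy))
    have hsq : ∀ x ∈ H, x * x = 1 := fun x hx => Subgroup.mem_bot.mp (hNbot ▸ hs.sq x hx)
    have hle : ∀ X : Subgroup G, Nat.card X = 16 → M ≤ X → (∀ x, (∀ y ∈ X, x * y = y * x) → x ∈ X) → False := by
      intro X hXc hMX hXcent
      have heq := Subgroup.eq_of_le_of_card_ge hMX (by omega)
      have hHX : H ≤ X := fun x hx => hXcent x fun y hy => hc x hx y (heq ▸ hy : y ∈ M).1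
      have := Subgroup.card_le_of_le hHX
      omega
    rcases helem M inf_le_right (fun x hx => hsq x hx.1) with h1 | h1
    · exact hle T c.cardT h1 fun x hx => c.cent_T hx
    · exact hle T' hT'card h1 hT'cent
  by_cases hN4 : Nat.card N ≤ 3
  · have hinj : ∀ t ∈ M ⊓ T, t ∉ I → Nat.card M ≤ Nat.card N * Nat.card ↥(M ⊓ T) := by
      intro t ht htI
      let F : M → N := fun m => ⟨⁅t, (m : G)⁆, hs.comm t ht.1.1 m m.2.1⟩
      have key : ∀ m m' : M, F m = F m' → (m : G)⁻¹ * m' ∈ M ⊓ T := by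
        intro m m' e
        refine ⟨M.mul_mem (M.inv_mem m.2) m'.2, ?_⟩
        by_contra hnot
        refine htI ?_
        rw [← (hP2 _ (P.mul_mem (P.inv_mem m.2.2) m'.2.2) hnot).2]
        refine ⟨ht.2, Subgroup.mem_centralizer_singleton_iff.mpr ?_⟩
        have e' : ⁅t, (m : G)⁆ = ⁅t, (m' : G)⁆ := congrArg Subtype.val e
        simp only [commutatorElement_def, mul_assoc] at e'
        have e2 : (m : G) * t⁻¹ * (m : G)⁻¹ = (m' : G) * t⁻¹ * (m' : G)⁻¹ := by
          simp only [mul_assoc]; exact mul_left_cancel e'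
        rw [inv_eq_self (c.sq t ht.2)] at e2
        calc t * ((m : G)⁻¹ * m') = (m : G)⁻¹ * ((m : G) * t * (m : G)⁻¹) * m' := by group
          _ = (m : G)⁻¹ * ((m' : G) * t * (m' : G)⁻¹) * m' := by rw [e2]
          _ = (m : G)⁻¹ * m' * t := by group
      let r : N → M := fun x => if hx : ∃ m, F m = x then hx.choose else 1
      let J : M → N × ↥(M ⊓ T) := fun m => (F m, ⟨((r (F m) : M) : G)⁻¹ * m, key _ _ (by
        show F (r (F m)) = F m
        simp only [r]
        rw [dif_pos ⟨m, rfl⟩]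
        exact Exists.choose_spec (⟨m, rfl⟩ : ∃ m', F m' = F m))⟩)
      have hJ : Function.Injective J := by
        intro m m' e
        simp only [J, Prod.mk.injEq, Subtype.mk.injEq] at e
        rw [e.1] at e
        exact Subtype.ext (mul_left_cancel e.2)
      have := Nat.card_le_card_of_injective J hJ
      rwa [Nat.card_prod] at this
    have h8 : 8 ≤ Nat.card ↥(M ⊓ T) := by
      have h1 := relIndex_mul_card (inf_le_left : M ⊓ T ≤ M)
      rw [Subgroup.inf_relIndex_left] at h1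
      have h2 : T.relIndex M ≤ T.relIndex P :=
        Subgroup.relIndex_le_of_le_right inf_le_right Subgroup.index_ne_zero_of_finite
      have h3 := relIndex_mul_card hTP
      rw [c.cardT, hcardP] at h3
      have h4 : T.relIndex M ≤ 4 := by omega
      have := Nat.mul_le_mul_right (Nat.card ↥(M ⊓ T)) h4
      omega
    obtain ⟨t, ht, htI⟩ : ∃ t ∈ M ⊓ T, t ∉ I := by
      apply SetLike.not_le_iff_exists.mp
      intro hle
      have := Subgroup.card_le_of_le hle
      omega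
    have h1 := hinj t ht htI
    by_cases h16 : Nat.card ↥(M ⊓ T) ≤ 8
    · have := Nat.mul_le_mul hN4 h16
      omega
    · have hTM : M ⊓ T = T := by
        refine Subgroup.eq_of_le_of_card_ge inf_le_right ?_
        obtain ⟨k, hk⟩ := IsPGroup.iff_card.mp (c.h2.to_subgroup (M ⊓ T))
        rw [c.cardT, hk]
        have : 4 ≤ k := by
          by_contra hlt
          have : 2 ^ k ≤ 2 ^ 3 := Nat.pow_le_pow_right two_pos (by omega)
          omega
        exact le_trans (by norm_num) (Nat.pow_le_pow_right two_pos this)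
      obtain ⟨p, hp, hpT⟩ : ∃ p ∈ M, p ∉ T := by
        apply SetLike.not_le_iff_exists.mp
        intro hle
        have := Subgroup.card_le_of_le hle
        rw [c.cardT] at this
        omega
      have hle : I ≤ N := fun w hw => by
        rw [← (hP2 p hp.2 hpT).2] at hw
        obtain ⟨b, hb, rfl⟩ := c.fx_le_comm hp.2 hpT (hP2 p hp.2 hpT).1 hw
        exact hs.comm b (hTM.symm ▸ c.le hb : b ∈ M ⊓ T).1.1 p hp.1
      have := Subgroup.card_le_of_le hle
      omega
  · have hMP : M = P := Subgroup.eq_of_le_of_card_ge inf_le_right (by rw [hcardP]; omega)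
    have hPH : P ≤ H := fun x hx => (hMP.symm ▸ hx : x ∈ M).1
    have hgH : g ∈ H := by
      by_contra hgH
      have hle : H ≤ P := fun x hx => by
        rcases hcase x (hfull x) with h | h
        · exact h
        · refine absurd ?_ hgH
          have := H.mul_mem hx (H.inv_mem (hPH h))
          rwa [show x * (g⁻¹ * x)⁻¹ = g by group] at this
      have := Subgroup.card_le_of_le hle
      omega
    have hle : I ≤ N := fun w hw => by
      rw [← hI_fx u₀ hu₀ hu₀T] at hw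
      obtain ⟨b, hb, rfl⟩ := c.fx_le_comm (hT'P hu₀) hu₀T (by rw [hT'sq u₀ hu₀]; exact T.one_mem) hw
      exact hs.comm b (hPH (hTP (c.le hb))) u₀ (hPH (hT'P hu₀))
    have heq : I = N := Subgroup.eq_of_le_of_card_ge hle (by rw [hI4]; omega)
    refine hgP (mem_norm fun t ht => ?_)
    have h1 : ⁅g, t⁆ ∈ I := heq ▸ hs.comm g hgH t (hPH (hTP ht))
    have h2 := T.mul_mem h1.1 ht
    rwa [commutatorElement_def, inv_mul_cancel_right] at h2

/-- The configuration has sectional rank at most four. -/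
theorem Cfg.bd (c : Cfg T B) : Bd 4 (⊤ : Subgroup G) := by
  by_cases h : Subgroup.normalizer (T : Set G) = ⊤
  · exact c.bd_normal fun g => h ▸ Subgroup.mem_top g
  · exact c.bd_not_normal h

end H80.DihFour
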