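import Cfsg.Agent.H80.FocalSetup
import Cfsg.Agent.S2764
import Cfsg.Agent.H98.SL2Hom

/-!
No minimal failure of the focal subgroup statement for odd `p`.
-/

set_option autoImplicit false
set_option linter.unusedSectionVars false
set_option linter.style.haveILetI false

open Subgroup H73
open scoped commutatorElement MatrixGroups IsMulCommutative

namespace H80.Focal

universe u

variable {G : Type u} [Group G] [Finite G] {p : ℕ} [Fact p.Prime]

/-- The data of a minimal failure. -/
structure Fail (S : Sylow p G) : Prop where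
  two : p ≠ 2
  fail : TFailure (allFun.{u} p) p (S : Subgroup G)
  ctl : ∀ L : Subgroup G, L ≠ ⊤ → Ctl (allFun.{u} p) p L

/-- The maximal subgroup over `S`. -/
def mx (S : Sylow p G) : Subgroup G :=
  normalizer ((focalT (allFun.{u} p) (S : Subgroup G) ⊓ Cfsg.pCore p G : Subgroup G) : Set G)

namespace Fail

variable {S : Sylow p G} (h : Fail S)
include h

theorem QS : Cfsg.pCore p G ≤ (S : Subgroup G) := H1.pCore_le_sylow S

theorem mx_ne : mx S ≠ ⊤ := h.fail.normalizer_ne_top allFun_sound allFun_nonempty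

theorem ov {Y : Subgroup G} (hY : Y ≠ ⊤) (hS : (S : Subgroup G) ≤ Y) : Y ≤ mx S :=
  h.fail.le_normalizer (H1.pCore_le_sylow S) hY hS

theorem S_ne : (S : Subgroup G) ≠ ⊤ := fun e => h.fail.notNormal (e ▸ inferInstance)

theorem S_le : (S : Subgroup G) ≤ mx S := h.ov h.S_ne le_rfl

theorem focal_le : (S : Subgroup G) ⊓ ⁅mx S, mx S⁆ ≤ focalT (allFun.{u} p) (S : Subgroup G) :=
  h.fail.proper _ h.mx_ne h.S_le

theorem not_normal_char {K : Subgroup G} (hK : K ≤ (S : Subgroup G))
    (hc : (K.subgroupOf (S : Subgroup G)).Characteristic) (hne : K ≠ ⊥) :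
    normalizer (K : Set G) ≠ ⊤ := by
  intro e
  obtain ⟨W, hW, hWS⟩ := exists_functor (p := p) hc
    (fun h0 => hne (by rw [← map_subgroupOf_eq_of_le hK, h0]; exact map_bot _))
  rw [map_subgroupOf_eq_of_le hK] at hWS
  exact h.fail.fail (functor_normal_of_ctl hW _ (by rw [hWS]; exact e))

theorem normalizer_le {K : Subgroup G} (hK : K ≤ (S : Subgroup G))
    (hc : (K.subgroupOf (S : Subgroup G)).Characteristic) (hne : K ≠ ⊥) :
    normalizer (K : Set G) ≤ mx S :=
  h.ov (h.not_normal_char hK hc hne) (le_normalizer.trans (char_normalizer hK hc))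

theorem frattini {C : Subgroup G} [C.Normal] (hC : C ≤ mx S) :
    (S : Subgroup G) ⊓ C ≤ Cfsg.pCore p G := by
  have hnt := H75.normalizer_inf_sup_eq_top S C
  have hS : (S : Subgroup G) ≤ normalizer (((S : Subgroup G) ⊓ C : Subgroup G) : Set G) :=
    le_trans (le_inf le_normalizer (le_top.trans (normalizer_eq_top (H := C)).ge))
      inf_normalizer_le_normalizer_inf
  have htop : normalizer (((S : Subgroup G) ⊓ C : Subgroup G) : Set G) = ⊤ := by
    by_contra hne
    exact h.mx_ne (eq_top_iff.2 (hnt.ge.trans (sup_le (h.ov hne hS) hC)))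
  haveI := normalizer_eq_top_iff.1 htop
  exact H1.le_pCore (S.2.to_le inf_le_left)

theorem Q_ne : Cfsg.pCore p G ≠ ⊥ := fun h0 => by
  have h1 := h.fail.constrained
  rw [h0] at h1
  have h2 : (S : Subgroup G) = ⊥ := by
    refine eq_bot_iff.2 fun g _ => h1 (mem_centralizer_iff.2 fun q hq => ?_)
    rw [SetLike.mem_coe, mem_bot] at hq
    simp [hq]
  exact h.fail.notNormal (h2 ▸ inferInstance)

omit h in
theorem V_normal : (omz p (Cfsg.pCore p G)).Normal := by
  haveI := H1.pCore_normal' p G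
  refine ⟨fun x hx g => ⟨(H1.pCore_normal' p G).conj_mem x hx.1 g, fun a ha => ?_, ?_⟩⟩
  · have h1 := hx.2.1 _ ((H1.pCore_normal' p G).conj_mem' a ha g)
    calc a * (g * x * g⁻¹) = g * ((g⁻¹ * a * g) * x) * g⁻¹ := by group
      _ = g * (x * (g⁻¹ * a * g)) * g⁻¹ := by rw [h1]
      _ = g * x * g⁻¹ * a := by group
  · rw [conj_pow, hx.2.2, mul_one, mul_inv_cancel]

theorem omzS_le : omz p (S : Subgroup G) ≤ omz p (Cfsg.pCore p G) := fun x hx =>
  ⟨h.fail.constrained (mem_centralizer_iff.2 fun q hq => hx.2.1 q (h.QS hq)),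
    fun a ha => hx.2.1 a (h.QS ha), hx.2.2⟩

theorem cent_Z_le : centralizer (omz p (S : Subgroup G) : Set G) ≤ mx S := by
  refine (centralizer_le_normalizer _).trans
    (h.normalizer_le (omz_le p _) (omz_char p _) (omz_ne_bot S.2 ?_))
  intro h0
  exact h.Q_ne (eq_bot_iff.2 (h0 ▸ h.QS))

theorem cent_V_le : centralizer (omz p (Cfsg.pCore p G) : Set G) ≤ mx S :=
  (centralizer_le (SetLike.coe_subset_coe.2 h.omzS_le)).trans h.cent_Z_le

theorem inf_cent_V : (S : Subgroup G) ⊓ centralizer (omz p (Cfsg.pCore p G) : Set G) =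
    Cfsg.pCore p G := by
  haveI := V_normal (G := G) (p := p)
  refine le_antisymm (h.frattini h.cent_V_le) (le_inf h.QS ?_)
  exact fun q hq => mem_centralizer_iff.2 fun v hv => (hv.2.1 q hq).symm

/-- The abelian subgroups of `S` of largest order. -/
abbrev maxAb (S : Subgroup G) : Set (Subgroup G) := H11.maxFam (fun A : Subgroup G => IsMulCommutative A) S

omit h in
theorem jg_eq : jg (S : Subgroup G) = sSup (maxAb (S : Subgroup G)) :=
  H11.thompsonSubgroupAOf_eq (S : Subgroup G)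

omit h in
theorem le_jg {A : Subgroup G} (hA : A ∈ maxAb (S : Subgroup G)) : A ≤ jg (S : Subgroup G) := by
  rw [jg_eq]; exact le_sSup hA

omit h in
/-- An element of `S` commuting with a largest abelian subgroup lies in it. -/
theorem mem_max {A : Subgroup G} (hA : A ∈ maxAb (S : Subgroup G)) {x : G} (hx : x ∈ (S : Subgroup G))
    (hc : ∀ a ∈ A, a * x = x * a) : x ∈ A := by
  have h1 := hA.2.2 (A ⊔ zpowers x) (sup_le hA.1 (zpowers_le.2 hx))
    (H11.isMulCommutative_sup hA.2.1
      (H11.isMulCommutative_of_commute fun a ha b hb => by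
        obtain ⟨i, rfl⟩ := mem_zpowers_iff.1 ha
        obtain ⟨j, rfl⟩ := mem_zpowers_iff.1 hb
        rw [← zpow_add, ← zpow_add, add_comm])
      fun a ha b hb => by
        obtain ⟨j, rfl⟩ := mem_zpowers_iff.1 hb
        exact (Commute.zpow_right (show Commute a x from hc a ha) j).eq)
  exact (eq_of_le_of_card_ge le_sup_left h1).ge (mem_sup_right (mem_zpowers x))

/-- Not every largest abelian subgroup lies in the core. -/
theorem exists_outside : ∃ A ∈ maxAb (S : Subgroup G), ¬ A ≤ Cfsg.pCore p G := by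
  by_contra hno
  push Not at hno
  have hne : jg (S : Subgroup G) ≠ ⊥ := by
    intro h0
    refine h.Q_ne (eq_bot_iff.2 fun x hx => ?_)
    obtain ⟨A, hA⟩ := H11.maxFam_nonempty (P := fun A : Subgroup G => IsMulCommutative A)
      H11.isMulCommutative_bot (S : Subgroup G)
    have h1 : A = ⊥ := eq_bot_iff.2 (h0 ▸ le_jg hA)
    subst h1
    exact mem_max hA (h.QS hx) fun a ha => by rw [mem_bot.1 ha]; simp
  refine h.not_normal_char (jg_le _) (jg_char _) hne (eq_top_iff.2 fun g _ => ?_)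
  haveI := H1.pCore_normal' p G
  rw [mem_normalizer_iff_cj]
  refine Subgroup.eq_of_le_of_card_ge ?_ (card_cj g _).ge
  rw [cj_le_iff, jg_eq]
  refine sSup_le fun A hA => ?_
  rw [← cj_le_iff, ← jg_eq]
  refine le_jg ⟨?_, H11.isMulCommutative_map hA.2.1 _, fun B hB hB' => ?_⟩
  · rintro _ ⟨a, ha, rfl⟩
    exact h.QS ((H1.pCore_normal' p G).conj_mem a (hno A hA ha) g)
  · rw [card_cj]
    exact hA.2.2 B hB hB'

end Fail

theorem cj_omz (g : G) (A : Subgroup G) : cj g (omz p A) = omz p (cj g A) :=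
  map_omz _ (MulAut.conj g).injective p A

theorem normalizer_omz (A : Subgroup G) :
    normalizer (A : Set G) ≤ normalizer (omz p A : Set G) := fun g hg => by
  rw [mem_normalizer_iff_cj] at hg ⊢
  rw [cj_omz, hg]

theorem omz_normal (A : Subgroup G) [A.Normal] : (omz p A).Normal :=
  normalizer_eq_top_iff.1 (eq_top_iff.2 ((normalizer_eq_top (H := A)).ge.trans (normalizer_omz A)))

theorem quotDMA_smul (V : Subgroup G) [V.Normal] [IsMulCommutative V] (g : G) (v : Additive V) :
    letI := quotDMA V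
    (((((g : G ⧸ centralizer (V : Set G)) • v : Additive V).toMul : V) : G)) =
      g * (v.toMul : G) * g⁻¹ := rfl

theorem smul_eq_self_iff (V : Subgroup G) [V.Normal] [IsMulCommutative V] (g : G) (v : Additive V) :
    letI := quotDMA V
    (g : G ⧸ centralizer (V : Set G)) • v = v ↔ g * (v.toMul : G) = (v.toMul : G) * g := by
  letI := quotDMA V
  constructor
  · intro h
    have h1 := congrArg (fun x : Additive V => ((x.toMul : V) : G)) h
    exact mul_inv_eq_iff_eq_mul.1 h1
  · intro h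
    refine Additive.toMul.injective (Subtype.ext ?_)
    rw [quotDMA_smul]
    exact mul_inv_eq_iff_eq_mul.2 h

theorem quotDMA_faithful (V : Subgroup G) [V.Normal] [IsMulCommutative V] :
    letI := quotDMA V
    FaithfulSMul (G ⧸ centralizer (V : Set G)) (Additive V) := by
  letI := quotDMA V
  refine ⟨fun {a b} hab => ?_⟩
  obtain ⟨x, rfl⟩ := QuotientGroup.mk_surjective a
  obtain ⟨y, rfl⟩ := QuotientGroup.mk_surjective b
  rw [QuotientGroup.eq, mem_centralizer_iff]
  intro v hv
  have h1 := hab (Additive.ofMul ⟨v, hv⟩)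
  have h2 : ((x⁻¹ * y : G) : G ⧸ centralizer (V : Set G)) • Additive.ofMul (⟨v, hv⟩ : V) =
      Additive.ofMul ⟨v, hv⟩ := by
    rw [QuotientGroup.mk_mul, mul_smul, ← h1, ← mul_smul, ← QuotientGroup.mk_mul, inv_mul_cancel,
      QuotientGroup.mk_one, one_smul]
  exact ((smul_eq_self_iff V _ _).1 h2).symm

namespace Fail

variable {S : Sylow p G} (h : Fail S)
include h

theorem hyp (V : Subgroup G) [V.Normal] [IsMulCommutative V] (hV : V = omz p (Cfsg.pCore p G)) :
    letI := quotDMA V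
    LFF.Hyp p (Additive V) ((S : Subgroup G).map (QuotientGroup.mk' (centralizer (V : Set G))))
      ((mx S).map (QuotientGroup.mk' (centralizer (V : Set G)))) := by
  letI := quotDMA V
  set C := centralizer (V : Set G) with hC
  set π := QuotientGroup.mk' C
  have hπ : Function.Surjective π := QuotientGroup.mk'_surjective C
  have hCM : C ≤ mx S := by rw [hC, hV]; exact h.cent_V_le
  have hcomap : ((mx S).map π).comap π = mx S := by
    rw [comap_map_eq, QuotientGroup.ker_mk', sup_eq_left.2 hCM]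
  have hTsyl : SylIn p ((S : Subgroup G).map π) ⊤ := by
    refine ⟨le_top, S.2.map _, ?_⟩
    rw [relIndex_top_right]
    exact fun hd => S.not_dvd_index (hd.trans (index_map_dvd _ hπ))
  refine
    { two := h.two
      exp := fun v => Additive.toMul.injective (Subtype.ext ?_)
      Tp := S.2.map _
      TM := map_mono h.S_le
      sylow := hTsyl
      M_ne := fun e => h.mx_ne (by rw [← hcomap, e, comap_top])
      uniq := fun Y hTY hY => ?_
      cent := fun x hx => ?_
      core := ?_ }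
  · rw [toMul_nsmul, SubgroupClass.coe_pow, toMul_zero, OneMemClass.coe_one]
    have h1 : ((v.toMul : V) : G) ∈ omz p (Cfsg.pCore p G) := hV ▸ (v.toMul).2
    exact h1.2.2
  · by_contra hne
    refine hY ?_
    rw [← map_comap_eq_self_of_surjective hπ Y]
    refine map_mono (h.ov (fun e => hne ?_) ((le_comap_map π _).trans (comap_mono hTY)))
    rw [← map_comap_eq_self_of_surjective hπ Y, e, map_top_of_surjective _ hπ]
  · obtain ⟨g, rfl⟩ := hπ x
    refine mem_map_of_mem _ (h.cent_Z_le (mem_centralizer_iff.2 fun z hz => ?_))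
    have hzV : z ∈ V := hV ▸ h.omzS_le hz
    refine ((smul_eq_self_iff V g (Additive.ofMul ⟨z, hzV⟩)).1 (hx _ ?_)).symm
    rintro _ ⟨s, hs, rfl⟩
    exact (smul_eq_self_iff V s _).2 (hz.2.1 s hs)
  · rw [eq_bot_iff]
    intro x hx
    set P := (LFF.opc p (⊤ : Subgroup (G ⧸ C))).comap π
    haveI : (LFF.opc p (⊤ : Subgroup (G ⧸ C))).Normal :=
      normalizer_eq_top_iff.1 (top_le_iff.1 (LFF.le_normalizer_opc ⊤))
    haveI : P.Normal := inferInstanceAs (Subgroup.Normal (Subgroup.comap π _))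
    have hPM : P ≤ mx S := by
      rw [← hcomap]
      exact comap_mono ((LFF.opc_le_sylIn hTsyl).trans (map_mono h.S_le))
    obtain ⟨s, hs, rfl⟩ := LFF.opc_le_sylIn hTsyl hx
    refine mem_bot.2 ((QuotientGroup.eq_one_iff s).2 ?_)
    have hq := h.frattini hPM ⟨hs, hx⟩
    rw [hC, hV, mem_centralizer_iff]
    exact fun v hv => (hv.2.1 s hq).symm

/-- The image of a largest abelian subgroup is an offender. -/
theorem offender (V : Subgroup G) [V.Normal] [IsMulCommutative V] (hV : V = omz p (Cfsg.pCore p G))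
    {A : Subgroup G} (hA : A ∈ maxAb (S : Subgroup G)) :
    letI := quotDMA V
    LFF.Comm (A.map (QuotientGroup.mk' (centralizer (V : Set G))))
        (A.map (QuotientGroup.mk' (centralizer (V : Set G)))) ∧
      Nat.card (Additive V) ≤ LFF.wt (Additive V) (A.map (QuotientGroup.mk' (centralizer (V : Set G)))) ∧
      (A ⊓ Cfsg.pCore p G) ⊔ V ∈ maxAb (S : Subgroup G) := by
  letI := quotDMA V
  haveI := quotDMA_faithful V
  set C := centralizer (V : Set G)
  set π := QuotientGroup.mk' C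
  set Q := Cfsg.pCore p G
  have hVQ : V ≤ Q := hV ▸ omz_le p Q
  have hcomm : LFF.Comm (A.map π) (A.map π) := by
    rintro _ ⟨a, ha, rfl⟩ _ ⟨b, hb, rfl⟩
    rw [← map_mul, H11.comm_of_mulCommutative hA.2.1 ha hb, map_mul]
  have hAQ : A ⊓ C = A ⊓ Q := by
    refine le_antisymm (le_inf inf_le_left ?_) (le_inf inf_le_left (inf_le_right.trans ?_))
    · rw [show Q = (S : Subgroup G) ⊓ C from (by rw [← h.inf_cent_V, ← hV] : Cfsg.pCore p G = (S : Subgroup G) ⊓ centralizer (V : Set G))]
      exact inf_le_inf_right _ hA.1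
    · exact fun q hq => mem_centralizer_iff.2 fun v hv => ((hV ▸ hv : v ∈ omz p Q).2.1 q hq).symm
  set A' := (A ⊓ Q) ⊔ V
  have hA'c : IsMulCommutative A' := H11.isMulCommutative_sup (H11.isMulCommutative_of_le hA.2.1 inf_le_left)
    inferInstance fun a ha v hv => (hV ▸ hv : v ∈ omz p Q).2.1 a ha.2
  have hA'S : A' ≤ (S : Subgroup G) := sup_le (inf_le_left.trans hA.1) (hVQ.trans h.QS)
  have hle := hA.2.2 A' hA'S hA'c
  have hcardA' : Nat.card A' * Nat.card ↥(A ⊓ Q ⊓ V) = Nat.card ↥(A ⊓ Q) * Nat.card V :=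
    H10.card_mul_card_inf (H := A ⊓ Q) (K := V) (le_top.trans (normalizer_eq_top (H := V)).ge)
  have hcardA : Nat.card (A.map π) * Nat.card ↥(A ⊓ C) = Nat.card A := by
    have h1 := (A.subgroupOf A).card_eq_card_quotient_mul_card_subgroup
    have e := card_eq_card_quotient_mul_card_subgroup (π.subgroupMap A).ker
    rw [Nat.card_congr (QuotientGroup.quotientKerEquivOfSurjective _
      (π.subgroupMap_surjective A)).toEquiv] at e
    rw [e]
    congr 1
    refine Nat.card_congr (Equiv.ofBijective (fun x : ↥(A ⊓ C) =>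
      (⟨⟨(x : G), x.2.1⟩, Subtype.ext ((QuotientGroup.eq_one_iff _).2 x.2.2)⟩ : (π.subgroupMap A).ker))
      ⟨fun a b hab => Subtype.ext (congrArg (fun y : (π.subgroupMap A).ker => ((y : A) : G)) hab),
        fun y => ⟨⟨((y : A) : G), (y : A).2, (QuotientGroup.eq_one_iff _).1 (congrArg Subtype.val y.2)⟩,
          rfl⟩⟩)
  let e : ↥(A ⊓ Q ⊓ V) → LFF.fx (Additive V) (A.map π) := fun x =>
    ⟨Additive.ofMul ⟨x, x.2.2⟩, by
      rintro _ ⟨a, ha, rfl⟩
      exact (smul_eq_self_iff V a _).2 (H11.comm_of_mulCommutative hA.2.1 ha x.2.1.1)⟩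
  have he : Function.Bijective e := by
    refine ⟨fun x y hxy => Subtype.ext (congrArg (fun z : LFF.fx (Additive V) (A.map π) =>
      (((z : Additive V).toMul : V) : G)) hxy), fun v => ?_⟩
    have hv := ((v : Additive V).toMul).2
    refine ⟨⟨(((v : Additive V).toMul : V) : G), ⟨mem_max hA (h.QS (hVQ hv)) fun a ha => ?_, hVQ hv⟩, hv⟩, rfl⟩
    exact (smul_eq_self_iff V a _).1 (v.2 _ (mem_map_of_mem _ ha))
  have hfx := Nat.card_congr (Equiv.ofBijective e he)
  have hwt : Nat.card (Additive V) ≤ LFF.wt (Additive V) (A.map π) := by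
    rw [LFF.wt, ← hfx, Nat.card_congr Additive.toMul]
    refine Nat.le_of_mul_le_mul_left ?_ (Nat.card_pos (α := ↥(A ⊓ Q)))
    rw [← hcardA']
    calc Nat.card A' * Nat.card ↥(A ⊓ Q ⊓ V) ≤ Nat.card A * Nat.card ↥(A ⊓ Q ⊓ V) :=
          Nat.mul_le_mul_right _ hle
      _ = _ := by rw [← hcardA, hAQ]; ring
  refine ⟨hcomm, hwt, hA'S, hA'c, fun B hB hB' => (hA.2.2 B hB hB').trans ?_⟩
  have hex := (h.hyp V hV).wt_le_comm hcomm
  rw [LFF.wt, ← hfx, Nat.card_congr Additive.toMul] at hex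
  refine Nat.le_of_mul_le_mul_right ?_ (Nat.card_pos (α := ↥(A ⊓ Q ⊓ V)))
  rw [hcardA', ← hcardA, hAQ, mul_assoc, mul_left_comm]
  exact Nat.mul_le_mul_left _ hex

/-- Subgroups with Sylow subgroup `B` lie in the maximal subgroup. -/
theorem le_mx_of_sylIn {B L : Subgroup G} (hBS : B ≤ (S : Subgroup G))
    (hBc : (B.subgroupOf (S : Subgroup G)).Characteristic) (hB0 : B ≠ ⊥)
    (hQB : (B ⊓ Cfsg.pCore p G).Normal) (hL : L ≠ ⊤) (hBL : SylIn p B L) : L ≤ mx S := by
  set Q := Cfsg.pCore p G with hQ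
  haveI := H1.pCore_normal' p G
  set T := focalT (allFun.{u} p) (S : Subgroup G)
  have hSB : (S : Subgroup G) ≤ normalizer (B : Set G) :=
    le_normalizer.trans (char_normalizer hBS hBc)
  have hN : L ⊓ normalizer (B : Set G) ≤ mx S := inf_le_right.trans (h.normalizer_le hBS hBc hB0)
  have hfoc : B ⊓ ⁅L, L⁆ ≤ T := by
    have h1 := famTransfer_map allFun_sound L.subtype L.subtype_injective (h.ctl L hL)
    rw [range_subtype] at h1
    rw [familyControlsTransferIn_any (famOf_isConjugacyFunctor allFun_sound) h1 hBL]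
    simp only [famOf, iSup_image]
    refine iSup₂_le fun W hW => le_trans (le_inf (inf_le_left.trans hBS) ?_) h.focal_le
    refine inf_le_right.trans ?_
    have hne : Cfsg.inducedFunctor W B ≠ ⊥ :=
      (isConjugacyFunctor_inducedFunctor (allFun_sound W hW) G B hBL.isPGroup).2.1 hB0
    obtain ⟨K, hK, hKe⟩ := functor_char_trans hW S.2 hBS hBc
    have hle : normalizer (Cfsg.inducedFunctor W B : Set G) ≤ mx S :=
      h.normalizer_le ((inducedFunctor_le B).trans hBS) (by
        rw [← hKe, subgroupOf, comap_map_eq_self_of_injective (Subgroup.subtype_injective _)]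
        exact hK) hne
    exact commutator_mono (inf_le_right.trans hle) (inf_le_right.trans hle)
  have hQBT : ∀ q ∈ Q, ∀ b ∈ B, ⁅q, b⁆ ∈ B ⊓ Q ⊓ T := by
    intro q hq b hb
    refine ⟨⟨?_, ?_⟩, commutator_le_focalT allFun_sound allFun_nonempty S.2
      (commutator_mem_commutator (h.QS hq) (hBS hb))⟩
    · show q * b * q⁻¹ * b⁻¹ ∈ B
      exact B.mul_mem (H75.conj_mem_of_mem_normalizer (hSB (h.QS hq)) hb) (B.inv_mem hb)
    · have := mul_mem hq ((H1.pCore_normal' p G).conj_mem q⁻¹ (inv_mem hq) b)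
      simpa [commutatorElement_def, mul_assoc] using this
  have hconj : ∀ l ∈ L, ∀ b ∈ B, l * b * l⁻¹ ∈ mx S := by
    intro l hl b hb
    have key : ∀ x ∈ B, ∀ t ∈ T ⊓ Q, (l * x * l⁻¹) * t * (l * x * l⁻¹)⁻¹ ∈ T ⊓ Q := by
      intro x hx t ht
      set q := l⁻¹ * t⁻¹ * l
      have hqQ : q ∈ Q := (H1.pCore_normal' p G).conj_mem' _ (inv_mem ht.2) l
      obtain ⟨⟨hc1, hc2⟩, hc3⟩ := hQBT q hqQ x hx
      set c := ⁅q, x⁆ with hcdef
      have hcL : l * c * l⁻¹ ∈ B ⊓ Q := hQB.conj_mem c ⟨hc1, hc2⟩ l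
      have h1 : ⁅l, c⁆ ∈ B ⊓ ⁅L, L⁆ :=
        ⟨B.mul_mem hcL.1 (B.inv_mem hc1), commutator_mem_commutator hl (hBL.le hc1)⟩
      have h2 : l * c * l⁻¹ ∈ T := by
        have := mul_mem (hfoc h1) hc3
        rwa [commutatorElement_def, inv_mul_cancel_right] at this
      have h3 : (l * x * l⁻¹) * t * (l * x * l⁻¹)⁻¹ = t * (l * c * l⁻¹) := by
        rw [hcdef, commutatorElement_def]; simp only [q]; group
      rw [h3]
      exact mul_mem ht ⟨h2, hcL.2⟩
    refine mem_normalizer_iff.2 fun t => ⟨key b hb t, fun ht => ?_⟩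
    have h4 := key b⁻¹ (inv_mem hb) _ ht
    have h5 : (l * b⁻¹ * l⁻¹) * ((l * b * l⁻¹) * t * (l * b * l⁻¹)⁻¹) * (l * b⁻¹ * l⁻¹)⁻¹ = t := by
      group
    rwa [h5] at h4
  set L₀ := normalClosure ((B.subgroupOf L : Subgroup L) : Set L)
  obtain ⟨P, hP⟩ := hBL.exists_sylow
  have hPL₀ : (P : Subgroup L) ≤ L₀ := by
    intro x hx
    exact subset_normalClosure (mem_subgroupOf.2 (hP.le (mem_map_of_mem _ hx)))
  have hfr := Sylow.normalizer_sup_eq_top' P hPL₀
  intro x hx
  have hx' : (⟨x, hx⟩ : L) ∈ normalizer ((P : Subgroup L) : Set L) ⊔ L₀ := hfr.ge (mem_top _)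
  have hle : normalizer ((P : Subgroup L) : Set L) ⊔ L₀ ≤ (mx S).subgroupOf L := by
    refine sup_le (fun n hn => mem_subgroupOf.2 (hN ⟨n.2, ?_⟩)) ((closure_le _).2 ?_)
    · have := le_normalizer_map L.subtype (mem_map_of_mem L.subtype hn)
      rwa [hP] at this
    · intro y hy
      obtain ⟨b, hb, hconjb⟩ := Group.mem_conjugatesOfSet_iff.1 hy
      obtain ⟨c, hc⟩ := isConj_iff.1 hconjb
      rw [← hc]
      exact hconj c c.2 b (mem_subgroupOf.1 hb)
  exact hle hx'

end Fail

end H80.Focal
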