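import Cfsg.Agent.H80.FocalMain

/-!
No minimal failure for odd `p`: all elements of `S` act quadratically on the chief factors.
-/

set_option autoImplicit false
set_option linter.unusedSectionVars false
set_option linter.style.haveILetI false

open Subgroup H73
open scoped commutatorElement MatrixGroups IsMulCommutative

namespace H80.Focal

universe u

variable {G : Type u} [Group G] [Finite G] {p : ℕ} [Fact p.Prime]

/-- Two elements of a `p`-subgroup of `SL₂` in characteristic `p` multiply to zero after subtracting `1`. -/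
theorem sl2_quadratic {F : Type} [Field F] [Fintype F] [CharP F p] {P : Subgroup SL(2, F)}
    (hP : IsPGroup p P) {g h : SL(2, F)} (hg : g ∈ P) (hh : h ∈ P) (v : Fin 2 → F) :
    (g : Matrix (Fin 2) (Fin 2) F).mulVec ((h : Matrix (Fin 2) (Fin 2) F).mulVec v - v) =
      (h : Matrix (Fin 2) (Fin 2) F).mulVec v - v := by
  obtain ⟨c, -, hc⟩ := (sylIn_top (H74.SL2.upperSylow (F := F) p)).exists_conj_le hP le_top
  rw [H74.SL2.coe_upperSylow] at hc
  have hel : ∀ x ∈ P, ∃ t, x = c⁻¹ * H74.SL2.uT t * c := fun x hx => by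
    obtain ⟨t, ht⟩ := H74.SL2.mem_upper.1 (hc (conj_mem_cj.2 hx))
    exact ⟨t, by rw [ht]; group⟩
  obtain ⟨s, rfl⟩ := hel g hg
  obtain ⟨t, rfl⟩ := hel h hh
  have h1 : ((H74.SL2.uT s : SL(2, F)) : Matrix (Fin 2) (Fin 2) F).mulVec
      (((H74.SL2.uT t : SL(2, F)) : Matrix (Fin 2) (Fin 2) F).mulVec
        ((c : Matrix (Fin 2) (Fin 2) F).mulVec v) - (c : Matrix (Fin 2) (Fin 2) F).mulVec v) =
      ((H74.SL2.uT t : SL(2, F)) : Matrix (Fin 2) (Fin 2) F).mulVec
        ((c : Matrix (Fin 2) (Fin 2) F).mulVec v) - (c : Matrix (Fin 2) (Fin 2) F).mulVec v := by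
    set w := (c : Matrix (Fin 2) (Fin 2) F).mulVec v
    ext i
    fin_cases i <;> simp [H74.SL2.coe_uT, Matrix.mulVec, dotProduct, Fin.sum_univ_two]
  have h2 := congrArg ((c⁻¹ : SL(2, F)) : Matrix (Fin 2) (Fin 2) F).mulVec h1
  have hv : ((c⁻¹ : SL(2, F)) : Matrix (Fin 2) (Fin 2) F).mulVec
      ((c : Matrix (Fin 2) (Fin 2) F).mulVec v) = v := by
    rw [Matrix.mulVec_mulVec, ← Matrix.SpecialLinearGroup.coe_mul, inv_mul_cancel,
      Matrix.SpecialLinearGroup.coe_one, Matrix.one_mulVec]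
  simp only [Matrix.mulVec_sub, Matrix.mulVec_mulVec, ← Matrix.SpecialLinearGroup.coe_mul] at h2 hv ⊢
  rw [hv] at h2
  rw [show c⁻¹ * H74.SL2.uT s * c * (c⁻¹ * H74.SL2.uT t * c) =
    c⁻¹ * (H74.SL2.uT s * (H74.SL2.uT t * c)) by group]
  simpa [mul_assoc] using h2

/-- A `p`-element acts quadratically on a natural module. -/
theorem iter_le_of_natural {F : Type} [Field F] [Fintype F] [CharP F p] {U W : Subgroup G} [W.Normal]
    (hU : U.Normal)
    (hnat : Cfsg.IsNaturalSL2Module F (U.map (QuotientGroup.mk' W)) (⊤ : Subgroup (G ⧸ W)))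
    {Z : Subgroup G} (hZ : IsPGroup p Z) {n : ℕ} (hn : 2 ≤ n) :
    Cfsg.iterCommutator U Z n ≤ W := by
  set π := QuotientGroup.mk' W with hπ
  obtain ⟨-, ρ, ψ, -, -, hact⟩ := hnat
  let f : G →* SL(2, F) := (ρ.comp Subgroup.topEquiv.symm.toMonoidHom).comp π
  have hf : IsPGroup p (Z.map f) := hZ.map f
  have hcm : ∀ (a : U.map π) (z : G), ∃ w : U.map π, (w : G ⧸ W) = ⁅(a : G ⧸ W), π z⁆ ∧
      ψ (Additive.ofMul w) = ψ (Additive.ofMul a) -
        (f z : Matrix (Fin 2) (Fin 2) F).mulVec (ψ (Additive.ofMul a)) := by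
    intro a z
    obtain ⟨w, hw, hw'⟩ := hact ⟨π z, mem_top _⟩ a⁻¹
    refine ⟨a * w, ?_, ?_⟩
    · rw [Subgroup.coe_mul, hw, Subgroup.coe_inv]
      simp only [commutatorElement_def, mul_assoc]
    · rw [ofMul_mul, map_add, hw', ofMul_inv, map_neg, Matrix.mulVec_neg]
      exact (sub_eq_add_neg _ _).symm
  have key : ⁅U, Z⁆ ≤ ⨅ z ∈ Z, commutatorInto W z := by
    rw [commutator_le]
    intro a ha z hz
    simp only [Subgroup.mem_iInf]
    intro z' hz'
    obtain ⟨w, hw, hw'⟩ := hcm ⟨π a, mem_map_of_mem π ha⟩ z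
    obtain ⟨w₂, hw₂, hw₂'⟩ := hcm w z'
    rw [mem_commutatorInto, ← QuotientGroup.eq_one_iff (N := W)]
    show π ⁅⁅a, z⁆, z'⁆ = 1
    rw [map_commutatorElement, map_commutatorElement, ← hw, ← hw₂]
    have h0 : ψ (Additive.ofMul w₂) = 0 := by
      rw [hw₂', hw', ← neg_sub ((f z : Matrix (Fin 2) (Fin 2) F).mulVec _), Matrix.mulVec_neg,
        sl2_quadratic hf (mem_map_of_mem f hz') (mem_map_of_mem f hz)]
      simp
    rw [show w₂ = 1 from Additive.ofMul.injective (ψ.injective (by rw [h0, ofMul_one, map_zero]))]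
    rfl
  induction n, hn using Nat.le_induction with
  | base =>
    show ⁅⁅U, Z⁆, Z⁆ ≤ W
    rw [commutator_le]
    intro x hx z hz
    have h1 := key hx
    simp only [Subgroup.mem_iInf] at h1
    exact h1 z hz
  | succ n _ ih => exact (commutator_mono ih le_rfl).trans (commutator_le_left _ _)

namespace Fail

variable {S : Sylow p G} (h : Fail S)
include h

theorem existsUnique_coatom : ∃! M : Subgroup G, IsCoatom M ∧ (S : Subgroup G) ≤ M := by
  have hco : IsCoatom (mx S) := ⟨h.mx_ne, fun Y hY => by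
    by_contra hne
    exact hY.not_ge (h.ov hne (h.S_le.trans hY.le))⟩
  refine ⟨mx S, ⟨hco, h.S_le⟩, fun M hM => ?_⟩
  rcases (h.ov hM.1.1 hM.2).eq_or_lt with e | e
  · exact e
  · exact absurd (hM.1.2 _ e) h.mx_ne

end Fail

end H80.Focal
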