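import Cfsg.Agent.H73.Chief
import Cfsg.Agent.H5.Fusion

/-!
The focal subgroup of a Sylow subgroup abelian modulo a normal subgroup.
-/

set_option autoImplicit false
set_option linter.unusedSectionVars false

open Subgroup H73
open scoped commutatorElement

namespace H80.Focal

variable {G : Type*} [Group G] [Finite G] {p : ℕ} [Fact p.Prime]

/-- If `R` is abelian modulo `N` and is `B` times elements central in `X` modulo `N`, and the normaliser
of `R` normalises `B`, then `R ⊓ X'` lies in `B`. -/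
theorem inf_commutator_le_of_mod {N B R X : Subgroup G} [N.Normal] (hR : SylIn p R X) (hBR : B ≤ R)
    (hNB : N ≤ B) (hab : ∀ a ∈ R, ∀ b ∈ R, ⁅a, b⁆ ∈ N)
    (hdec : ∀ x ∈ R, ∃ b ∈ B, ∀ n ∈ X, ⁅n, b⁻¹ * x⁆ ∈ N)
    (hn : X ⊓ normalizer (R : Set G) ≤ normalizer (B : Set G)) : R ⊓ ⁅X, X⁆ ≤ B := by
  have key : ∀ x ∈ R, ∀ g ∈ X, g * x * g⁻¹ ∈ R → g * x * g⁻¹ * x⁻¹ ∈ B := by
    intro x hx g hg hy
    have hRC : R ≤ X ⊓ commutatorInto N x := le_inf hR.le fun a ha => hab a ha x hx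
    have hgC : cj g⁻¹ R ≤ X ⊓ commutatorInto N x := by
      intro z hz
      rw [mem_cj, inv_inv] at hz
      refine ⟨?_, ?_⟩
      · have := X.mul_mem (X.mul_mem (X.inv_mem hg) (hR.le hz)) hg
        rwa [show g⁻¹ * (g * z * g⁻¹) * g = z by group] at this
      · have := Subgroup.Normal.conj_mem' ‹N.Normal› _ (hab _ hz _ hy) g
        rwa [show g⁻¹ * ⁅g * z * g⁻¹, g * x * g⁻¹⁆ * g = ⁅z, x⁆ by
          simp only [commutatorElement_def]; group] at this
    obtain ⟨l, hl, hle⟩ := (hR.of_le hRC inf_le_left).exists_conj_le (hR.isPGroup.map _) hgC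
    rw [cj_cj] at hle
    have heq : l * g⁻¹ ∈ normalizer (R : Set G) :=
      mem_normalizer_iff_cj.2 (Subgroup.eq_of_le_of_card_ge hle (card_cj _ R).ge)
    have hn' := inv_mem heq
    rw [mul_inv_rev, inv_inv] at hn'
    have hnB := hn ⟨X.mul_mem hg (X.inv_mem hl.1), hn'⟩
    obtain ⟨b, hb, hz⟩ := hdec x hx
    have h1 : ⁅g * l⁻¹, x⁆ ∈ B := by
      rw [show ⁅g * l⁻¹, x⁆ = (g * l⁻¹) * b * (g * l⁻¹)⁻¹ * b⁻¹ *
        (b * ⁅g * l⁻¹, b⁻¹ * x⁆ * b⁻¹) by simp only [commutatorElement_def]; group]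
      exact B.mul_mem (B.mul_mem (H75.conj_mem_of_mem_normalizer hnB hb) (B.inv_mem hb))
        (hNB (Subgroup.Normal.conj_mem ‹N.Normal› _ (hz _ (X.mul_mem hg (X.inv_mem hl.1))) b))
    rw [show g * x * g⁻¹ * x⁻¹ = (g * ⁅l⁻¹, x⁆⁻¹ * g⁻¹) * ⁅g * l⁻¹, x⁆ by
      simp only [commutatorElement_def]; group]
    exact B.mul_mem (hNB (Subgroup.Normal.conj_mem ‹N.Normal› _
      (N.inv_mem ((commutatorInto N x).inv_mem hl.2)) g)) h1
  obtain ⟨P, hP⟩ := hR.exists_sylow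
  have hPm : ∀ a : X, a ∈ (P : Subgroup X) ↔ (a : G) ∈ R := fun a => by
    rw [← hP]
    exact (mem_map_iff_mem X.subtype_injective).symm
  rintro x ⟨hxR, hxX⟩
  have h1 : (⟨x, hR.le hxR⟩ : X) ∈ commutator X ⊓ (P : Subgroup X) := by
    refine ⟨?_, (hPm _).2 hxR⟩
    rw [← map_subtype_commutator] at hxX
    exact (mem_map_iff_mem X.subtype_injective).1 hxX
  rw [H5.commutator_inf_eq_focalSubgroup_of_hall _ P.card_coprime_index] at h1
  have h2 : Subgroup.focalSubgroup (P : Subgroup X) ≤ B.subgroupOf X := by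
    rw [Subgroup.focalSubgroup_def, Subgroup.closure_le]
    rintro _ ⟨hgH, a, ha, u, rfl⟩
    rw [SetLike.mem_coe, mem_subgroupOf]
    have h3 : u * a⁻¹ * u⁻¹ ∈ (P : Subgroup X) := by
      rw [show u * a⁻¹ * u⁻¹ = a⁻¹ * ⁅a, u⁆ by simp only [commutatorElement_def]; group]
      exact mul_mem (inv_mem ha) hgH
    have h4 := key a ((hPm _).1 ha) u u.2 (by
      have := (hPm _).1 (inv_mem h3)
      simpa [mul_assoc] using this)
    have h5 := B.inv_mem h4
    simpa [commutatorElement_def, mul_assoc] using h5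
  exact h2 h1

end H80.Focal
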