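import Cfsg.Agent.H80.FocalCore
import Cfsg.Agent.H80.FocalMod

/-!
The group structure of a minimal failure of the focal subgroup statement.
-/

set_option autoImplicit false
set_option linter.unusedSectionVars false
set_option linter.style.haveILetI false

open Subgroup H73
open scoped commutatorElement MatrixGroups IsMulCommutative

namespace H80.Focal

universe u

variable {G : Type u} [Group G] [Finite G] {p : ℕ} [Fact p.Prime]

namespace Fail

variable {S : Sylow p G} (h : Fail S)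
include h

/-- The image of `J(S)` is `U`. -/
theorem image_jg (V : Subgroup G) [V.Normal] [IsMulCommutative V]
    (hV : V = omz p (Cfsg.pCore p G)) :
    letI := quotDMA V
    letI := quotDMA_faithful V
    (jg (S : Subgroup G)).map (QuotientGroup.mk' (centralizer (V : Set G))) = (h.hyp V hV).U ∧
      ∃ D, LFF.Mem (Additive V) D ∧
        D ≤ (S : Subgroup G).map (QuotientGroup.mk' (centralizer (V : Set G))) := by
  letI := quotDMA V
  haveI := quotDMA_faithful V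
  set π := QuotientGroup.mk' (centralizer (V : Set G))
  have hy := h.hyp V hV
  have hle : (jg (S : Subgroup G)).map π ≤ hy.U := by
    rw [jg_eq, sSup_eq_iSup, Subgroup.map_iSup]
    refine iSup_le fun A => ?_
    rw [Subgroup.map_iSup]
    exact iSup_le fun hA => hy.offender_le (map_mono hA.1) (h.offender V hV hA).1 (h.offender V hV hA).2.1
  obtain ⟨A, hA, hAQ⟩ := h.exists_outside
  have hne : A.map π ≠ ⊥ := fun h0 => hAQ (by
    rw [Subgroup.map_eq_bot_iff, QuotientGroup.ker_mk'] at h0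
    exact (le_inf hA.1 h0).trans (by subst hV; exact h.inf_cent_V.le))
  obtain ⟨D, hD, hDA⟩ := hy.exists_mem_le (map_mono hA.1) (h.offender V hV hA).1 hne
    (h.offender V hV hA).2.1
  refine ⟨le_antisymm hle (hy.U_le_of_normalized (map_mono (jg_le _)) ?_ hD
    (hDA.trans (map_mono (le_jg hA)))), D, hD, hDA.trans (map_mono hA.1)⟩
  exact (map_mono (le_normalizer.trans (char_normalizer (jg_le _) (jg_char _)))).trans
    (le_normalizer_map π)

/-- `Q ⊓ B(S)` is normal. -/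
theorem bg_inf_normal : (bg p (S : Subgroup G) ⊓ Cfsg.pCore p G).Normal := by
  set Q := Cfsg.pCore p G with hQ
  haveI := H1.pCore_normal' p G
  haveI := V_normal (G := G) (p := p)
  set V := omz p Q with hV
  haveI hVc : IsMulCommutative V :=
    H11.isMulCommutative_of_commute fun a ha b hb => hb.2.1 a ha.1
  set J := jg (S : Subgroup G) with hJ
  set D := omz p J with hD
  set JQ := sSup {A | A ∈ maxAb (S : Subgroup G) ∧ A ≤ Q} with hJQ
  have hJQQ : JQ ≤ Q := sSup_le fun A hA => hA.2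
  haveI hJQn : JQ.Normal := by
    refine normalizer_eq_top_iff.1 (eq_top_iff.2 fun g _ => ?_)
    rw [mem_normalizer_iff_cj]
    refine Subgroup.eq_of_le_of_card_ge ?_ (card_cj g _).ge
    rw [cj_le_iff]
    refine sSup_le fun A hA => ?_
    rw [← cj_le_iff]
    have hc : cj g A ≤ Q := by
      rintro _ ⟨a, ha, rfl⟩
      exact (H1.pCore_normal' p G).conj_mem a (hA.2 ha) g
    refine le_sSup ⟨⟨hc.trans h.QS, H11.isMulCommutative_map hA.1.2.1 _, fun B hB hB' => ?_⟩, hc⟩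
    rw [card_cj]
    exact hA.1.2.2 B hB hB'
  haveI := omz_normal (p := p) JQ
  set X := omz p JQ with hX
  obtain ⟨A₀, hA₀, hA₀Q⟩ := h.exists_outside
  have hfam : ∀ A ∈ maxAb (S : Subgroup G), (A ⊓ Q) ⊔ V ≤ JQ ∧ (A ⊓ Q) ⊔ V ∈ maxAb (S : Subgroup G) :=
    fun A hA => ⟨le_sSup ⟨(h.offender V hV hA).2.2, sup_le inf_le_right (omz_le p Q)⟩,
      (h.offender V hV hA).2.2⟩
  have hVJQ : V ≤ JQ := le_sup_right.trans (hfam A₀ hA₀).1
  have hVX : V ≤ X := fun v hv => ⟨hVJQ hv, fun a ha => hv.2.1 a (hJQQ ha), hv.2.2⟩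
  have hDX : D ≤ X := by
    intro x hx
    have hxS : x ∈ (S : Subgroup G) := jg_le _ hx.1
    exact ⟨(hfam A₀ hA₀).1 (mem_max (hfam A₀ hA₀).2 hxS fun a ha => hx.2.1 a (le_jg (hfam A₀ hA₀).2 ha)),
      fun a ha => hx.2.1 a ((sSup_le fun A hA => le_jg hA.1) ha), hx.2.2⟩
  have hJK : J ≤ factorCentralizer X V := by
    rw [hJ, jg_eq]
    refine sSup_le fun A hA a ha x hx => ?_
    obtain ⟨hA', hA'm⟩ := hfam A hA
    have hxA : x ∈ (A ⊓ Q) ⊔ V :=
      mem_max hA'm (h.QS (hJQQ hx.1)) fun b hb => hx.2.1 b (hA' hb)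
    obtain ⟨a₁, ha₁, v, hv, rfl⟩ := mem_sup_of_normal_right.1 hxA
    have hc : a * a₁ = a₁ * a := H11.comm_of_mulCommutative hA.2.1 ha ha₁.1
    have e : ⁅a₁ * v, a⁆ = a₁ * (v * (a * v⁻¹ * a⁻¹)) * a₁⁻¹ := by
      calc ⁅a₁ * v, a⁆ = a₁ * v * a * v⁻¹ * (a₁⁻¹ * a⁻¹) := by
            simp only [commutatorElement_def]; group
        _ = a₁ * v * a * v⁻¹ * (a⁻¹ * a₁⁻¹) := by rw [← mul_inv_rev, ← mul_inv_rev, hc]
        _ = _ := by group
    rw [e]
    exact Subgroup.Normal.conj_mem inferInstance _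
      (mul_mem hv (Subgroup.Normal.conj_mem inferInstance _ (inv_mem hv) a)) a₁
  have hSD : (S : Subgroup G) ≤ normalizer (D : Set G) :=
    (le_normalizer.trans (char_normalizer (jg_le _) (jg_char _))).trans (normalizer_omz J)
  have hSN : (S : Subgroup G) ≤ normalizer ((D ⊔ V : Subgroup G) : Set G) := fun s hs => by
    rw [mem_normalizer_iff_cj, cj_sup, mem_normalizer_iff_cj.1 (hSD hs),
      mem_normalizer_iff_cj.1 ((normalizer_eq_top (H := V)).ge (mem_top s))]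
  have hKN : factorCentralizer X V ≤ normalizer ((D ⊔ V : Subgroup G) : Set G) := by
    refine H75.le_normalizer_of_conj fun k hk x hx => ?_
    have h1 := mem_sup_right (S := D) (V.inv_mem (hk x (sup_le hDX hVX hx)))
    have h2 := mul_mem h1 hx
    rwa [show (⁅x, k⁆)⁻¹ * x = k * x * k⁻¹ by simp only [commutatorElement_def]; group] at h2
  have htop : normalizer ((D ⊔ V : Subgroup G) : Set G) = ⊤ := by
    by_contra hne
    haveI := factorCentralizer_normal (U := X) (V := V)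
    exact hA₀Q ((le_inf hA₀.1 ((le_jg hA₀).trans hJK)).trans
      (h.frattini (hKN.trans (h.ov hne hSN))))
  haveI := normalizer_eq_top_iff.1 htop
  have heq : bg p (S : Subgroup G) ⊓ Q = Q ⊓ centralizer ((D ⊔ V : Subgroup G) : Set G) := by
    refine le_antisymm (le_inf inf_le_right fun x hx => ?_)
      (le_inf (le_inf (inf_le_left.trans h.QS) (inf_le_right.trans
        (centralizer_le (SetLike.coe_subset_coe.2 le_sup_left)))) inf_le_left)
    refine mem_centralizer_iff.2 fun d hd => ?_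
    obtain ⟨d₁, hd₁, v, hv, rfl⟩ := mem_sup_of_normal_right.1 hd
    rw [mul_assoc, ← hv.2.1 x hx.2, ← mul_assoc, mem_centralizer_iff.1 hx.1.2 d₁ hd₁, mul_assoc]
  rw [heq]
  infer_instance

/-- The image of `B(S)` is `U`. -/
theorem image_bg (V : Subgroup G) [V.Normal] [IsMulCommutative V]
    (hV : V = omz p (Cfsg.pCore p G)) :
    letI := quotDMA V
    letI := quotDMA_faithful V
    (bg p (S : Subgroup G)).map (QuotientGroup.mk' (centralizer (V : Set G))) = (h.hyp V hV).U := by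
  letI := quotDMA V
  haveI := quotDMA_faithful V
  set π := QuotientGroup.mk' (centralizer (V : Set G))
  obtain ⟨hJ, D, hD, -⟩ := h.image_jg V hV
  have hJB : jg (S : Subgroup G) ≤ bg p (S : Subgroup G) :=
    le_inf (jg_le _) fun j hj => mem_centralizer_iff.2 fun d hd => (hd.2.1 j hj).symm
  refine le_antisymm ?_ (hJ ▸ map_mono hJB)
  rintro _ ⟨b, hb, rfl⟩
  refine (h.hyp V hV).fix_mem_U (mem_map_of_mem π hb.1) ⟨D, hD⟩ fun v hv => ?_
  have hvS : ((v.toMul : V) : G) ∈ omz p (Cfsg.pCore p G) := hV ▸ (v.toMul).2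
  have hcomm : ∀ j ∈ jg (S : Subgroup G), j * (v.toMul : G) = (v.toMul : G) * j := fun j hj =>
    (smul_eq_self_iff V j v).1 (hv _ (hJ ▸ mem_map_of_mem π hj))
  refine (smul_eq_self_iff V b v).2 (mem_centralizer_iff.1 hb.2 _ ?_).symm
  obtain ⟨A, hA, -⟩ := h.exists_outside
  exact ⟨le_jg hA (mem_max hA (h.QS hvS.1) fun a ha => hcomm a (le_jg hA ha)), hcomm, hvS.2.2⟩

/-- A subgroup with Sylow subgroup `B(S)` covering the block. -/
theorem exists_quot (V : Subgroup G) [V.Normal] [IsMulCommutative V]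
    (hV : V = omz p (Cfsg.pCore p G)) :
    ∃ (F : Type) (_ : Field F) (_ : Fintype F) (n : ℕ), 1 ≤ n ∧ Fintype.card F = p ^ n ∧ CharP F p ∧
      Nonempty (G ⧸ centralizer (V : Set G) ≃* SL(2, F)) := by
  letI := quotDMA V
  haveI := quotDMA_faithful V
  set C := centralizer (V : Set G) with hC
  set π := QuotientGroup.mk' C with hπdef
  have hπ : Function.Surjective π := QuotientGroup.mk'_surjective C
  have hy := h.hyp V hV
  set Q := Cfsg.pCore p G with hQ
  haveI := H1.pCore_normal' p G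
  set B := bg p (S : Subgroup G) with hBdef
  haveI hQB : (B ⊓ Q).Normal := h.bg_inf_normal
  have hBS : B ≤ (S : Subgroup G) := inf_le_left
  have hBU : B.map π = hy.U := h.image_bg V hV
  have hSC : (S : Subgroup G) ⊓ C = Q := by subst hV; exact h.inf_cent_V
  have hQC : Q ≤ C := hSC.ge.trans inf_le_right
  obtain ⟨hJU, D₀, hD₀, -⟩ := h.image_jg V hV
  have hUc : LFF.Comm hy.U hy.U := by
    rintro a ha b hb
    have hcl : hy.U ≤ centralizer (hy.U : Set (G ⧸ C)) := by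
      refine sSup_le fun E hE x hx => mem_centralizer_iff.2 fun y hy' => ?_
      have hle : hy.U ≤ centralizer ({x} : Set (G ⧸ C)) := sSup_le fun E' hE' z hz =>
        mem_centralizer_iff.2 fun w hw => by
          rw [Set.mem_singleton_iff.1 hw]; exact hy.members_comm hE.1 hE.2 hE'.1 hE'.2 x hx z hz
      exact (mem_centralizer_iff.1 (hle hy') x rfl).symm
    exact mem_centralizer_iff.1 (hcl hb) a ha
  obtain ⟨D₁, B₁, hD₁, hD₁T, hX₁, hsyl, htop⟩ := hy.exists_block_sylow hD₀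
  set P := (B₁.X ⊔ hy.U).comap π with hP
  have hCP : C ≤ P := by
    intro c hc
    show π c ∈ B₁.X ⊔ hy.U
    rw [show π c = 1 from (QuotientGroup.eq_one_iff c).2 hc]
    exact one_mem _
  have hBP : B ≤ P := map_le_iff_le_comap.1 (hBU.le.trans le_sup_right)
  -- a Sylow subgroup of `P`
  have hR₀ : SylIn p ((S : Subgroup G) ⊓ P) P := by
    obtain ⟨R, hR, hle⟩ := exists_sylIn_ge (p := p) (S.2.to_le (inf_le_left (b := P))) inf_le_right
    have hRU : R.map π = hy.U := hsyl.eq_of_le (hR.isPGroup.map π)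
      (map_le_iff_le_comap.2 hR.le) (hBU.ge.trans (map_mono ((le_inf hBS hBP).trans hle)))
    have hRC : R ⊓ C ≤ Q := by
      have h1 : (S : Subgroup G) ⊓ C ≤ R ⊓ C :=
        le_inf ((le_inf inf_le_left (inf_le_right.trans hCP)).trans hle) inf_le_right
      rw [(sylIn_inf_normal S C).eq_of_le (hR.isPGroup.to_le inf_le_left) inf_le_right h1, hSC]
    have : R = (S : Subgroup G) ⊓ P := by
      refine le_antisymm (le_inf (fun r hr => ?_) hR.le) hle
      obtain ⟨b, hb, hbr⟩ : π r ∈ B.map π := hBU.ge (hRU.le (mem_map_of_mem π hr))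
      have hq : b⁻¹ * r ∈ Q := hRC ⟨R.mul_mem (R.inv_mem (hle ⟨hBS hb, hBP hb⟩)) hr,
        QuotientGroup.eq.1 hbr⟩
      simpa using (S : Subgroup G).mul_mem (hBS hb) (h.QS hq)
    rwa [this] at hR
  -- the normal closure of `B` in `P`
  set X₂ := sSup {K | ∃ g ∈ P, cj g B = K} with hX₂
  have hX₂P : X₂ ≤ P := sSup_le fun K ⟨g, hg, he⟩ => he ▸ cj_le_of_mem hg hBP
  have hBX : B ≤ X₂ := le_sSup ⟨1, P.one_mem, cj_one B⟩
  have hPX : ∀ g ∈ P, cj g X₂ ≤ X₂ := fun g hg => by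
    rw [cj_le_iff]
    refine sSup_le fun K ⟨k, hk, he⟩ => ?_
    rw [← he, ← cj_le_iff, cj_cj]
    exact le_sSup ⟨g * k, P.mul_mem hg hk, rfl⟩
  have hFC : X₂ ≤ factorCentralizer Q (B ⊓ Q) := by
    haveI := factorCentralizer_normal (U := Q) (V := B ⊓ Q)
    refine sSup_le fun K ⟨g, _, he⟩ => ?_
    rw [← he]
    rintro _ ⟨b, hb, rfl⟩
    refine Subgroup.Normal.conj_mem inferInstance b (fun q hq => ⟨?_, ?_⟩) g
    · show q * b * q⁻¹ * b⁻¹ ∈ B
      exact B.mul_mem (H75.conj_mem_of_mem_normalizer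
        ((le_normalizer.trans (char_normalizer hBS (bg_char p _))) (h.QS hq)) hb) (B.inv_mem hb)
    · have := mul_mem hq ((H1.pCore_normal' p G).conj_mem q⁻¹ (inv_mem hq) b)
      simpa [commutatorElement_def, mul_assoc] using this
  set R := (S : Subgroup G) ⊓ X₂ with hRdef
  have hR : SylIn p R X₂ := by
    obtain ⟨R', hR', hle⟩ := exists_sylIn_ge (p := p) (S.2.to_le (inf_le_left (b := X₂))) inf_le_right
    obtain ⟨g, hg, hgle⟩ := hR₀.exists_conj_le hR'.isPGroup (hR'.le.trans hX₂P)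
    have he : R = R' := Subgroup.eq_of_le_of_card_ge hle (by
      rw [← card_cj g R']
      exact Subgroup.card_le_of_le (le_inf (hgle.trans inf_le_left)
        ((cj_mono hR'.le).trans (hPX g hg))))
    rwa [he]
  have hBR : B ≤ R := le_inf hBS hBX
  have hRU : ∀ r ∈ R, π r ∈ hy.U := by
    have h1 : ((S : Subgroup G) ⊓ P).map π = hy.U := hsyl.eq_of_le (hR₀.isPGroup.map π)
      (map_le_iff_le_comap.2 inf_le_right) (hBU.ge.trans (map_mono (le_inf hBS hBP)))
    exact fun r hr => h1.le (mem_map_of_mem π ⟨hr.1, hX₂P hr.2⟩)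
  have hdec : ∀ x ∈ R, ∃ b ∈ B, b⁻¹ * x ∈ Q ∧ ∀ n ∈ X₂, ⁅n, b⁻¹ * x⁆ ∈ B ⊓ Q := by
    intro x hx
    obtain ⟨b, hb, hbx⟩ : π x ∈ B.map π := hBU.ge (hRU x hx)
    have hq : b⁻¹ * x ∈ Q := hSC.le ⟨(S : Subgroup G).mul_mem ((S : Subgroup G).inv_mem (hBS hb)) hx.1,
      QuotientGroup.eq.1 hbx⟩
    refine ⟨b, hb, hq, fun n hn => ?_⟩
    rw [← commutatorElement_inv]
    exact inv_mem (hFC hn _ hq)
  have hBB : ∀ a ∈ B, ∀ b ∈ B, ⁅a, b⁆ ∈ B ⊓ Q := fun a ha b hb => by
    have h1 : ⁅a, b⁆ ∈ B := commutator_le_self B (commutator_mem_commutator ha hb)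
    refine ⟨h1, hSC.le ⟨hBS h1, (QuotientGroup.eq_one_iff _).1 ?_⟩⟩
    show π ⁅a, b⁆ = 1
    rw [map_commutatorElement, commutatorElement_eq_one_iff_mul_comm]
    exact hUc _ (hBU.le (mem_map_of_mem π ha)) _ (hBU.le (mem_map_of_mem π hb))
  have hab : ∀ a ∈ R, ∀ b ∈ R, ⁅a, b⁆ ∈ B ⊓ Q := by
    intro a ha b hb
    obtain ⟨a₁, ha₁, -, haz⟩ := hdec a ha
    obtain ⟨b₁, hb₁, -, hbz⟩ := hdec b hb
    have k2 : ⁅a₁, b⁆ ∈ B ⊓ Q := by
      rw [show ⁅a₁, b⁆ = ⁅a₁, b₁⁆ * (b₁ * ⁅a₁, b₁⁻¹ * b⁆ * b₁⁻¹) by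
        simp only [commutatorElement_def]; group]
      exact mul_mem (hBB _ ha₁ _ hb₁) (hQB.conj_mem _ (hbz _ (hBX ha₁)) b₁)
    rw [show ⁅a, b⁆ = a₁ * ⁅b, a₁⁻¹ * a⁆⁻¹ * a₁⁻¹ * ⁅a₁, b⁆ by
      simp only [commutatorElement_def]; group]
    exact mul_mem (hQB.conj_mem _ (inv_mem (haz _ hb.2)) a₁) k2
  have hn : X₂ ⊓ normalizer (R : Set G) ≤ normalizer (B : Set G) := by
    intro n hn
    have hRS : R ≤ (S : Subgroup G) := inf_le_left
    have hJR : jg (S : Subgroup G) ≤ R := le_trans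
      (le_inf (jg_le _) fun j hj => mem_centralizer_iff.2 fun d hd => (hd.2.1 j hj).symm) hBR
    have hnJ : n ∈ normalizer (jg (S : Subgroup G) : Set G) := by
      rw [mem_normalizer_iff_cj]
      refine Subgroup.eq_of_le_of_card_ge ?_ (card_cj n _).ge
      rw [cj_le_iff, jg_eq]
      refine sSup_le fun A hA => ?_
      rw [← cj_le_iff, ← jg_eq]
      refine le_jg ⟨((cj_mono ((le_jg hA).trans hJR)).trans
        (mem_normalizer_iff_cj.1 hn.2).le).trans hRS, H11.isMulCommutative_map hA.2.1 _,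
        fun B' hB' hB'' => ?_⟩
      rw [card_cj]
      exact hA.2.2 B' hB' hB''
    rw [mem_normalizer_iff_cj]
    refine Subgroup.eq_of_le_of_card_ge ?_ (card_cj n _).ge
    refine le_inf ((cj_mono hBR).trans ((mem_normalizer_iff_cj.1 hn.2).le.trans hRS))
      ((cj_mono (inf_le_right : B ≤ centralizer (omz p (jg (S : Subgroup G)) : Set G))).trans ?_)
    rw [cj_centralizer, mem_normalizer_iff_cj.1 (normalizer_omz _ hnJ)]
  have hfoc : R ⊓ ⁅X₂, X₂⁆ ≤ B := inf_commutator_le_of_mod hR hBR inf_le_left hab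
    (fun x hx => (hdec x hx).imp fun b hb => ⟨hb.1, hb.2.2⟩) hn
  -- the subgroup `L`
  set L := ⁅X₂, X₂⁆ ⊔ B with hL
  have hLX : L ≤ X₂ := sup_le (commutator_le_self X₂) hBX
  have hLn : X₂ ≤ normalizer (L : Set G) := by
    refine H75.le_normalizer_of_conj fun x hx l hl => ?_
    rw [show x * l * x⁻¹ = ⁅x, l⁆ * l by simp only [commutatorElement_def]; group]
    exact L.mul_mem (mem_sup_left (commutator_mem_commutator hx (hLX hl))) hl
  have hBL : SylIn p B L := by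
    obtain ⟨R', hR', hle⟩ := exists_sylIn_ge (p := p) (S.2.to_le hBS) (le_sup_right : B ≤ L)
    obtain ⟨g, hg, hgle⟩ := hR.exists_conj_le hR'.isPGroup (hR'.le.trans hLX)
    have hint : R ⊓ L ≤ B := by
      rintro x ⟨hxR, hxL⟩
      have hxL' : x ∈ B ⊔ ⁅X₂, X₂⁆ := by rwa [sup_comm]
      obtain ⟨b, hb, c, hc, rfl⟩ := LFF.exists_mul_of_mem_sup'
        (hBX.trans (H75.le_normalizer_of_conj fun x hx c hc => by
          rw [show x * c * x⁻¹ = ⁅x, c⁆ * c by simp only [commutatorElement_def]; group]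
          exact mul_mem (commutator_mem_commutator hx (commutator_le_self X₂ hc)) hc))
        hxL'
      refine B.mul_mem hb (hfoc ⟨?_, hc⟩)
      have := R.mul_mem (R.inv_mem (hBR hb)) hxR
      rwa [inv_mul_cancel_left] at this
    have hc : cj g R' ≤ B := (le_inf hgle ((cj_mono hR'.le).trans
      (mem_normalizer_iff_cj.1 (hLn hg)).le)).trans hint
    have he : B = R' := Subgroup.eq_of_le_of_card_ge hle (by
      rw [← card_cj g R']
      exact Subgroup.card_le_of_le hc)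
    exact he.symm ▸ hR'
  -- its image contains the block
  have hgen : ∀ K : Subgroup (G ⧸ C), (∀ t, B₁.u t ∈ K) →
      (∀ t, B₁.ι (LFF.rot B₁.F) * B₁.u t * (B₁.ι (LFF.rot B₁.F))⁻¹ ∈ K) → B₁.X ≤ K := by
    intro K hu hw
    rw [← B₁.range_eq, MonoidHom.range_eq_map, map_le_iff_le_comap,
      ← H98.upper_sup_lower, sup_le_iff]
    constructor
    · intro g hg
      obtain ⟨s, rfl⟩ := H98.mem_upperUnipotentSL2.1 hg
      have e : H98.uu s = H74.SL2.uT s := Subtype.ext (by rw [H98.coe_uu, H74.SL2.coe_uT])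
      rw [e]
      exact hu s
    · intro g hg
      obtain ⟨s, rfl⟩ := H98.mem_lowerUnipotentSL2.1 hg
      have e : H98.ll s = LFF.rot B₁.F * H74.SL2.uT (-s) * (LFF.rot B₁.F)⁻¹ := by
        rw [eq_mul_inv_iff_mul_eq]
        apply Subtype.ext
        rw [Matrix.SpecialLinearGroup.coe_mul, Matrix.SpecialLinearGroup.coe_mul, LFF.coe_rot,
          H98.coe_ll, H74.SL2.coe_uT]
        simp [Matrix.mul_fin_two]
      rw [mem_comap, e, map_mul, map_mul, map_inv]
      exact hw (-s)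
  have hu₁ : ∀ K : Subgroup G, B ≤ K → ∀ t, B₁.u t ∈ K.map π := fun K hK t =>
    map_mono hK (hBU.ge (hy.le_U hD₁ hD₁T (B₁.u_mem t)))
  have hX₁X₂ : B₁.X ≤ X₂.map π := by
    refine hgen _ (hu₁ X₂ hBX) fun t => ?_
    obtain ⟨w, hw⟩ := hπ (B₁.ι (LFF.rot B₁.F))
    obtain ⟨b, hb, hbt⟩ := hu₁ X₂ hBX t
    have hwP : w ∈ P := by
      show π w ∈ B₁.X ⊔ hy.U
      rw [hw]
      exact mem_sup_left B₁.range_le
    refine ⟨w * b * w⁻¹, hPX w hwP (mem_map_of_mem _ hb), ?_⟩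
    rw [map_mul, map_mul, map_inv, hw, hbt]
  have hX₁L : B₁.X ≤ L.map π := by
    refine hgen _ (hu₁ L le_sup_right) fun t => ?_
    obtain ⟨x, hx, hxw⟩ := hX₁X₂ (B₁.range_le (g := LFF.rot B₁.F))
    obtain ⟨b, hb, hbt⟩ := hu₁ L le_sup_right t
    refine ⟨x * b * x⁻¹, H75.conj_mem_of_mem_normalizer (hLn hx) hb, ?_⟩
    rw [map_mul, map_mul, map_inv, hxw, hbt]
  have hB0 : B ≠ ⊥ := fun h0 => hD₁.ne_bot (eq_bot_iff.2 ((hy.le_U hD₁ hD₁T).trans (by
    rw [← hBU, h0, Subgroup.map_bot])))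
  have hLtop : L = ⊤ := by
    by_contra hne
    exact hX₁ (hX₁L.trans (map_mono (h.le_mx_of_sylIn hBS (bg_char p _) hB0 hQB hne hBL)))
  have hXtop : B₁.X = ⊤ := by
    refine htop (eq_top_iff.2 ?_)
    have hPt : P = ⊤ := eq_top_iff.2 (hLtop.ge.trans (hLX.trans hX₂P))
    rw [← map_comap_eq_self_of_surjective hπ (B₁.X ⊔ hy.U), show (B₁.X ⊔ hy.U).comap π = ⊤ from hPt,
      map_top_of_surjective _ hπ]
  haveI : CharP B₁.F p := B₁.charP hy.exp
  obtain ⟨n, hn'⟩ := FiniteField.card B₁.F p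
  refine ⟨B₁.F, B₁.fld, B₁.fin, n, n.pos, hn'.2, inferInstance, ⟨(MulEquiv.ofBijective B₁.ι ⟨?_, ?_⟩).symm⟩⟩
  · intro g g' hg
    refine Subtype.ext (Matrix.ext fun i j => ?_)
    have ha := congrArg (· • B₁.e ((1, 0), 0)) hg
    have hb := congrArg (· • B₁.e ((0, 1), 0)) hg
    simp only [B₁.act, mul_one, mul_zero, add_zero, zero_add] at ha hb
    obtain ⟨a1, a2, -⟩ := B₁.inj ha
    obtain ⟨b1, b2, -⟩ := B₁.inj hb
    fin_cases i <;> fin_cases j <;> assumption
  · intro x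
    obtain ⟨g, hg⟩ := B₁.range_eq.ge (show x ∈ B₁.X by rw [hXtop]; exact mem_top x)
    exact ⟨g, hg⟩

end Fail

end H80.Focal
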