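import Cfsg.Agent.H80.BlockK
import Cfsg.Agent.H1.CoprimeAction2
import Mathlib.FieldTheory.Perfect

/-!
All offenders of a Sylow subgroup lie in the product `U` of its minimal offenders.
-/

set_option autoImplicit false
set_option linter.unusedSectionVars false

open Subgroup H73
open scoped MatrixGroups commutatorElement

namespace H80.LFF

universe uH uV

variable {p : ℕ} [Fact p.Prime] {H : Type uH} [Group H] [Finite H] {V : Type uV} [AddCommGroup V]
  [Finite V] [DistribMulAction H V] [FaithfulSMul H V]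

/-- A semilinear unipotent quadratic triple over a finite field is trivial on the first
coordinate. -/
theorem semilinear_id {F : Type} [Field F] [Fintype F] (h2 : (2 : F) ≠ 0) (lam mu sig : F → F)
    (ladd : ∀ x y, lam (x + y) = lam x + lam y) (hrel : ∀ t y, lam (t * y) = sig t * mu y)
    (hq : ∀ x, lam (lam x) - lam x = lam x - x) (x : F) : lam x = x := by
  have hsc : ∀ a b, lam 1 * lam (a * b) = lam a * lam b := fun a b => by
    have e1 : lam 1 = sig 1 * mu 1 := by rw [← hrel, one_mul]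
    have e2 : lam a = sig a * mu 1 := by rw [← hrel, mul_one]
    have e3 : lam b = sig 1 * mu b := by rw [← hrel, one_mul]
    rw [e1, e2, e3, hrel]; ring
  have hll : ∀ a b, lam (lam 1) * lam (lam (a * b)) = lam (lam a) * lam (lam b) := fun a b => by
    rw [← hsc (lam 1), ← hsc (lam a), hsc a b]
  set n := lam 1 - 1
  let ν : F → F := fun x => lam x - x
  have hν2 : ∀ x, lam (lam x) = x + (ν x + ν x) := fun x => by
    have := hq x
    simp only [ν]
    linear_combination this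
  have key : ∀ a b, n * ν (a * b) = ν a * ν b ∧ ν (a * b) + n * (a * b) = a * ν b + b * ν a := by
    intro a b
    have k1 := hsc a b
    have k2 := hll a b
    rw [hν2, hν2, hν2, hν2] at k2
    simp only [ν, n] at k2 ⊢
    constructor
    · have h : (2 : F) * ((lam 1 - 1) * (lam (a * b) - a * b)) =
          2 * ((lam a - a) * (lam b - b)) := by linear_combination k2 - 2 * k1
      exact mul_left_cancel₀ h2 h
    · have h : (2 : F) * (lam (a * b) - a * b + (lam 1 - 1) * (a * b)) =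
          2 * (a * (lam b - b) + b * (lam a - a)) := by linear_combination 4 * k1 - k2
      exact mul_left_cancel₀ h2 h
  have hD := deriv_zero (fun x => ν x - n * x) (fun a b => by
    have := (key a b).2
    linear_combination this) x
  have hn : n * n = 0 := by
    have h := hν2 1
    have h1 : lam (lam 1) = lam 1 + lam n := by
      rw [← ladd]; congr 1; simp [n]
    have h3 : ν n - n * n = 0 := deriv_zero (fun x => ν x - n * x) (fun a b => by
      have := (key a b).2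
      linear_combination this) n
    simp only [ν, n] at *
    linear_combination h - h1 - h3
  have h0 : n = 0 := mul_self_eq_zero.1 hn
  simp only [ν, h0, zero_mul, sub_zero] at hD
  exact sub_eq_zero.1 hD

/-- A `p`-group moves a nonzero invariant subgroup properly. -/
theorem not_le_cm {A : Subgroup H} (hV : ∀ v : V, p • v = 0) (hA : IsPGroup p A) {S : AddSubgroup V}
    (hinv : ∀ a ∈ A, ∀ v ∈ S, a • v ∈ S) (hne : S ≠ ⊥) : ¬ S ≤ cm S A := by
  intro hle
  have : Finite (SD H V) := Finite.of_equiv _ SemidirectProduct.equivProd.symm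
  have h1 : ⁅upV (H := H) S, up V A⁆ < upV S := by
    refine H1.commutator_lt_of_isPGroup (p := p) (hA.map _)
      (((base_elementary (H := H) hV).1 |> fun _ => ?_)) ?_ ?_
    · intro x
      obtain ⟨⟨w, -, hw⟩⟩ := (⟨x.2⟩ : Nonempty ((x : SD H V) ∈ upV (H := H) S))
      refine ⟨1, Subtype.ext ?_⟩
      rw [pow_one, Subgroup.coe_pow, Subgroup.coe_one, ← hw]
      exact (base_elementary (H := H) hV).2 _ ⟨w, rfl⟩
    · refine H75.le_normalizer_of_conj ?_
      rintro _ ⟨a, ha, rfl⟩ _ ⟨w, hw, rfl⟩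
      exact ⟨Multiplicative.ofAdd (a • w.toAdd), hinv a ha _ hw, (conj_iv a w.toAdd).symm⟩
    · intro h0
      refine hne (eq_bot_iff.2 fun v hv => ?_)
      have h2 : (iv H v : SD H V) ∈ upV S := iv_mem_upV.2 hv
      rw [h0, mem_bot, ← map_one SemidirectProduct.inl] at h2
      exact AddSubgroup.mem_bot.2 (Multiplicative.ofAdd.injective (SemidirectProduct.inl_injective h2))
  refine h1.not_ge ?_
  rintro _ ⟨w, hw, rfl⟩
  let W : AddSubgroup V :=
    { carrier := {v | (iv H v : SD H V) ∈ ⁅upV (H := H) S, up V A⁆}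
      zero_mem' := by simp only [Set.mem_setOf_eq, iv, ofAdd_zero, map_one, one_mem]
      add_mem' := fun hu hv => by
        simp only [Set.mem_setOf_eq, iv, ofAdd_add, map_mul] at *; exact mul_mem hu hv
      neg_mem' := fun hu => by
        simp only [Set.mem_setOf_eq, iv, ofAdd_neg, map_inv] at *; exact inv_mem hu }
  refine ((cm_le_iff (W := W)).2 (fun a ha u hu => ?_) (hle hw) : (Multiplicative.toAdd w) ∈ W)
  change (iv H (a • u - u) : SD H V) ∈ ⁅upV (H := H) S, up V A⁆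
  rw [← comm_ih_iv, ← commutatorElement_inv]
  exact inv_mem (commutator_mem_commutator (iv_mem_upV.2 hu) (mem_map_of_mem _ ha))

/-- Nakayama: a commuting `p`-group with `W ≤ [W, A] + C(A)` fixes `W`. -/
theorem nakayama {A : Subgroup H} (hV : ∀ v : V, p • v = 0) (hA : IsPGroup p A) {W : AddSubgroup V}
    (hinv : ∀ a ∈ A, ∀ v ∈ W, a • v ∈ W) (hle : W ≤ cm W A ⊔ fx V A) : W ≤ fx V A := by
  have hsub : cm W A ≤ W := cm_le_iff.2 fun a ha u hu => sub_mem (hinv a ha u hu) hu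
  have hS : ∀ a ∈ A, ∀ v ∈ cm W A, a • v ∈ cm W A := fun a ha v hv => by
    have := add_mem (smul_sub_mem_cm (U := W) ha (hsub hv)) hv
    rwa [sub_add_cancel] at this
  by_contra hne
  refine not_le_cm hV hA hS (fun h0 => hne (hle.trans (by rw [h0, bot_sup_eq]))) ?_
  refine cm_le_iff.2 fun a ha u hu => ?_
  obtain ⟨s, hs, c, hc, rfl⟩ := AddSubgroup.mem_sup.1 (hle hu)
  rw [smul_add, hc a ha, add_sub_add_right_eq_sub]
  exact smul_sub_mem_cm ha hs

theorem Blk.charP {A : Subgroup H} (B : Blk V A) (hV : ∀ v : V, p • v = 0) : CharP B.F p := by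
  obtain ⟨q, hq⟩ := CharP.exists B.F
  rcases (Nat.dvd_prime (Fact.out : p.Prime)).1
    ((CharP.cast_eq_zero_iff B.F q p).1 (B.cast_p hV)) with h | h
  · subst h
    exact absurd rfl (CharP.char_ne_one B.F 1)
  · exact h ▸ hq

namespace Hyp

variable {T M : Subgroup H} (hyp : Hyp p V T M)

/-- The join of the minimal offenders in `T`. -/
def U (_hyp : Hyp p V T M) : Subgroup H := sSup {D | Mem V D ∧ D ≤ T}

include hyp

theorem U_le : hyp.U ≤ T := sSup_le fun _ h => h.2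

theorem le_U {D : Subgroup H} (hD : Mem V D) (hT : D ≤ T) : D ≤ hyp.U :=
  le_sSup (show D ∈ {D | Mem V D ∧ D ≤ T} from ⟨hD, hT⟩)

theorem members_comm {D D' : Subgroup H} (hD : Mem V D) (hT : D ≤ T) (hD' : Mem V D') (hT' : D' ≤ T) :
    Comm D D' := hyp.comm_of_pGroup hD hD' (hyp.Tp.to_le (sup_le hT hT'))

theorem elt_pow {g : H} (hg : g ∈ T) : ∃ k, g ^ p ^ k = 1 := by
  obtain ⟨k, hk⟩ := hyp.Tp ⟨g, hg⟩
  exact ⟨k, congrArg Subtype.val hk⟩

/-- An element of `T` quadratic on the line of a member fixes it and is trivial on `V / fx D`. -/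
theorem triv {D : Subgroup H} (hD : Mem V D) (hDT : D ≤ T) {g : H} (hg : g ∈ T)
    (hq : ∀ v ∈ cm (⊤ : AddSubgroup V) D, g • g • v - g • v = g • v - v) :
    (∀ v ∈ cm (⊤ : AddSubgroup V) D, g • v = v) ∧ ∀ v, g • v - v ∈ fx V D := by
  have hin : ∀ k ∈ T, cj k D ≤ T := fun k hk => cj_le_of_mem hk hDT
  have he : cj g D = D := hyp.orbit hD (hyp.elt_pow hg)
    (hyp.members_comm hD hDT (hD.cn g) (hin g hg))
    (hyp.members_comm hD hDT (hD.cn _) (hin _ (mul_mem hg hg))) hq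
  obtain ⟨B⟩ := hyp.exists_blk hD
  have hσ : ∀ t, ∃ t', g * B.u t * g⁻¹ = B.u t' := fun t =>
    (B.exists_u (x := g * B.u t * g⁻¹) (he.le (conj_mem_cj.2 (B.u_mem t)))).imp fun _ h => h.symm
  choose σ hσ using hσ
  have hlam : ∀ x, ∃ x', g • B.e ((x, 0), 0) = B.e ((x', 0), 0) := fun x =>
    B.mem_ln_iff.1 (by
      have h := cm_cj g (B.mem_ln_iff.2 ⟨x, rfl⟩)
      rwa [he] at h)
  choose lam hlam using hlam
  let mu : B.F → B.F := fun y => (B.e.symm (g • B.e ((0, y), 0))).1.2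
  have hmu : ∀ y, ∃ a c, g • B.e ((0, y), 0) = B.e ((a, mu y), c) := fun y =>
    ⟨(B.e.symm (g • B.e ((0, y), 0))).1.1, (B.e.symm (g • B.e ((0, y), 0))).2,
      (B.e.apply_symm_apply _).symm⟩
  have hrel : ∀ t y, lam (t * y) = σ t * mu y := by
    intro t y
    obtain ⟨a, c, hac⟩ := hmu y
    have h1 := congrArg (· • (g • B.e ((0, y), 0))) (hσ t)
    simp only [mul_smul, inv_smul_smul, B.u_apply, zero_add] at h1
    rw [show B.e ((t * y, y), (0 : fx V B.X)) = B.e ((t * y, 0), 0) + B.e ((0, y), 0) by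
      rw [B.e_add]; simp, smul_add, hlam, hac, B.e_add, B.u_apply] at h1
    simpa [add_comm a, add_left_inj] using (B.inj h1).1
  have ladd : ∀ x y, lam (x + y) = lam x + lam y := fun x y => by
    have h1 := hlam (x + y)
    rw [show B.e ((x + y, 0), (0 : fx V B.X)) = B.e ((x, 0), 0) + B.e ((y, 0), 0) by
      rw [B.e_add]; simp, smul_add, hlam, hlam, B.e_add] at h1
    exact (B.inj h1).1.symm
  have hqF : ∀ x, lam (lam x) - lam x = lam x - x := fun x => by
    have h1 := hq _ (B.mem_ln_iff.2 ⟨x, rfl⟩)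
    rw [hlam, hlam, B.e_sub, B.e_sub] at h1
    exact (B.inj h1).1
  have h2 := B.two_ne hyp.two hyp.exp
  have hid := semilinear_id h2 lam mu σ ladd hrel hqF
  have hmuv : ∀ y, mu y = mu 1 * y := fun y => by
    have h1 := hrel 1 y
    have h3 := hrel 1 1
    rw [hid, one_mul] at h1 h3
    calc mu y = σ 1 * mu 1 * mu y := by rw [← h3, one_mul]
      _ = mu 1 * (σ 1 * mu y) := by ring
      _ = mu 1 * y := by rw [← h1]
  -- the scalar is `1`
  have hfxinv : ∀ v ∈ fx V D, g • v ∈ fx V D := fun v hv => he ▸ smul_mem_fx_cn.2 hv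
  have hpow : ∀ n : ℕ, ∀ y, ∃ a c, g ^ n • B.e ((0, y), 0) = B.e ((a, mu 1 ^ n * y), c) := by
    intro n
    induction n with
    | zero => intro y; exact ⟨0, 0, by simp⟩
    | succ n ih =>
      intro y
      obtain ⟨a, c, hac⟩ := ih y
      obtain ⟨a', c', hac'⟩ := hmu (mu 1 ^ n * y)
      obtain ⟨a'', c'', hac''⟩ := B.mem_fx_iff.1 (hfxinv _ (B.mem_fx_iff.2 ⟨a, c, rfl⟩))
      refine ⟨a' + a'', c' + c'', ?_⟩
      rw [pow_succ', mul_smul, hac, show B.e ((a, mu 1 ^ n * y), c) =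
        B.e ((0, mu 1 ^ n * y), 0) + B.e ((a, 0), c) by rw [B.e_add]; simp, smul_add, hac', hac'',
        B.e_add, add_zero, hmuv, pow_succ', mul_assoc]
  have hc : mu 1 = 1 := by
    obtain ⟨k, hk⟩ := hyp.elt_pow hg
    obtain ⟨a, c, hac⟩ := hpow (p ^ k) 1
    rw [hk, one_smul, mul_one] at hac
    have h4 : (1 : B.F) = mu 1 ^ p ^ k := (B.inj hac).2.1
    haveI : CharP B.F p := B.charP hyp.exp
    exact (iterateFrobenius_inj B.F p k) (by simp only [iterateFrobenius_def, one_pow]; exact h4.symm)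
  refine ⟨fun v hv => ?_, fun v => ?_⟩
  · obtain ⟨x, rfl⟩ := B.mem_ln_iff.1 hv
    rw [hlam, hid]
  · obtain ⟨x, y, c, rfl⟩ := B.exists_eq v
    obtain ⟨a, c', hac⟩ := hmu y
    obtain ⟨a', c'', hac'⟩ := B.mem_fx_iff.1 (hfxinv _ (B.mem_fx_iff.2 ⟨x, c, rfl⟩))
    refine B.mem_fx_iff.2 ⟨a + a' - x, c' + c'' - c, ?_⟩
    rw [show B.e ((x, y), c) = B.e ((0, y), 0) + B.e ((x, 0), c) by rw [B.e_add]; simp, smul_add,
      hac, hac', B.e_add, B.e_add, B.e_sub, hmuv, hc]
    simp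

/-- The elements of `T` centralising every block. -/
def N0 (_hyp : Hyp p V T M) : Subgroup H where
  carrier := {g | g ∈ T ∧ ∀ D, Mem V D → D ≤ T → ∀ B : Blk V D,
    g * B.z = B.z * g ∧ ∀ v : V, B.z • v = -v → g • v = v}
  one_mem' := ⟨one_mem _, fun _ _ _ B => ⟨by simp, fun v _ => one_smul H v⟩⟩
  mul_mem' := fun {a b} ha hb => ⟨mul_mem ha.1 hb.1, fun D hD hT B =>
    ⟨by rw [mul_assoc, (hb.2 D hD hT B).1, ← mul_assoc, (ha.2 D hD hT B).1, mul_assoc],
      fun v hv => by rw [mul_smul, (hb.2 D hD hT B).2 v hv, (ha.2 D hD hT B).2 v hv]⟩⟩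
  inv_mem' := fun {a} ha => ⟨inv_mem ha.1, fun D hD hT B =>
    ⟨((Commute.inv_left (ha.2 D hD hT B).1) : _), fun v hv => by
      rw [inv_smul_eq_iff, (ha.2 D hD hT B).2 v hv]⟩⟩

/-- A distinguished member. -/
theorem exists_special {A : Subgroup H} (hA : Mem V A) :
    ∃ D, Mem V D ∧ D ≤ T ∧ ∃ B : Blk V D, ¬ B.X ≤ M := by
  obtain ⟨D, hD, hT, B, hB⟩ := hyp.exists_blk_of_class {D | Mem V D} (fun _ hD g => hD.cn g)
    (fun _ hD => hD) hA
  exact ⟨D, hD, hT, B, hB⟩

/-- A `p`-subgroup normalised by `T` is not centralised by a block outside `M`. -/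
theorem eq_bot_of_centralised {K : Subgroup H} (hKT : K ≤ T) (hn : T ≤ normalizer (K : Set H))
    {D : Subgroup H} (B : Blk V D) (hB : ¬ B.X ≤ M)
    (hc : ∀ k ∈ K, ∀ g : SL(2, B.F), k * B.ι g = B.ι g * k) : K = ⊥ := by
  have hX : B.X ≤ normalizer (K : Set H) := by
    refine H75.le_normalizer_of_conj fun x hx k hk => ?_
    obtain ⟨g, rfl⟩ := B.range_eq.ge hx
    rw [← hc k hk g, mul_inv_cancel_right]
    exact hk
  have htop := hyp.uniq _ hn fun h => hB (hX.trans h)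
  rw [eq_bot_iff, ← hyp.core]
  exact le_opc le_top (hyp.Tp.to_le hKT) (by rw [htop])

theorem comm_of_N0 {D : Subgroup H} (hD : Mem V D) (hT : D ≤ T) (B : Blk V D) {g : H}
    (hz : g * B.z = B.z * g) (hfix : ∀ v : V, B.z • v = -v → g • v = v) :
    ∀ k : SL(2, B.F), g * B.ι k = B.ι k * g := by
  refine B.comm_X (fun x y => hfix _ ?_) fun c => ?_
  · rw [B.z_apply, ← map_neg]; simp
  · have h1 : B.z • g • (c : V) = g • (c : V) := by
      rw [← mul_smul, ← hz, mul_smul, ← B.coe_eq c, B.z_apply, neg_zero]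
    obtain ⟨x, y, c', hxy⟩ := B.exists_eq (g • (c : V))
    rw [hxy, B.z_apply] at h1
    obtain ⟨hx, hy, -⟩ := B.inj h1
    have h2 := B.two_ne hyp.two hyp.exp
    have hx0 : x = 0 := by
      have : (2 : B.F) * x = 0 := by linear_combination -hx
      simpa [h2] using this
    have hy0 : y = 0 := by
      have : (2 : B.F) * y = 0 := by linear_combination -hy
      simpa [h2] using this
    rw [hxy, hx0, hy0, B.coe_eq]
    exact c'.2

theorem N0_eq_bot {A : Subgroup H} (hA : Mem V A) : hyp.N0 = ⊥ := by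
  obtain ⟨D, hD, hT, B, hB⟩ := hyp.exists_special hA
  refine hyp.eq_bot_of_centralised (fun _ h => h.1) ?_ B hB
    fun k hk => hyp.comm_of_N0 hD hT B (hk.2 D hD hT B).1 (hk.2 D hD hT B).2
  refine H75.le_normalizer_of_conj fun s hs g hg => ⟨mul_mem (mul_mem hs hg.1) (inv_mem hs), ?_⟩
  intro E hE hET B'
  have hE' : cj s⁻¹ E ≤ T := cj_le_of_mem (inv_mem hs) hET
  obtain ⟨h1, h2⟩ := hg.2 _ (hE.cn s⁻¹) hE' (B'.conj s⁻¹)
  have hz : (B'.conj s⁻¹).z = s⁻¹ * B'.z * s := by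
    show s⁻¹ * B'.ι (-1) * (s⁻¹)⁻¹ = _
    rw [inv_inv]; rfl
  rw [hz] at h1 h2
  refine ⟨?_, fun v hv => ?_⟩
  · have h3 := congrArg (fun x => s * x * s⁻¹) h1
    simpa [mul_assoc] using h3
  · have h3 := h2 (s⁻¹ • v) (by rw [mul_smul, smul_inv_smul, mul_smul, hv, smul_neg])
    rw [mul_smul, mul_smul, h3, smul_inv_smul]

theorem fix_line_of_U {D : Subgroup H} (hD : Mem V D) (hDT : D ≤ T) :
    hyp.U ≤ ({ carrier := {g | (∀ v ∈ cm (⊤ : AddSubgroup V) D, g • v = v) ∧
        ∀ v, g • v - v ∈ fx V D}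
               one_mem' := ⟨fun v _ => one_smul H v, fun v => by rw [one_smul, sub_self]; exact zero_mem _⟩
               mul_mem' := fun {a b} ha hb => ⟨fun v hv => by rw [mul_smul, hb.1 v hv, ha.1 v hv],
                 fun v => by
                   rw [mul_smul, ← sub_add_sub_cancel _ (b • v)]
                   exact add_mem (ha.2 _) (hb.2 v)⟩
               inv_mem' := fun {a} ha => ⟨fun v hv => by rw [inv_smul_eq_iff, ha.1 v hv], fun v => by
                 have h := neg_mem (ha.2 (a⁻¹ • v))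
                 rwa [smul_inv_smul, neg_sub] at h⟩ } : Subgroup H) := by
  refine sSup_le fun E hE b hb => ?_
  rcases eq_or_ne D E with rfl | hne
  · exact ⟨fun v hv => ln_mem_fx hD.quad hv b hb, hD.quad b hb⟩
  have hc := hyp.members_comm hD hDT hE.1 hE.2
  refine ⟨fun v hv => ?_, hyp.im_mem hD hE.1 hne hc hb⟩
  exact cm_le_iff.2 (fun y hy u _ => hyp.im_mem hE.1 hD hne.symm hc.symm hy u) hv b hb

/-- An element of `T` quadratic on all lines lies in `U`. -/
theorem mem_U {g : H} (hg : g ∈ T) (hex : ∃ A : Subgroup H, Mem V A)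
    (hq : ∀ D, Mem V D → D ≤ T → ∀ v ∈ cm (⊤ : AddSubgroup V) D, g • g • v - g • v = g • v - v) :
    g ∈ hyp.U := by
  classical
  obtain ⟨A, hA⟩ := hex
  suffices key : ∀ s : Finset (Subgroup H), (∀ D ∈ s, Mem V D ∧ D ≤ T) →
      ∃ a ∈ hyp.U, ∀ D ∈ s, ∀ B : Blk V D, (a⁻¹ * g) * B.z = B.z * (a⁻¹ * g) ∧
        ∀ v : V, B.z • v = -v → (a⁻¹ * g) • v = v by
    have hfin := Set.toFinite {D : Subgroup H | Mem V D ∧ D ≤ T}
    obtain ⟨a, ha, hall⟩ := key hfin.toFinset fun D hD => hfin.mem_toFinset.1 hD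
    have h1 : a⁻¹ * g ∈ hyp.N0 := ⟨mul_mem (inv_mem (hyp.U_le ha)) hg, fun D hD hT B =>
      hall D (hfin.mem_toFinset.2 ⟨hD, hT⟩) B⟩
    rw [hyp.N0_eq_bot hA, mem_bot, inv_mul_eq_one] at h1
    exact h1 ▸ ha
  intro s
  induction s using Finset.induction_on with
  | empty => exact fun _ => ⟨1, one_mem _, fun D hD => absurd hD (Finset.notMem_empty D)⟩
  | @insert D s hDs ih =>
    intro hs
    obtain ⟨a, ha, hall⟩ := ih fun E hE => hs E (Finset.mem_insert_of_mem hE)
    obtain ⟨hD, hDT⟩ := hs D (Finset.mem_insert_self D s)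
    obtain ⟨hl, him⟩ := hyp.triv hD hDT hg (hq D hD hDT)
    obtain ⟨hl', him'⟩ := hyp.fix_line_of_U hD hDT (inv_mem ha)
    have h1 : ∀ v ∈ cm (⊤ : AddSubgroup V) D, (a⁻¹ * g) • v = v := fun v hv => by
      rw [mul_smul, hl v hv, hl' v hv]
    have h2 : ∀ v, (a⁻¹ * g) • v - v ∈ fx V D := fun v => by
      rw [mul_smul, ← sub_add_sub_cancel _ (g • v)]
      exact add_mem (him' _) (him v)
    obtain ⟨B⟩ := hyp.exists_blk hD
    obtain ⟨a', ha', g', hg', hcomm, hW⟩ := hyp.split hD B h1 h2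
    refine ⟨a * a', mul_mem ha (hyp.le_U hD hDT ha'), fun E hE B' => ?_⟩
    have hgg : (a * a')⁻¹ * g = a'⁻¹ * (a⁻¹ * g) := by group
    rcases Finset.mem_insert.1 hE with rfl | hEs
    · have hz : B'.z = B.z := hyp.z_unique hD B B'
      have hg'' : (a * a')⁻¹ * g = g' := by rw [hgg, hg', inv_mul_cancel_left]
      rw [hg'', hz]
      refine ⟨hcomm _, fun v hv => ?_⟩
      obtain ⟨x, y, c, rfl⟩ := B.exists_eq v
      rw [B.z_apply, ← map_neg] at hv
      obtain ⟨-, -, hc⟩ := B.inj (a' := -x) (b' := -y) (c' := -c) (hv.trans (by simp))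
      rw [B.eq_zero_of_eq_neg hyp.two hyp.exp hc, hW]
    · obtain ⟨hE1, hE2⟩ := hs E hE
      obtain ⟨hW', hC'⟩ := hyp.pair hE1 B' hD (fun e => hDs (e ▸ hEs)) (hyp.members_comm hE1 hE2 hD hDT)
        a'⁻¹ (inv_mem ha')
      obtain ⟨h3, h4⟩ := hall E hEs B'
      rw [hgg]
      refine ⟨?_, fun v hv => ?_⟩
      · rw [mul_assoc, h3, ← mul_assoc, show a'⁻¹ * B'.z = B'.z * a'⁻¹ from B'.comm_X hW' hC' _,
          mul_assoc]
      · rw [mul_smul, h4 v hv]
        obtain ⟨x, y, c, rfl⟩ := B'.exists_eq v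
        rw [B'.z_apply, ← map_neg] at hv
        obtain ⟨-, -, hc⟩ := B'.inj (a' := -x) (b' := -y) (c' := -c) (hv.trans (by simp))
        rw [B'.eq_zero_of_eq_neg hyp.two hyp.exp hc, hW']

theorem fix_mem_U {g : H} (hg : g ∈ T) (hex : ∃ A : Subgroup H, Mem V A)
    (hfix : ∀ v ∈ fx V hyp.U, g • v = v) : g ∈ hyp.U := by
  refine hyp.mem_U hg hex fun D hD hT v hv => ?_
  have h : v ∈ fx V hyp.U := fun x hx => (hyp.fix_line_of_U hD hT hx).1 v hv
  rw [hfix v h, hfix v h]

theorem ln_le_fxU {D : Subgroup H} (hD : Mem V D) (hT : D ≤ T) :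
    cm (⊤ : AddSubgroup V) D ≤ fx V hyp.U := fun v hv _ hx => (hyp.fix_line_of_U hD hT hx).1 v hv

/-- An abelian offender contains a member. -/
theorem exists_mem_le {A : Subgroup H} (hAT : A ≤ T) (hA : Comm A A) (hne : A ≠ ⊥)
    (hw : Nat.card V ≤ wt V A) : ∃ D, Mem V D ∧ D ≤ A := by
  have hmax : ∀ B : Subgroup H, B ≤ A → wt V B ≤ wt V A := fun B hB =>
    (hyp.wt_le_comm fun a ha b hb => hA a (hB ha) b (hB hb)).trans hw
  obtain ⟨h1, h2⟩ := replacement hyp.exp hA hmax (⊤ : AddSubgroup V)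
  set Y := killer (⊤ : AddSubgroup V) A
  have hY : Quad V Y := fun a ha v b hb => hb.2 _ (smul_sub_mem_cm ha.1 (AddSubgroup.mem_top v))
  have hY0 : Y ≠ ⊥ := by
    intro h0
    rw [h0, fx_bot] at h2
    refine hne (eq_bot_iff.2 fun a ha => mem_bot.2 (eq_of_smul_eq_smul fun v : V => ?_))
    rw [one_smul]
    exact nakayama hyp.exp (hyp.Tp.to_le hAT) (fun _ _ _ _ => AddSubgroup.mem_top _) h2.le
      (AddSubgroup.mem_top v) a ha
  obtain ⟨D, hDY, hD⟩ := Finite.exists_le_minimal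
    (p := fun B : Subgroup H => B ≤ Y ∧ B ≠ ⊥ ∧ Nat.card V ≤ wt V B) (a := Y)
    ⟨le_rfl, hY0, h1 ▸ hw⟩
  exact ⟨D, ⟨hD.prop.2.1, hY.mono hD.prop.1, hD.prop.2.2, fun B hB h0 hne => by
    by_contra hge
    exact hne (le_antisymm hB (hD.le_of_le ⟨hB.trans hD.prop.1, h0, by
      have := hD.prop.2.2; omega⟩ hB))⟩, hD.prop.1.trans (killer_le _ _)⟩

/-- Every abelian offender of `T` lies in `U`. -/
theorem offender_le {A : Subgroup H} (hAT : A ≤ T) (hA : Comm A A) (hw : Nat.card V ≤ wt V A) :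
    A ≤ hyp.U := by
  induction hn : Nat.card A using Nat.strong_induction_on generalizing A with
  | _ n ih =>
  rcases eq_or_ne A ⊥ with rfl | hne
  · exact bot_le
  obtain ⟨D₀, hD₀, -⟩ := hyp.exists_mem_le hAT hA hne hw
  have hmax : ∀ B : Subgroup H, B ≤ A → wt V B ≤ wt V A := fun B hB =>
    (hyp.wt_le_comm fun a ha b hb => hA a (hB ha) b (hB hb)).trans hw
  obtain ⟨h1, -⟩ := replacement hyp.exp hA hmax (⊤ : AddSubgroup V)
  by_cases hq : killer (⊤ : AddSubgroup V) A = A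
  · have hQ : Quad V A := fun a ha v b hb => by
      rw [← hq] at hb
      exact hb.2 _ (smul_sub_mem_cm ha (AddSubgroup.mem_top v))
    intro g hg
    exact hyp.mem_U (hAT hg) ⟨D₀, hD₀⟩ fun D _ _ v _ => by rw [hQ.smul_smul hg hg]; abel
  have hlt : killer (⊤ : AddSubgroup V) A < A := lt_of_le_of_ne (killer_le _ _) hq
  obtain ⟨Y, -, hY⟩ := Finite.exists_le_maximal
    (p := fun B : Subgroup H => B < A ∧ Nat.card V ≤ wt V B) (a := killer (⊤ : AddSubgroup V) A)
    ⟨hlt, h1 ▸ hw⟩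
  have hYA := hY.prop.1.le
  have hYU : Y ≤ hyp.U := ih _ (hn ▸ Set.Finite.card_lt_card (Set.toFinite _)
    (SetLike.coe_ssubset_coe.2 hY.prop.1)) (hYA.trans hAT) (fun a ha b hb => hA a (hYA ha) b (hYA hb))
    hY.prop.2 rfl
  set W := fx V Y
  have hWinv : ∀ a ∈ A, ∀ v ∈ W, a • v ∈ W := fun a ha v hv b hb => by
    rw [← mul_smul, hA b (hYA hb) a ha, mul_smul, hv b hb]
  obtain ⟨h3, h4⟩ := replacement hyp.exp hA hmax W
  have hY2 : Y ≤ killer W A := fun y hy => ⟨hYA hy, fun w hw' =>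
    (cm_le_iff.2 fun a ha u hu => sub_mem (hWinv a ha u hu) hu) hw' y hy⟩
  by_cases hfull : killer W A = A
  · intro g hg
    refine hyp.mem_U (hAT hg) ⟨D₀, hD₀⟩ fun D hD hT v hv => ?_
    have hvW : v ∈ W := fun y hy => (hyp.fix_line_of_U hD hT (hYU hy)).1 v hv
    rw [← smul_sub]
    exact (hfull.ge hg).2 _ (smul_sub_mem_cm hg hvW)
  · exfalso
    have hlt' : killer W A < A := lt_of_le_of_ne (killer_le _ _) hfull
    have heq : killer W A = Y := le_antisymm (hY.le_of_ge ⟨hlt', h3 ▸ hw⟩ hY2) hY2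
    rw [heq] at h4
    have hfix : W ≤ fx V A := nakayama hyp.exp (hyp.Tp.to_le hAT) hWinv h4.le
    have hcard : Nat.card W ≤ Nat.card (fx V A) := AddSubgroup.card_le_of_le hfix
    have hYc : Nat.card Y < Nat.card A := Set.Finite.card_lt_card (Set.toFinite _)
      (SetLike.coe_ssubset_coe.2 hY.prop.1)
    have := hyp.wt_le_comm hA
    have h5 := hY.prop.2
    have h6 : 0 < Nat.card W := Nat.card_pos
    unfold wt at this h5 hw
    have h7 : Nat.card Y * Nat.card W < Nat.card A * Nat.card (fx V A) :=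
      lt_of_lt_of_le (Nat.mul_lt_mul_of_pos_right hYc h6) (Nat.mul_le_mul_left _ hcard)
    exact absurd (lt_of_lt_of_le h7 this) (not_lt.2 h5)

/-- All members in `T` lie in every subgroup containing one and normalised by `T`. -/
theorem U_le_of_normalized {K : Subgroup H} (hKT : K ≤ T) (hn : T ≤ normalizer (K : Set H))
    {A : Subgroup H} (hA : Mem V A) (hAK : A ≤ K) : hyp.U ≤ K := by
  obtain ⟨D₁, hD₁, hT₁, B, hB⟩ := hyp.exists_special hA
  have hconj : ∀ E, Mem V E → E ≤ T → ∃ t ∈ T, cj t E = D₁ := by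
    intro E hE hET
    by_contra hno
    push Not at hno
    set K' := sSup {D | ∃ t ∈ T, cj t E = D}
    have hK'T : K' ≤ T := sSup_le fun D ⟨t, ht, he⟩ => he ▸ cj_le_of_mem ht hET
    have hle : K' ≤ centralizer (B.X : Set H) := by
      refine sSup_le ?_
      rintro D ⟨t, ht, rfl⟩ b hb
      rw [mem_centralizer_iff]
      intro x hx
      obtain ⟨k, rfl⟩ := B.range_eq.ge hx
      obtain ⟨hW, hC⟩ := hyp.pair hD₁ B (hE.cn t) (hno t ht).symm
        (hyp.members_comm hD₁ hT₁ (hE.cn t) (cj_le_of_mem ht hET)) b hb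
      exact (B.comm_X hW hC k).symm
    have hnK : T ≤ normalizer (K' : Set H) := by
      intro s hs
      rw [mem_normalizer_iff_cj]
      refine Subgroup.eq_of_le_of_card_ge ?_ (card_cj s K').ge
      rw [cj_le_iff]
      refine sSup_le ?_
      rintro D ⟨t, ht, rfl⟩
      rw [← cj_le_iff, cj_cj]
      exact le_sSup ⟨s * t, mul_mem hs ht, rfl⟩
    have h0 := hyp.eq_bot_of_centralised hK'T hnK B hB fun k hk g => by
      exact (mem_centralizer_iff.1 (hle hk) _ (B.range_eq.le ⟨g, rfl⟩)).symm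
    exact hE.ne_bot (eq_bot_iff.2 (h0 ▸ le_sSup ⟨1, one_mem _, cj_one E⟩))
  obtain ⟨t, ht, he⟩ := hconj A hA (hAK.trans hKT)
  refine sSup_le fun E hE => ?_
  obtain ⟨s, hs, he'⟩ := hconj E hE.1 hE.2
  rw [← cj_inv_cj s E, he', ← he, cj_cj]
  refine (cj_mono hAK).trans ?_
  rw [mem_normalizer_iff_cj.1 (hn (mul_mem (inv_mem hs) ht))]

/-- A block outside `M` together with `U` has Sylow subgroup `U`. -/
theorem exists_block_sylow {A : Subgroup H} (hA : Mem V A) :
    ∃ (D : Subgroup H) (B : Blk V D), Mem V D ∧ D ≤ T ∧ ¬ B.X ≤ M ∧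
      SylIn p hyp.U (B.X ⊔ hyp.U) ∧ (B.X ⊔ hyp.U = ⊤ → B.X = ⊤) := by
  obtain ⟨D, hD, hDT, B, hB⟩ := hyp.exists_special hA
  refine ⟨D, B, hD, hDT, hB, ?_⟩
  set U' := sSup {E | (Mem V E ∧ E ≤ T) ∧ E ≠ D}
  have hU'U : U' ≤ hyp.U := sSup_le fun E hE => hyp.le_U hE.1.1 hE.1.2
  have hU : hyp.U = D ⊔ U' := le_antisymm (sSup_le fun E hE => by
    rcases eq_or_ne E D with rfl | hne
    · exact le_sup_left
    · exact le_trans (le_sSup (show E ∈ {E | (Mem V E ∧ E ≤ T) ∧ E ≠ D} from ⟨hE, hne⟩))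
        le_sup_right) (sup_le (hyp.le_U hD hDT) hU'U)
  let Z : Subgroup H :=
    { carrier := {b | (∀ g, b * B.ι g = B.ι g * b) ∧ ∀ x y, b • B.e ((x, y), 0) = B.e ((x, y), 0)}
      one_mem' := ⟨fun g => by simp, fun x y => one_smul H _⟩
      mul_mem' := fun {a b} ha hb => ⟨fun g => by rw [mul_assoc, hb.1, ← mul_assoc, ha.1, mul_assoc],
        fun x y => by rw [mul_smul, hb.2, ha.2]⟩
      inv_mem' := fun {a} ha => ⟨fun g => Commute.inv_left (ha.1 g), fun x y => by
        rw [inv_smul_eq_iff, ha.2]⟩ }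
  have hU'Z : U' ≤ Z := sSup_le fun E hE b hb => by
    obtain ⟨hW, hC⟩ := hyp.pair hD B hE.1.1 hE.2.symm (hyp.members_comm hD hDT hE.1.1 hE.1.2) b hb
    exact ⟨B.comm_X hW hC, hW⟩
  have hint : B.X ⊓ U' = ⊥ := by
    rw [eq_bot_iff]
    rintro x ⟨hx, hx'⟩
    obtain ⟨g, rfl⟩ := B.range_eq.ge hx
    refine mem_bot.2 (B.ext_smul fun a b c => ?_)
    have h1 := (hU'Z hx').2 a b
    rw [B.act] at h1
    obtain ⟨h2, h3, -⟩ := B.inj h1
    rw [one_smul, B.act, h2, h3]
  have hDX : D ≤ B.X := fun x hx => by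
    obtain ⟨t, rfl⟩ := B.exists_u hx
    exact B.range_le
  have hXn : B.X ≤ normalizer (U' : Set H) := H75.le_normalizer_of_conj fun x hx u hu => by
    obtain ⟨g, rfl⟩ := B.range_eq.ge hx
    rw [← (hU'Z hu).1 g, mul_inv_cancel_right]
    exact hu
  have hXU : B.X ⊔ hyp.U = B.X ⊔ U' := by rw [hU, ← sup_assoc, sup_eq_left.2 hDX]
  have e1 := H10.card_mul_card_inf hXn
  have e2 := H10.card_mul_card_inf (hDX.trans hXn)
  rw [hint, Subgroup.card_bot, mul_one] at e1
  rw [eq_bot_iff.2 ((inf_le_inf_right U' hDX).trans hint.le), Subgroup.card_bot, mul_one, ← hU] at e2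
  constructor
  · refine ⟨le_sup_right, hyp.Tp.to_le hyp.U_le, fun hd => ?_⟩
    haveI : CharP B.F p := B.charP hyp.exp
    have h1 := Subgroup.relIndex_mul_relIndex ⊥ hyp.U (B.X ⊔ hyp.U) bot_le le_sup_right
    rw [relIndex_bot_left, relIndex_bot_left, mul_comm] at h1
    rw [hXU, e1, e2, B.card_A, ← mul_assoc] at h1
    have hXcard : Nat.card B.X = Nat.card SL(2, B.F) := by
      rw [← B.range_eq]
      refine (Nat.card_congr (MonoidHom.ofInjective (f := B.ι) ?_).toEquiv).symm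
      intro g g' hg
      refine Subtype.ext (Matrix.ext fun i j => ?_)
      have ha := congrArg (· • B.e ((1, 0), 0)) hg
      have hb := congrArg (· • B.e ((0, 1), 0)) hg
      simp only [B.act, mul_one, mul_zero, add_zero, zero_add] at ha hb
      obtain ⟨a1, a2, -⟩ := B.inj ha
      obtain ⟨b1, b2, -⟩ := B.inj hb
      fin_cases i <;> fin_cases j <;> assumption
    have h3 : hyp.U.relIndex (B.X ⊔ U') * Nat.card B.F = Nat.card SL(2, B.F) := by
      rw [← hXcard]
      exact Nat.eq_of_mul_eq_mul_right (Nat.card_pos (α := U')) h1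
    have h4 := (H74.SL2.upperSylow (F := B.F) p).not_dvd_index
    have h5 := (H74.SL2.upper B.F).index_mul_card
    rw [H74.SL2.card_upper, ← h3] at h5
    rw [H74.SL2.coe_upperSylow, Nat.eq_of_mul_eq_mul_right Nat.card_pos h5] at h4
    exact h4 (by simpa [hXU] using hd)
  · intro htop
    have hUc : U' = ⊥ := by
      rw [eq_bot_iff, ← hyp.core]
      refine le_opc le_top (hyp.Tp.to_le (hU'U.trans hyp.U_le)) ?_
      rw [← htop, hXU]
      exact sup_le hXn le_normalizer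
    rwa [hXU, hUc, sup_bot_eq] at htop

end Hyp

end H80.LFF
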