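import Cfsg.Agent.H80.FunctorK
import Cfsg.Agent.H80.LinMain
import Cfsg.Agent.H11.MaxFam
import Cfsg.Agent.H5.Fusion

/-!
A minimal failure as a linear problem on `V = Ω₁ Z(O_p(G))`, and characteristic subgroups of `S`.
-/

set_option autoImplicit false
set_option linter.unusedSectionVars false
set_option linter.style.haveILetI false

open Subgroup H73
open scoped commutatorElement

namespace H80.Focal

universe u

/-- The elements of `A` central in `A` of order dividing `p`. -/
def omz {G : Type*} [Group G] (p : ℕ) (A : Subgroup G) : Subgroup G where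
  carrier := {x | x ∈ A ∧ (∀ a ∈ A, a * x = x * a) ∧ x ^ p = 1}
  one_mem' := ⟨one_mem _, fun a _ => by simp, one_pow p⟩
  mul_mem' := fun {x y} hx hy => ⟨mul_mem hx.1 hy.1, fun a ha => by
    rw [← mul_assoc, hx.2.1 a ha, mul_assoc, hy.2.1 a ha, mul_assoc],
    by rw [(show Commute x y from hy.2.1 x hx.1).mul_pow, hx.2.2, hy.2.2, one_mul]⟩
  inv_mem' := fun {x} hx => ⟨inv_mem hx.1, fun a ha => (Commute.inv_right (hx.2.1 a ha) : _),
    by rw [inv_pow, hx.2.2, inv_one]⟩

section General

variable {G : Type*} [Group G]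

theorem omz_le (p : ℕ) (A : Subgroup G) : omz p A ≤ A := fun _ h => h.1

theorem map_omz {G' : Type*} [Group G'] (f : G →* G') (hf : Function.Injective f) (p : ℕ)
    (A : Subgroup G) : (omz p A).map f = omz p (A.map f) := by
  ext y
  constructor
  · rintro ⟨x, ⟨hx, hc, hp⟩, rfl⟩
    refine ⟨mem_map_of_mem _ hx, ?_, by rw [← map_pow, hp, map_one]⟩
    rintro _ ⟨a, ha, rfl⟩
    rw [← map_mul, hc a ha, map_mul]
  · rintro ⟨⟨x, hx, rfl⟩, hc, hp⟩
    refine ⟨x, ⟨hx, fun a ha => hf ?_, hf (by rw [map_pow, hp, map_one])⟩, rfl⟩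
    rw [map_mul, map_mul, hc _ (mem_map_of_mem _ ha)]

theorem omz_ne_bot [Finite G] {p : ℕ} [Fact p.Prime] {A : Subgroup G} (hA : IsPGroup p A)
    (hne : A ≠ ⊥) : omz p A ≠ ⊥ := by
  haveI := (Subgroup.nontrivial_iff_ne_bot A).2 hne
  haveI := hA.center_nontrivial
  obtain ⟨k, hk, hcard⟩ := (hA.to_subgroup (center A)).nontrivial_iff_card.1 inferInstance
  obtain ⟨x, hx⟩ := exists_prime_orderOf_dvd_card' (G := center A) p (hcard ▸ dvd_pow_self p (by omega))
  intro h0
  have h1 : ((x : A) : G) ∈ omz p A := by
    refine ⟨(x : A).2, fun a ha => congrArg Subtype.val (mem_center_iff.1 x.2 ⟨a, ha⟩), ?_⟩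
    have := congrArg (fun y : center A => ((y : A) : G)) (hx ▸ pow_orderOf_eq_one x : x ^ p = 1)
    simpa using this
  rw [h0, mem_bot] at h1
  have : x = 1 := Subtype.ext (Subtype.ext h1)
  rw [this, orderOf_one] at hx
  exact (Fact.out : p.Prime).ne_one hx.symm

/-- The join of the abelian subgroups of `S` of largest order. -/
def jg (S : Subgroup G) : Subgroup G := (Cfsg.thompsonSubgroupA S).map S.subtype

theorem jg_le (S : Subgroup G) : jg S ≤ S := map_subtype_le _

/-- The centraliser in `S` of `Ω₁ Z(J(S))`. -/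
def bg (p : ℕ) (S : Subgroup G) : Subgroup G := S ⊓ centralizer (omz p (jg S) : Set G)

theorem jg_char (S : Subgroup G) : ((jg S).subgroupOf S).Characteristic := by
  rw [jg, subgroupOf, comap_map_eq_self_of_injective S.subtype_injective]
  exact Subgroup.characteristic_iff_map_eq.2 fun φ => H88.thompsonSubgroupA_equiv φ

theorem bg_char (p : ℕ) (S : Subgroup G) : ((bg p S).subgroupOf S).Characteristic := by
  have h : (bg p S).subgroupOf S =
      centralizer ((omz p (Cfsg.thompsonSubgroupA S) : Subgroup S) : Set S) := by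
    ext x
    have e : omz p (jg S) = (omz p (Cfsg.thompsonSubgroupA S)).map S.subtype :=
      (map_omz S.subtype S.subtype_injective p _).symm
    rw [mem_subgroupOf, bg, mem_inf, mem_centralizer_iff, mem_centralizer_iff, e]
    constructor
    · rintro ⟨-, h⟩ y hy
      exact Subtype.ext (h _ (mem_map_of_mem _ hy))
    · intro h
      refine ⟨x.2, ?_⟩
      rintro _ ⟨y, hy, rfl⟩
      exact congrArg Subtype.val (h y hy)
  rw [h]
  refine Subgroup.characteristic_iff_map_eq.2 fun φ => ?_
  rw [H73.map_centralizer_equiv, map_omz φ.toMonoidHom φ.injective,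
    H88.thompsonSubgroupA_equiv φ]

theorem omz_char (p : ℕ) (S : Subgroup G) : ((omz p S).subgroupOf S).Characteristic := by
  have e : (omz p (⊤ : Subgroup S)).map S.subtype = omz p S := by
    rw [map_omz S.subtype S.subtype_injective, ← MonoidHom.range_eq_map, Subgroup.range_subtype]
  rw [← e, subgroupOf, comap_map_eq_self_of_injective S.subtype_injective]
  refine Subgroup.characteristic_iff_map_eq.2 fun φ => ?_
  rw [map_omz φ.toMonoidHom φ.injective, map_top_of_surjective _ φ.surjective]

theorem char_normalizer {S K : Subgroup G} (hK : K ≤ S) (hc : (K.subgroupOf S).Characteristic) :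
    normalizer (S : Set G) ≤ normalizer (K : Set G) := by
  intro g hg
  rw [mem_normalizer_iff_cj] at hg ⊢
  let φ : S ≃* S := (S.equivMapOfInjective _ (MulAut.conj g).injective).trans (MulEquiv.subgroupCongr hg)
  have h1 := congrArg (Subgroup.map S.subtype) (Subgroup.characteristic_iff_map_eq.1 hc φ)
  rw [Subgroup.map_map, map_subgroupOf_eq_of_le hK] at h1
  conv_rhs => rw [← h1]
  conv_lhs => rw [← map_subgroupOf_eq_of_le hK, cj, Subgroup.map_map]
  rfl

/-- The action of `G ⧸ C_G(V)` on a normal abelian subgroup `V`. -/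
noncomputable def quotAct (V : Subgroup G) [V.Normal] : (G ⧸ centralizer (V : Set G)) →* MulAut V :=
  QuotientGroup.lift _ MulAut.conjNormal fun g hg => MulEquiv.ext fun v => Subtype.ext (by
    simp only [MulAut.conjNormal_apply, MulAut.one_apply]
    rw [← mem_centralizer_iff.1 hg v v.2, mul_inv_cancel_right])

/-- The additive action. -/
@[reducible] noncomputable def quotDMA (V : Subgroup G) [V.Normal] [IsMulCommutative V] :
    DistribMulAction (G ⧸ centralizer (V : Set G)) (Additive V) where
  smul h v := Additive.ofMul (quotAct V h v.toMul)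
  one_smul v := by
    show Additive.ofMul (quotAct V 1 v.toMul) = v
    rw [map_one]; rfl
  mul_smul a b v := by
    show Additive.ofMul (quotAct V (a * b) v.toMul) = Additive.ofMul (quotAct V a (quotAct V b v.toMul))
    rw [map_mul]; rfl
  smul_zero h := by
    show Additive.ofMul (quotAct V h 1) = 0
    rw [map_one]; rfl
  smul_add h u v := by
    show Additive.ofMul (quotAct V h (u.toMul * v.toMul)) = _
    rw [map_mul]; rfl

end General

end H80.Focal
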