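import Cfsg.Agent.H80.FocalEnd

/-!
For odd `p` all functors together control transfer.
-/

set_option autoImplicit false
set_option linter.unusedSectionVars false
set_option linter.style.haveILetI false

open Subgroup H73
open scoped commutatorElement MatrixGroups IsMulCommutative

namespace H80.Focal

universe u

variable {G : Type u} [Group G] [Finite G] {p : ℕ} [Fact p.Prime]

theorem Fail.absurd' {S : Sylow p G} (h : Fail S) : False := by
  set Q := Cfsg.pCore p G with hQ
  set V := omz p Q with hV
  haveI : V.Normal := V_normal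
  haveI : IsMulCommutative V := H11.isMulCommutative_of_commute fun a ha b hb => hb.2.1 a ha.1
  obtain ⟨F, _, _, n, hn, hF, _, ⟨e⟩⟩ := h.exists_quot V hV
  let q : G →* Matrix.ProjectiveSpecialLinearGroup (Fin 2) F :=
    ((QuotientGroup.mk' _).comp e.toMonoidHom).comp (QuotientGroup.mk' (centralizer (V : Set G)))
  have hq : Function.Surjective q :=
    (QuotientGroup.mk'_surjective _).comp (e.surjective.comp (QuotientGroup.mk'_surjective _))
  obtain ⟨-, hnat⟩ := Cfsg.Agent.S2764.result S h.fail.constrained h.existsUnique_coatom q.ker F n hn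
    hF ⟨QuotientGroup.quotientKerEquivOfSurjective q hq⟩ (fun T hT hTc hTn => by
      refine h.not_normal_char (map_subtype_le T) ?_ ?_ (normalizer_eq_top_iff.2 hTn)
      · rw [subgroupOf, comap_map_eq_self_of_injective (S : Subgroup G).subtype_injective]
        exact hTc
      · rw [ne_eq, Subgroup.map_eq_bot_iff_of_injective _ (S : Subgroup G).subtype_injective]
        exact hT)
  obtain ⟨x, hx, hxQ⟩ := SetLike.not_le_iff_exists.1 (fun hle : (S : Subgroup G) ≤ Q =>
    h.fail.notNormal (by rw [le_antisymm hle h.QS]; exact H1.pCore_normal' p G))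
  obtain ⟨U, W, hUW, hUQ, hbad⟩ := h.fail.exists_bad allFun_sound allFun_nonempty hx hxQ
  haveI := hUW.2.2.1
  have hp : 2 ≤ p - 1 := by
    have := (Fact.out : p.Prime).two_le
    have := h.two
    omega
  refine hbad ?_
  by_cases hcen : ⁅U, (⊤ : Subgroup G)⁆ ≤ W
  · obtain ⟨m, hm⟩ : ∃ m, p - 1 = m + 1 := ⟨p - 2, by omega⟩
    rw [hm]
    clear hm
    induction m with
    | zero => exact (commutator_mono le_rfl le_top).trans hcen
    | succ m ih => exact (commutator_mono ih le_rfl).trans (commutator_le_left _ _)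
  · exact iter_le_of_natural hUW.2.1 (hnat U W hUQ hUW hcen)
      (S.2.to_le (zpowers_le.2 hx)) hp

/-- All functors together control transfer. -/
theorem ctl_allFun (hp : p ≠ 2) : ∀ (X : Type u) [Group X] [Finite X], Ctl (allFun.{u} p) p X := by
  suffices key : ∀ n, ∀ (X : Type u) [Group X] [Finite X], Nat.card X = n → Ctl (allFun.{u} p) p X
    from fun X _ _ => key _ X rfl
  intro n
  induction n using Nat.strong_induction_on with
  | _ n ih =>
  intro X _ _ hn
  obtain ⟨S⟩ : Nonempty (Sylow p X) := inferInstance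
  rw [ctl_iff allFun_sound S]
  by_contra hfail
  have hsub : ∀ H : Subgroup X, H ≠ ⊤ → Ctl (allFun.{u} p) p H := fun H hH =>
    ih _ (hn ▸ lt_of_le_of_ne (Subgroup.card_le_card_group H)
      (fun e => hH (Subgroup.eq_top_of_card_eq H e))) _ rfl
  refine Fail.absurd' ⟨hp, tFailure_of_not allFun_sound allFun_nonempty hsub (fun N _ hN => ?_) S hfail, hsub⟩
  refine ih _ ?_ _ rfl
  rw [← hn, Subgroup.card_eq_card_quotient_mul_card_subgroup N]
  exact lt_mul_of_one_lt_right Nat.card_pos (Subgroup.one_lt_card_iff_ne_bot _ |>.mpr hN)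

/-- The focal subgroup is generated by the normalisers of the characteristic subgroups. -/
theorem inf_commutator_eq (hp : p ≠ 2) (S : Sylow p G) (hS : (S : Subgroup G) ≠ ⊥) :
    (S : Subgroup G) ⊓ commutator G = ⨆ K : {K : Subgroup ↥(S : Subgroup G) // K ≠ ⊥ ∧ K.Characteristic},
      (S : Subgroup G) ⊓
        ⁅normalizer ((((K : Subgroup ↥(S : Subgroup G))).map (S : Subgroup G).subtype : Subgroup G) : Set G),
          normalizer ((((K : Subgroup ↥(S : Subgroup G))).map (S : Subgroup G).subtype : Subgroup G) : Set G)⁆ := by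
  refine le_antisymm (((ctl_iff allFun_sound S).1 (ctl_allFun hp G)).trans ?_)
    (iSup_le fun K => inf_le_inf_left _ (commutator_mono le_top le_top))
  refine iSup₂_le fun W hW => ?_
  obtain ⟨K, hKc, hK⟩ := functor_char_trans hW S.2 le_rfl (by
    rw [subgroupOf_self]; infer_instance)
  have hne : K ≠ ⊥ := by
    intro h0
    refine (isConjugacyFunctor_inducedFunctor (allFun_sound W hW) G (S : Subgroup G) S.2).2.1 hS ?_
    rw [← hK, h0, Subgroup.map_bot]
  rw [← hK]
  exact le_iSup (fun K : {K : Subgroup ↥(S : Subgroup G) // K ≠ ⊥ ∧ K.Characteristic} =>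
    (S : Subgroup G) ⊓
      ⁅normalizer ((((K : Subgroup ↥(S : Subgroup G))).map (S : Subgroup G).subtype : Subgroup G) : Set G),
        normalizer ((((K : Subgroup ↥(S : Subgroup G))).map (S : Subgroup G).subtype : Subgroup G) : Set G)⁆)
    ⟨K, hne, hKc⟩

end H80.Focal
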