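import Cfsg.Agent.H73.TransferFailure
import Cfsg.Agent.H87.CharAutTrivial

/-!
The family of all isomorphism-invariant functors on `p`-groups.
-/

set_option autoImplicit false

namespace H80.Focal

open Subgroup H73

universe u

/-- All functors. -/
def allFun (p : ℕ) : Set (∀ (Q : Type u) [Group Q], Subgroup Q) := {W | Cfsg.IsCharPFunctor.{u} p W}

variable {p : ℕ} [Fact p.Prime]

open Classical in
/-- A functor with a prescribed value. -/
noncomputable def presc {S : Type u} [Group S] (K : Subgroup S) :
    ∀ (Q : Type u) [Group Q], Subgroup Q :=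
  fun Q _ => if h : Nonempty (S ≃* Q) then K.map h.some.toMonoidHom else Subgroup.center Q

theorem presc_eq {S : Type u} [Group S] (K : Subgroup S) [K.Characteristic] {Q : Type u} [Group Q]
    (e : S ≃* Q) : presc K Q = K.map e.toMonoidHom := by
  have h : Nonempty (S ≃* Q) := ⟨e⟩
  rw [presc, dif_pos h]
  have h1 : K.map (h.some.trans e.symm).toMonoidHom = K :=
    Subgroup.characteristic_iff_map_eq.1 inferInstance _
  conv_rhs => rw [← h1, Subgroup.map_map]
  congr 1
  ext x
  simp

theorem presc_isCharPFunctor {S : Type u} [Group S] (K : Subgroup S) [K.Characteristic]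
    (hK : K ≠ ⊥) : Cfsg.IsCharPFunctor.{u} p (presc K) := by
  classical
  refine ⟨fun Q _ _ hQ hne => ?_, fun Q R _ _ _ hQ φ => ?_⟩
  · by_cases h : Nonempty (S ≃* Q)
    · rw [presc_eq K h.some]
      exact fun he => hK ((Subgroup.map_eq_bot_iff_of_injective _ h.some.injective).1 he)
    · rw [presc, dif_neg h]
      haveI := hQ.center_nontrivial
      exact (Subgroup.nontrivial_iff_ne_bot _).1 inferInstance
  · by_cases h : Nonempty (S ≃* Q)
    · rw [presc_eq K h.some, presc_eq K (h.some.trans φ), Subgroup.map_map]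
      rfl
    · have h' : ¬ Nonempty (S ≃* R) := fun ⟨e⟩ => h ⟨e.trans φ.symm⟩
      rw [presc, presc, dif_neg h, dif_neg h']
      refine le_antisymm (Subgroup.map_le_iff_le_comap.2 fun x hx => ?_) fun x hx => ?_
      · refine Subgroup.mem_center_iff.2 fun y => ?_
        have h1 := congrArg φ (Subgroup.mem_center_iff.1 hx (φ.symm y))
        simpa using h1
      · refine ⟨φ.symm x, Subgroup.mem_center_iff.2 fun y => φ.injective ?_, φ.apply_symm_apply x⟩
        simpa using Subgroup.mem_center_iff.1 hx (φ y)

omit [Fact p.Prime] in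
theorem allFun_sound : ∀ W ∈ allFun.{u} p, Cfsg.IsCharPFunctor.{u} p W := fun _ h => h

theorem allFun_nonempty : (allFun.{u} p).Nonempty :=
  ⟨presc (⊤ : Subgroup (ULift.{u} (Multiplicative (ZMod p)))), presc_isCharPFunctor _ fun h => by
    haveI : Nontrivial (ULift.{u} (Multiplicative (ZMod p))) := inferInstance
    exact top_ne_bot h⟩

theorem exists_functor {G : Type u} [Group G] {S : Subgroup G} {K : Subgroup ↥S}
    (hc : K.Characteristic) (hK : K ≠ ⊥) :
    ∃ W ∈ allFun.{u} p, Cfsg.inducedFunctor W S = K.map S.subtype := by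
  refine ⟨presc K, presc_isCharPFunctor K hK, ?_⟩
  rw [Cfsg.inducedFunctor, presc_eq K (MulEquiv.refl _)]
  congr 1
  exact Subgroup.map_id K

omit [Fact p.Prime] in
theorem functor_char {W : ∀ (Q : Type u) [Group Q], Subgroup Q} (hW : W ∈ allFun.{u} p) {Q : Type u}
    [Group Q] [Finite Q] (hQ : IsPGroup p Q) : (W Q).Characteristic :=
  Subgroup.characteristic_iff_map_eq.2 fun φ => hW.2 Q Q hQ φ

/-- The functor value of a characteristic subgroup is characteristic. -/
theorem functor_char_trans {W : ∀ (Q : Type u) [Group Q], Subgroup Q} (hW : W ∈ allFun.{u} p)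
    {G : Type u} [Group G] [Finite G] {S B : Subgroup G} (hS : IsPGroup p S) (hBS : B ≤ S)
    (hB : (B.subgroupOf S).Characteristic) :
    ∃ K : Subgroup ↥S, K.Characteristic ∧ K.map S.subtype = Cfsg.inducedFunctor W B := by
  refine ⟨Cfsg.inducedFunctor W (B.subgroupOf S), Subgroup.characteristic_iff_map_eq.2 fun φ => ?_, ?_⟩
  · rw [map_inducedFunctor hW φ.toMonoidHom φ.injective (hS.to_subgroup _),
      Subgroup.characteristic_iff_map_eq.1 hB φ]
  · rw [map_inducedFunctor hW S.subtype S.subtype_injective (hS.to_subgroup _),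
      Subgroup.map_subgroupOf_eq_of_le hBS]

end H80.Focal
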