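import Cfsg.Agent.H10.Offender
import Cfsg.Agent.H78.BlockSec
import Cfsg.Agent.H73.Conj

/-!
Quadratic offenders for an action on an additive group `V`: weights, the semidirect product used
to quote multiplicative results, and the replacement lemma.
-/

set_option autoImplicit false
set_option linter.unusedSectionVars false

open Subgroup H73
open scoped commutatorElement

namespace H80.LFF

variable {H : Type*} [Group H] {V : Type*} [AddCommGroup V] [DistribMulAction H V]

/-- Fixed points. -/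
def fx (V : Type*) [AddCommGroup V] [DistribMulAction H V] (A : Subgroup H) : AddSubgroup V where
  carrier := {v | ∀ a ∈ A, a • v = v}
  zero_mem' := fun a _ => smul_zero a
  add_mem' := fun hu hv a ha => by rw [smul_add, hu a ha, hv a ha]
  neg_mem' := fun hu a ha => by rw [smul_neg, hu a ha]

theorem mem_fx {A : Subgroup H} {v : V} : v ∈ fx V A ↔ ∀ a ∈ A, a • v = v := Iff.rfl

theorem fx_anti {A B : Subgroup H} (h : A ≤ B) : fx V B ≤ fx V A := fun _ hv a ha => hv a (h ha)

theorem fx_bot : fx V (⊥ : Subgroup H) = ⊤ := by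
  refine eq_top_iff.2 fun v _ a ha => ?_
  rw [mem_bot.1 ha, one_smul]

theorem mem_fx_sup {A B : Subgroup H} {v : V} :
    v ∈ fx V (A ⊔ B) ↔ v ∈ fx V A ∧ v ∈ fx V B := by
  refine ⟨fun h => ⟨fx_anti le_sup_left h, fx_anti le_sup_right h⟩, fun ⟨hA, hB⟩ a ha => ?_⟩
  have h1 : A ⊔ B ≤ MulAction.stabilizer H v := sup_le hA hB
  exact h1 ha

theorem smul_fx_mem {A : Subgroup H} {g : H} (hg : ∀ a ∈ A, g⁻¹ * a * g ∈ A) {v : V}
    (hv : v ∈ fx V A) : g • v ∈ fx V A := fun a ha => by
  rw [← mul_smul, show a * g = g * (g⁻¹ * a * g) by group, mul_smul, hv _ (hg a ha)]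

/-- `|A| |C_V(A)|`. -/
noncomputable def wt (V : Type*) [AddCommGroup V] [DistribMulAction H V] (A : Subgroup H) : ℕ :=
  Nat.card A * Nat.card (fx V A)

theorem wt_bot : wt V (⊥ : Subgroup H) = Nat.card V := by
  rw [wt, Subgroup.card_bot, one_mul, fx_bot, AddSubgroup.card_top]

/-- A subgroup acting quadratically. -/
def Quad (V : Type*) [AddCommGroup V] [DistribMulAction H V] (A : Subgroup H) : Prop :=
  ∀ a ∈ A, ∀ v : V, a • v - v ∈ fx V A

theorem Quad.mono {A B : Subgroup H} (h : Quad V A) (hle : B ≤ A) : Quad V B :=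
  fun a ha v => fx_anti hle (h a (hle ha) v)

theorem Quad.smul_smul {A : Subgroup H} (h : Quad V A) {a b : H} (ha : a ∈ A) (hb : b ∈ A) (v : V) :
    a • b • v = a • v + (b • v - v) := by
  conv_lhs => rw [show b • v = v + (b • v - v) by abel, smul_add, h b hb v a ha]

theorem Quad.comm [FaithfulSMul H V] {A : Subgroup H} (h : Quad V A) {a b : H} (ha : a ∈ A)
    (hb : b ∈ A) : a * b = b * a :=
  eq_of_smul_eq_smul fun v : V => by
    rw [mul_smul, mul_smul, h.smul_smul ha hb, h.smul_smul hb ha]; abel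

theorem Quad.pow_smul {A : Subgroup H} (h : Quad V A) {a : H} (ha : a ∈ A) (v : V) (n : ℕ) :
    a ^ n • v = v + n • (a • v - v) := by
  induction n with
  | zero => simp
  | succ n ih => rw [pow_succ, mul_smul, h.smul_smul (pow_mem ha n) ha, ih, succ_nsmul]; abel

theorem Quad.pow_eq_one [FaithfulSMul H V] {p : ℕ} (hV : ∀ v : V, p • v = 0) {A : Subgroup H}
    (h : Quad V A) {a : H} (ha : a ∈ A) : a ^ p = 1 :=
  eq_of_smul_eq_smul fun v : V => by rw [h.pow_smul ha, hV, add_zero, one_smul]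

theorem Quad.elementary [FaithfulSMul H V] {p : ℕ} [Fact p.Prime] (hV : ∀ v : V, p • v = 0)
    {A : Subgroup H} (h : Quad V A) : Cfsg.IsElementaryAbelian p A :=
  ⟨⟨⟨fun a b => Subtype.ext (h.comm a.2 b.2)⟩⟩, fun _ ha => h.pow_eq_one hV ha⟩

theorem Quad.isPGroup [FaithfulSMul H V] {p : ℕ} [Fact p.Prime] (hV : ∀ v : V, p • v = 0)
    {A : Subgroup H} (h : Quad V A) : IsPGroup p A := fun a =>
  ⟨1, Subtype.ext (by rw [pow_one, Subgroup.coe_pow, h.pow_eq_one hV a.2, Subgroup.coe_one])⟩

/-- A minimal offender. -/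
structure Mem (V : Type*) [AddCommGroup V] [DistribMulAction H V] (A : Subgroup H) : Prop where
  ne_bot : A ≠ ⊥
  quad : Quad V A
  off : Nat.card V ≤ wt V A
  strict : ∀ B : Subgroup H, B ≤ A → B ≠ ⊥ → B ≠ A → wt V B < wt V A

/-! ### Conjugation -/

theorem smul_mem_fx_cn {g : H} {A : Subgroup H} {v : V} :
    g • v ∈ fx V (cj g A) ↔ v ∈ fx V A := by
  constructor
  · intro h a ha
    have h1 := h _ ((conj_mem_cj (g := g)).2 ha)
    rwa [mul_smul, inv_smul_smul, mul_smul, smul_left_cancel_iff] at h1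
  · intro h x hx
    have h1 := h _ (mem_cj.1 hx)
    rwa [mul_smul, mul_smul, inv_smul_eq_iff] at h1

theorem card_fx_cn (g : H) (A : Subgroup H) : Nat.card (fx V (cj g A)) = Nat.card (fx V A) :=
  (Nat.card_congr (Equiv.subtypeEquiv (MulAction.toPerm g) fun _ => smul_mem_fx_cn.symm)).symm

theorem wt_cn (g : H) (A : Subgroup H) : wt V (cj g A) = wt V A := by
  rw [wt, wt, card_cj, card_fx_cn]

theorem Quad.cn {A : Subgroup H} (h : Quad V A) (g : H) : Quad V (cj g A) := fun x hx v => by
  have h1 := h _ (mem_cj.1 hx) (g⁻¹ • v)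
  have h2 : g • ((g⁻¹ * x * g) • g⁻¹ • v - g⁻¹ • v) = x • v - v := by
    simp [smul_sub, ← mul_smul, mul_assoc]
  exact h2 ▸ smul_mem_fx_cn.2 h1

theorem Mem.cn {A : Subgroup H} (h : Mem V A) (g : H) : Mem V (cj g A) where
  ne_bot h0 := h.ne_bot (by rw [← cj_inv_cj g A, h0]; exact map_bot _)
  quad := Quad.cn h.quad g
  off := by rw [wt_cn]; exact h.off
  strict B hB h0 h1 := by
    have h2 := h.strict (cj g⁻¹ B) ((cj_mono hB).trans (cj_inv_cj g A).le)
      (fun e => h0 (by rw [← cj_inv_cj g⁻¹ B, e]; exact map_bot _))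
      (fun e => h1 (by rw [← cj_inv_cj g⁻¹ B, e, inv_inv]))
    rwa [wt_cn, ← wt_cn g A] at h2

/-! ### The semidirect product -/

section Semi

variable (H V)

/-- The action on the multiplicative copy of `V`. -/
def toAut : H →* MulAut (Multiplicative V) where
  toFun h := AddEquiv.toMultiplicative (DistribMulAction.toAddEquiv V h)
  map_one' := MulEquiv.ext fun v => one_smul H v.toAdd
  map_mul' g h := MulEquiv.ext fun v => mul_smul g h v.toAdd

/-- The semidirect product. -/
abbrev SD : Type _ := Multiplicative V ⋊[toAut H V] H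

/-- The copy of `V`. -/
abbrev base : Subgroup (SD H V) := (SemidirectProduct.inl (φ := toAut H V)).range

variable {H V}

/-- An element of `V` in the semidirect product. -/
abbrev iv (H : Type*) [Group H] {V : Type*} [AddCommGroup V] [DistribMulAction H V] (v : V) : SD H V := SemidirectProduct.inl (Multiplicative.ofAdd v)

/-- An element of `H` in the semidirect product. -/
abbrev ih (V : Type*) [AddCommGroup V] [DistribMulAction H V] (a : H) : SD H V := SemidirectProduct.inr a

/-- The copy of a subgroup of `H`. -/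
abbrev up (V : Type*) [AddCommGroup V] [DistribMulAction H V] (A : Subgroup H) : Subgroup (SD H V) :=
  A.map (SemidirectProduct.inr (φ := toAut H V))

theorem conj_iv (a : H) (v : V) : ih V a * iv H v * (ih V a)⁻¹ = iv H (a • v) := by
  rw [← map_inv, ← SemidirectProduct.inl_aut]
  rfl

theorem iv_sub (u v : V) : (iv H (u - v) : SD H V) = iv H u * (iv H v)⁻¹ := by
  rw [← map_inv, ← map_mul, sub_eq_add_neg]
  rfl

theorem comm_ih_iv (a : H) (v : V) : ⁅(ih V a : SD H V), iv H v⁆ = iv H (a • v - v) := by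
  rw [commutatorElement_def, conj_iv, iv_sub]

theorem iv_mem_centralizer {A : Subgroup H} {v : V} :
    (iv H v : SD H V) ∈ centralizer (up V A : Set (SD H V)) ↔ v ∈ fx V A := by
  rw [mem_centralizer_iff]
  constructor
  · intro h a ha
    have h1 := h (ih V a) (mem_map_of_mem _ ha)
    have h2 : (iv H (a • v) : SD H V) = iv H v := by rw [← conj_iv, h1, mul_inv_cancel_right]
    exact Multiplicative.ofAdd.injective (SemidirectProduct.inl_injective h2)
  · rintro h _ ⟨a, ha, rfl⟩
    have h1 := conj_iv a v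
    rw [h a ha] at h1
    exact mul_inv_eq_iff_eq_mul.1 h1

theorem card_base_inf (A : Subgroup H) :
    Nat.card ↥(base H V ⊓ centralizer (up V A : Set (SD H V))) = Nat.card (fx V A) :=
  (Nat.card_congr (Equiv.ofBijective
    (fun v : fx V A => (⟨iv H (v : V), ⟨_, rfl⟩, iv_mem_centralizer.2 v.2⟩ :
      ↥(base H V ⊓ centralizer (up V A : Set (SD H V)))))
    ⟨fun u v huv => Subtype.ext (Multiplicative.ofAdd.injective
      (SemidirectProduct.inl_injective (congrArg Subtype.val huv))),
    fun x => by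
      obtain ⟨⟨w, hw⟩, hc⟩ := x.2
      exact ⟨⟨w.toAdd, iv_mem_centralizer.1 (by rw [iv, ofAdd_toAdd, hw]; exact hc)⟩,
        Subtype.ext ((congrArg SemidirectProduct.inl (ofAdd_toAdd w)).trans hw)⟩⟩)).symm

theorem offWeight_up (A : Subgroup H) : H10.offWeight (base H V) (up V A) = wt V A := by
  rw [H10.offWeight, card_base_inf, wt]
  congr 1
  exact (Nat.card_congr (A.equivMapOfInjective _ SemidirectProduct.inr_injective).toEquiv).symm

theorem base_elementary {p : ℕ} [Fact p.Prime] (hV : ∀ v : V, p • v = 0) :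
    Cfsg.IsElementaryAbelian p (base H V) := by
  refine ⟨⟨⟨?_⟩⟩, ?_⟩
  · rintro ⟨_, u, rfl⟩ ⟨_, v, rfl⟩
    exact Subtype.ext (by show SemidirectProduct.inl u * SemidirectProduct.inl v = _ * _; rw [← map_mul, mul_comm, map_mul])
  · rintro _ ⟨u, rfl⟩
    rw [← map_pow, show u ^ p = Multiplicative.ofAdd (p • u.toAdd) from rfl, hV, ofAdd_zero, map_one]

theorem up_le_normalizer (A : Subgroup H) : up V A ≤ normalizer (base H V : Set (SD H V)) := by
  refine le_normalizer_iff.mpr ?_
  rintro _ ⟨a, _, rfl⟩ _ ⟨v, rfl⟩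
  exact ⟨Multiplicative.ofAdd (a • v.toAdd), (conj_iv a v.toAdd).symm⟩

/-- The subgroup generated by the differences `a • u - u`. -/
def cm (U : AddSubgroup V) (A : Subgroup H) : AddSubgroup V :=
  AddSubgroup.closure {x | ∃ a ∈ A, ∃ u ∈ U, a • u - u = x}

theorem smul_sub_mem_cm {U : AddSubgroup V} {A : Subgroup H} {a : H} (ha : a ∈ A) {u : V}
    (hu : u ∈ U) : a • u - u ∈ cm U A := AddSubgroup.subset_closure ⟨a, ha, u, hu, rfl⟩

theorem cm_le_iff {U W : AddSubgroup V} {A : Subgroup H} :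
    cm U A ≤ W ↔ ∀ a ∈ A, ∀ u ∈ U, a • u - u ∈ W :=
  ⟨fun h a ha u hu => h (smul_sub_mem_cm ha hu),
    fun h => (AddSubgroup.closure_le W).2 (by rintro _ ⟨a, ha, u, hu, rfl⟩; exact h a ha u hu)⟩

/-- The copy in the semidirect product of a subgroup of `V`. -/
abbrev upV (U : AddSubgroup V) : Subgroup (SD H V) :=
  (AddSubgroup.toSubgroup U).map (SemidirectProduct.inl (φ := toAut H V))

theorem iv_mem_upV {U : AddSubgroup V} {v : V} : (iv H v : SD H V) ∈ upV U ↔ v ∈ U := by
  constructor
  · rintro ⟨w, hw, he⟩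
    rwa [SemidirectProduct.inl_injective he] at hw
  · exact fun h => ⟨_, h, rfl⟩

/-- The subgroup of `A` fixing the differences of `U`. -/
def killer (U : AddSubgroup V) (A : Subgroup H) : Subgroup H where
  carrier := {a | a ∈ A ∧ ∀ w ∈ cm U A, a • w = w}
  one_mem' := ⟨one_mem _, fun w _ => one_smul H w⟩
  mul_mem' := fun ha hb => ⟨mul_mem ha.1 hb.1, fun w hw => by rw [mul_smul, hb.2 w hw, ha.2 w hw]⟩
  inv_mem' := fun ha => ⟨inv_mem ha.1, fun w hw => by rw [inv_smul_eq_iff, ha.2 w hw]⟩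

theorem killer_le (U : AddSubgroup V) (A : Subgroup H) : killer U A ≤ A := fun _ h => h.1

/-- Thompson replacement. -/
theorem replacement [Finite H] [Finite V] [FaithfulSMul H V] {p : ℕ} [Fact p.Prime]
    (hV : ∀ v : V, p • v = 0) {A : Subgroup H} (hab : ∀ a ∈ A, ∀ b ∈ A, a * b = b * a)
    (hmax : ∀ B : Subgroup H, B ≤ A → wt V B ≤ wt V A) (U : AddSubgroup V) :
    wt V (killer U A) = wt V A ∧ fx V (killer U A) = cm U A ⊔ fx V A := by
  have hcomm : ∀ x ∈ ⁅upV (H := H) U, up V A⁆, ∃ w ∈ cm U A, x = iv H w := by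
    suffices h : ⁅upV (H := H) U, up V A⁆ ≤ upV (cm U A) from fun x hx => by
      obtain ⟨w, hw, rfl⟩ := h hx
      exact ⟨w.toAdd, hw, rfl⟩
    refine Subgroup.commutator_le.2 ?_
    rintro _ ⟨u, hu, rfl⟩ _ ⟨a, ha, rfl⟩
    rw [← commutatorElement_inv]
    exact inv_mem ((comm_ih_iv a u.toAdd).symm ▸ iv_mem_upV.2 (smul_sub_mem_cm ha hu))
  have hcomm' : ∀ w ∈ cm U A, (iv H w : SD H V) ∈ ⁅upV (H := H) U, up V A⁆ := by
    let W : AddSubgroup V :=
      { carrier := {w | (iv H w : SD H V) ∈ ⁅upV (H := H) U, up V A⁆}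
        zero_mem' := by simp only [Set.mem_setOf_eq, iv, ofAdd_zero, map_one, one_mem]
        add_mem' := fun hu hv => by
          simp only [Set.mem_setOf_eq, iv, ofAdd_add, map_mul] at *; exact mul_mem hu hv
        neg_mem' := fun hu => by
          simp only [Set.mem_setOf_eq, iv, ofAdd_neg, map_inv] at *; exact inv_mem hu }
    refine (cm_le_iff (W := W)).2 fun a ha u hu => ?_
    change (iv H (a • u - u) : SD H V) ∈ ⁅upV (H := H) U, up V A⁆
    rw [← comm_ih_iv, ← commutatorElement_inv]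
    exact inv_mem (commutator_mem_commutator (iv_mem_upV.2 hu) (mem_map_of_mem _ ha))
  have hker : up V A ⊓ centralizer ((⁅upV (H := H) U, up V A⁆ : Subgroup (SD H V)) : Set (SD H V)) =
      up V (killer U A) := by
    ext x
    constructor
    · rintro ⟨⟨a, ha, rfl⟩, hc⟩
      refine mem_map_of_mem _ ⟨ha, fun w hw => ?_⟩
      have h1 := mem_centralizer_iff.1 hc _ (hcomm' w hw)
      have h2 : (iv H (a • w) : SD H V) = iv H w := by rw [← conj_iv, ← h1, mul_inv_cancel_right]
      exact Multiplicative.ofAdd.injective (SemidirectProduct.inl_injective h2)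
    · rintro ⟨a, ⟨ha, hfix⟩, rfl⟩
      refine ⟨mem_map_of_mem _ ha, mem_centralizer_iff.2 fun y hy => ?_⟩
      obtain ⟨w, hw, rfl⟩ := hcomm y hy
      have h1 := conj_iv a w
      rw [hfix w hw] at h1
      exact (mul_inv_eq_iff_eq_mul.1 h1).symm
  have : Finite (SD H V) := Finite.of_equiv _ SemidirectProduct.equivProd.symm
  obtain ⟨h1, h2⟩ := H10.replacement (base_elementary (H := H) hV) (up_le_normalizer A)
    (by
      have : ⁅up V A, up V A⁆ = ⊥ := by
        rw [← map_commutator, eq_bot_iff, map_le_iff_le_comap, commutator_le]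
        intro a ha b hb
        rw [commutatorElement_eq_one_iff_mul_comm.2 (hab a ha b hb)]
        exact one_mem _
      rw [this]; exact bot_le)
    (by
      intro B hB
      have : B = up V (B.comap SemidirectProduct.inr) := by
        rw [up, map_comap_eq, inf_eq_right.2 (hB.trans (map_le_range _ _))]
      rw [this, offWeight_up, offWeight_up]
      exact hmax _ fun a ha => by
        obtain ⟨b, hb, he⟩ := hB ha
        rwa [← SemidirectProduct.inr_injective he])
    (upV U) (map_le_range _ _)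
  rw [hker] at h1 h2
  refine ⟨by rwa [offWeight_up, offWeight_up] at h1, ?_⟩
  ext v
  constructor
  · intro hv
    have h3 : (iv H v : SD H V) ∈ base H V ⊓ centralizer (up V (killer U A) : Set (SD H V)) :=
      ⟨⟨_, rfl⟩, iv_mem_centralizer.2 hv⟩
    rw [h2] at h3
    have h4 : ⁅upV (H := H) U, up V A⁆ ⊔ (base H V ⊓ centralizer (up V A : Set (SD H V))) ≤
        upV (cm U A ⊔ fx V A) := by
      refine sup_le (fun x hx => ?_) ?_
      · obtain ⟨w, hw, rfl⟩ := hcomm x hx
        exact iv_mem_upV.2 (AddSubgroup.mem_sup_left hw)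
      · rintro _ ⟨⟨w, rfl⟩, hc⟩
        exact (iv_mem_upV (v := w.toAdd)).2 (AddSubgroup.mem_sup_right ((iv_mem_centralizer (v := w.toAdd)).1 hc))
    exact iv_mem_upV.1 (h4 h3)
  · refine fun hv => (sup_le (fun w hw a ha => ha.2 w hw) (fx_anti (killer_le U A))) hv

end Semi

end H80.LFF
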