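import Cfsg.Agent.H7.RankGraph
import Cfsg.Agent.H82.SylowIn
import Cfsg.Agent.H70.PConstrained
import Cfsg.Agent.H70.CharTwoEarly

/-!
The odd signalizer of a Sylow 2-subgroup with `SCN₃` nonempty in a group with 2-constrained 2-locals.
-/

set_option autoImplicit false
set_option linter.style.haveILetI false

namespace H80

open Subgroup H82

universe u

variable {G : Type u} [Group G] [Finite G]

/-- In a `p`-constrained group `O_{p'}(C(x)) ≤ O_{p'}(G)` for every `p`-element `x`. -/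
theorem centralizerPPrimeCore_le_of_constrained {p : ℕ} [Fact p.Prime] (hG : Cfsg.IsPConstrained p G)
    {x : G} (hx : IsPGroup p (Subgroup.zpowers x)) :
    Cfsg.centralizerPPrimeCore p x ≤ Cfsg.pPrimeCore p G := by
  haveI := H1.pPrimeCore_normal' p G
  set N := Subgroup.normalizer ((Subgroup.zpowers x : Subgroup G) : Set G) with hN
  have hmap := H11.pPrimeCore_normalizer (H11.isPConstrained_iff_core.mp hG) (Subgroup.zpowers x) hx
  have hCN : Subgroup.centralizer ({x} : Set G) ≤ N := H7.centralizer_le_normalizer_zpowers x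
  set X := Cfsg.centralizerPPrimeCore p x with hX
  have hXN : X ≤ N := (Subgroup.map_subtype_le _).trans hCN
  haveI hn : (X.subgroupOf N).Normal := by
    refine Subgroup.normal_subgroupOf_of_le_normalizer fun g hg => mem_normalizer_iff_map.2 ?_
    rw [hX, ← H7.centralizerPPrimeCore_conj_eq x g]
    have hz : Subgroup.zpowers (g * x * g⁻¹) = Subgroup.zpowers x := by
      have h1 : (Subgroup.zpowers x).map (MulAut.conj g).toMonoidHom = Subgroup.zpowers x :=
        mem_normalizer_iff_map.1 hg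
      rwa [MonoidHom.map_zpowers] at h1
    have hc : Subgroup.centralizer ({g * x * g⁻¹} : Set G) = Subgroup.centralizer ({x} : Set G) := by
      rw [← H7.centralizer_zpowers, ← H7.centralizer_zpowers, hz]
    exact congrArg (fun K : Subgroup G => (Cfsg.pPrimeCore p K).map K.subtype) hc
  refine le_trans ?_ (hmap.le.trans inf_le_left)
  refine (Subgroup.map_subgroupOf_eq_of_le hXN).ge.trans (Subgroup.map_mono ?_)
  refine H1.le_pPrimeCore ((H1.card_pPrimeCore_coprime p
    ↥(Subgroup.centralizer ({x} : Set G))).coprime_dvd_left ?_)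
  refine (Subgroup.card_comap_dvd_of_injective _ N.subtype N.subtype_injective).trans ?_
  exact Subgroup.card_map_dvd _ _

/-- Balance from the constraint of `C(b)`. -/
theorem balance_of_constrained {p : ℕ} [Fact p.Prime] {a b : G}
    (ha : IsPGroup p (Subgroup.zpowers a)) (hab : a * b = b * a)
    (hb : Cfsg.IsPConstrained p ↥(Subgroup.centralizer ({b} : Set G))) :
    Cfsg.centralizerPPrimeCore p a ⊓ Subgroup.centralizer {b} ≤ Cfsg.centralizerPPrimeCore p b := by
  set Cb := Subgroup.centralizer ({b} : Set G)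
  set D := Cfsg.centralizerPPrimeCore p a ⊓ Cb
  have haCb : a ∈ Cb := Subgroup.mem_centralizer_singleton_iff.mpr hab
  set a' : Cb := ⟨a, haCb⟩ with ha'
  have ha'p : IsPGroup p (Subgroup.zpowers a') := by
    rintro ⟨y, hy⟩
    obtain ⟨i, rfl⟩ := Subgroup.mem_zpowers_iff.1 hy
    obtain ⟨k, hk⟩ := ha ⟨a ^ i, Subgroup.zpow_mem_zpowers a i⟩
    refine ⟨k, Subtype.ext (Subtype.ext ?_)⟩
    simpa [ha'] using congrArg Subtype.val hk
  refine (Subgroup.map_subgroupOf_eq_of_le (inf_le_right : D ≤ Cb)).ge.trans (Subgroup.map_mono ?_)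
  refine le_trans ?_ (centralizerPPrimeCore_le_of_constrained hb ha'p)
  set C' := Subgroup.centralizer ({a'} : Set Cb)
  have hle : D.subgroupOf Cb ≤ C' := fun x hx => Subgroup.mem_centralizer_singleton_iff.mpr
    (Subtype.ext (Subgroup.mem_centralizer_singleton_iff.mp (Subgroup.map_subtype_le _ hx.1)))
  refine (Subgroup.map_subgroupOf_eq_of_le hle).ge.trans (Subgroup.map_mono ?_)
  haveI : ((D.subgroupOf Cb).subgroupOf C').Normal := by
    refine ⟨fun n hn c => ?_⟩
    have hc : ((c : Cb) : G) ∈ Subgroup.centralizer ({a} : Set G) :=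
      Subgroup.mem_centralizer_singleton_iff.mpr
        (congrArg Subtype.val (Subgroup.mem_centralizer_singleton_iff.mp c.2))
    exact ⟨Cfsg.Comp.conj_mem_of_le_normalizer (H7.centralizer_le_normalizer_centralizerPPrimeCore p a) hc hn.1,
      Cfsg.Comp.conj_mem_of_le_normalizer Subgroup.le_normalizer (c : Cb).2 hn.2⟩
  refine H1.le_pPrimeCore ?_
  rw [Cfsg.Comp.card_subgroupOf hle, Cfsg.Comp.card_subgroupOf inf_le_right]
  exact ((Fact.out : p.Prime).coprime_iff_not_dvd.mpr fun hd =>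
    H7.not_dvd_centralizerPPrimeCore a (hd.trans (Subgroup.card_dvd_of_le inf_le_left))).symm

/-- An involution normalising an elementary abelian group of order at least 8 lies in such a group
meeting it in at least 4 elements. -/
theorem exists_elemAb_eight {U : Subgroup G} (hU : Cfsg.IsElementaryAbelian 2 U) (h8 : 2 ^ 3 ≤ Nat.card U)
    {x : G} (hx : orderOf x = 2) (hxU : x ∈ Subgroup.normalizer (U : Set G)) :
    ∃ A : Subgroup G, Cfsg.IsElementaryAbelian 2 A ∧ 2 ^ 3 ≤ Nat.card A ∧ x ∈ A ∧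
      2 ^ 2 ≤ Nat.card ↥(U ⊓ A) := by
  haveI : Fact (Nat.Prime 2) := ⟨Nat.prime_two⟩
  by_cases hxU' : x ∈ U
  · exact ⟨U, hU, h8, hxU', by rw [inf_idem]; omega⟩
  have hcomm := H7.comm_of_isElementaryAbelian hU
  set V := U ⊓ Subgroup.centralizer ({x} : Set G) with hV
  have hx2 : x * x = 1 := by rw [← pow_two, ← hx]; exact pow_orderOf_eq_one x
  have hxi : x⁻¹ = x := inv_eq_of_mul_eq_one_left hx2
  have hconj : ∀ u ∈ U, x * u * x⁻¹ ∈ U := fun u hu => (Subgroup.mem_normalizer_iff.1 hxU u).1 hu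
  have hsq : ∀ u ∈ U, u * u = 1 := fun u hu => by rw [← pow_two]; exact hU.2 u hu
  let f : ↥U →* ↥U :=
    { toFun := fun u => ⟨x * u * x⁻¹ * u, mul_mem (hconj u u.2) u.2⟩
      map_one' := Subtype.ext (by simp)
      map_mul' := fun u v => Subtype.ext (by
        show x * ((u : G) * v) * x⁻¹ * ((u : G) * v) = (x * u * x⁻¹ * u) * (x * v * x⁻¹ * v)
        have h1 := hcomm (x * v * x⁻¹) (hconj v v.2) u u.2
        calc x * ((u : G) * v) * x⁻¹ * ((u : G) * v) = x * u * x⁻¹ * ((x * v * x⁻¹) * u) * v := by group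
          _ = (x * u * x⁻¹ * u) * (x * v * x⁻¹ * v) := by rw [h1]; group) }
  have hker : f.ker ≤ V.subgroupOf U := fun u hu => by
    have h1 : x * u * x⁻¹ * (u : G) = 1 := congrArg Subtype.val hu
    refine Subgroup.mem_inf.2 ⟨u.2, Subgroup.mem_centralizer_singleton_iff.2 ?_⟩
    have h2 : x * u * x⁻¹ = (u : G) := by
      rw [eq_inv_of_mul_eq_one_left h1]
      exact inv_eq_of_mul_eq_one_left (hsq u u.2)
    exact (mul_inv_eq_iff_eq_mul.1 h2).symm
  have hrange : f.range ≤ V.subgroupOf U := by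
    rintro _ ⟨u, rfl⟩
    refine Subgroup.mem_inf.2 ⟨(f u).2, Subgroup.mem_centralizer_singleton_iff.2 ?_⟩
    show x * u * x⁻¹ * u * x = x * (x * u * x⁻¹ * u)
    have h1 := hcomm _ (hconj u u.2) u u.2
    rw [h1, hxi]
    calc (u : G) * (x * u * x) * x = u * x * u * (x * x) := by group
      _ = (x * x) * (u * x * u) := by rw [hx2, mul_one, one_mul]
      _ = x * ((x * u * x) * u) := by group
      _ = x * (u * (x * u * x)) := by
        rw [hcomm (x * u * x) (by simpa only [hxi] using hconj u u.2) u u.2]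
  have hVU : Nat.card ↥(V.subgroupOf U) = Nat.card V := Cfsg.Comp.card_subgroupOf inf_le_left
  have hcard : Nat.card U ≤ Nat.card V * Nat.card V := by
    rw [← Subgroup.index_mul_card f.ker, Subgroup.index_ker]
    exact Nat.mul_le_mul ((Subgroup.card_le_of_le hrange).trans hVU.le)
      ((Subgroup.card_le_of_le hker).trans hVU.le)
  obtain ⟨k, hk⟩ := IsPGroup.iff_card.mp
    (show IsPGroup 2 ↥V from (H7.elemAb_isPGroup hU).to_le inf_le_left)
  have hV4 : 2 ^ 2 ≤ Nat.card V := by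
    rw [hk]
    refine Nat.pow_le_pow_right two_pos ?_
    by_contra h
    interval_cases k <;> simp_all <;> omega
  have hVab : Cfsg.IsElementaryAbelian 2 V := H7.isElementaryAbelian_of_comm
    (fun a ha b hb => hcomm a (Subgroup.mem_inf.1 ha).1 b (Subgroup.mem_inf.1 hb).1)
    fun a ha => hU.2 a (Subgroup.mem_inf.1 ha).1
  have hxab : Cfsg.IsElementaryAbelian 2 (Subgroup.zpowers x) := H7.isElementaryAbelian_of_comm
    (fun a ⟨i, ha⟩ b ⟨j, hb⟩ => ha ▸ hb ▸ (Commute.zpow_zpow_self x i j).eq)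
    fun a ⟨i, ha⟩ => ha ▸ by rw [← zpow_natCast, ← zpow_mul, mul_comm, zpow_mul,
      show x ^ ((2 : ℕ) : ℤ) = 1 by rw [zpow_natCast, pow_two, hx2], one_zpow]
  refine ⟨Subgroup.zpowers x ⊔ V, H7.isElementaryAbelian_sup hxab hVab fun a ⟨i, ha⟩ b hb => ha ▸
    ((Commute.zpow_left (show Commute x b from
      (Subgroup.mem_centralizer_singleton_iff.1 (Subgroup.mem_inf.1 hb).2).symm) i).eq), ?_,
    Subgroup.mem_sup_left (Subgroup.mem_zpowers x),
    hV4.trans (Subgroup.card_le_of_le (le_inf inf_le_left le_sup_right))⟩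
  have hlt : V < Subgroup.zpowers x ⊔ V := lt_of_le_of_ne le_sup_right fun e =>
    hxU' (Subgroup.mem_inf.1 (e ▸ Subgroup.mem_sup_left (Subgroup.mem_zpowers x) : x ∈ V)).1
  obtain ⟨c, hc⟩ := Subgroup.card_dvd_of_le hlt.le
  have hc2 : 2 ≤ c := by
    by_contra h
    have hpos := Nat.card_pos (α := ↥(Subgroup.zpowers x ⊔ V))
    interval_cases c
    · omega
    · exact hlt.ne (Subgroup.eq_of_le_of_card_ge hlt.le (by rw [hc, mul_one]))
  rw [hc]
  calc 2 ^ 3 = 2 ^ 2 * 2 := by norm_num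
    _ ≤ Nat.card V * c := Nat.mul_le_mul hV4 hc2

/-- The odd signalizer of a 2-subgroup `S` normalising an elementary abelian group of order 8, in a group
with 2-constrained involution centralizers. -/
theorem exists_signalizer
    (hodd : ∀ (X : Type u) [Group X] [Finite X], Odd (Nat.card X) → Group.IsSolvable X)
    (hSFT : ∀ θ : G → Subgroup G, H7.CompleteSolvableFunctors 2 θ)
    (hcons : ∀ z : G, orderOf z = 2 → Cfsg.IsPConstrained 2 ↥(Subgroup.centralizer ({z} : Set G)))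
    {S U : Subgroup G} (hS : IsPGroup 2 S) (hSU : S ≤ Subgroup.normalizer (U : Set G))
    (hU : Cfsg.IsElementaryAbelian 2 U) (h8 : 2 ^ 3 ≤ Nat.card U) :
    ∃ W : Subgroup G, Odd (Nat.card ↥W) ∧
      ∀ B : Subgroup G, B ≤ S → ¬ Cfsg.PRankLE 2 1 ↥B →
        W = (⨆ b : {b : G // b ∈ B ∧ b ≠ 1}, Cfsg.centralizerPPrimeCore 2 (b : G)) ∧
        Subgroup.normalizer (B : Set G) ≤ Subgroup.normalizer (W : Set G) := by
  haveI : Fact (Nat.Prime 2) := ⟨Nat.prime_two⟩
  set θ : G → Subgroup G := fun x => Cfsg.centralizerPPrimeCore 2 x with hθ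
  have hodd' : ∀ a : G, Odd (Nat.card ↥(θ a)) := fun a =>
    Nat.odd_iff.2 (Nat.two_dvd_ne_zero.1 (H7.not_dvd_centralizerPPrimeCore a))
  have hinvol : ∀ {A : Subgroup G}, Cfsg.IsElementaryAbelian 2 A → ∀ a ∈ A, a ≠ 1 → orderOf a = 2 :=
    fun hA a ha ha1 => orderOf_eq_prime (hA.2 a ha) ha1
  have hfun : ∀ {A : Subgroup G}, Cfsg.IsElementaryAbelian 2 A →
      Cfsg.IsSolvableSignalizerFunctor 2 A θ := fun {A} hA => by
    have hc := H7.comm_of_isElementaryAbelian hA
    refine ⟨⟨fun a _ _ => H7.centralizerPPrimeCore_le 2 a,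
      fun a _ _ => H7.not_dvd_centralizerPPrimeCore a, fun a ha _ b hb y hy => ?_,
      fun a ha _ b hb hb1 => balance_of_constrained (H7.isPGroup_zpowers (hA.2 a ha)) (hc a ha b hb)
        (hcons b (hinvol hA b hb hb1))⟩, fun a _ _ => hodd _ (hodd' a)⟩
    exact Cfsg.Comp.conj_mem_of_le_normalizer (H7.centralizer_le_normalizer_centralizerPPrimeCore 2 a)
      (Subgroup.mem_centralizer_singleton_iff.2 (hc b hb a ha)) hy
  have hcomp : ∀ {A : Subgroup G}, Cfsg.IsElementaryAbelian 2 A → 2 ^ 3 ≤ Nat.card A →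
      ¬ 2 ∣ Nat.card (Cfsg.signalizerClosure A θ) ∧
        ∀ a ∈ A, a ≠ 1 → Cfsg.signalizerClosure A θ ⊓ Subgroup.centralizer {a} = θ a :=
    fun hA h3 => hSFT θ _ (H7.comm_of_isElementaryAbelian hA) hA.2 h3 (hfun hA)
  have hnorm : ∀ B : Subgroup G, Subgroup.normalizer (B : Set G) ≤
      Subgroup.normalizer ((⨆ b : {b : G // b ∈ B ∧ b ≠ 1}, θ b : Subgroup G) : Set G) := fun B g hg => by
    have key : ∀ h ∈ Subgroup.normalizer (B : Set G),
        (⨆ b : {b : G // b ∈ B ∧ b ≠ 1}, θ b).map (MulAut.conj h).toMonoidHom ≤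
          ⨆ b : {b : G // b ∈ B ∧ b ≠ 1}, θ b := fun h hh => by
      rw [Subgroup.map_iSup]
      refine iSup_le fun b => ?_
      show (Cfsg.centralizerPPrimeCore 2 (b : G)).map _ ≤ _
      rw [← H7.centralizerPPrimeCore_conj_eq]
      exact le_iSup_of_le (ι := {c : G // c ∈ B ∧ c ≠ 1})
        ⟨h * b * h⁻¹, (Subgroup.mem_normalizer_iff.1 hh b).1 b.2.1, by simpa using b.2.2⟩ le_rfl
    refine mem_normalizer_iff_map.2 (le_antisymm (key g hg) ?_)
    have := Subgroup.map_mono (f := (MulAut.conj g).toMonoidHom) (key g⁻¹ (inv_mem hg))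
    rw [Subgroup.map_map] at this
    refine le_trans (le_of_eq ?_) this
    rw [show (MulAut.conj g).toMonoidHom.comp (MulAut.conj g⁻¹).toMonoidHom = MonoidHom.id G by
      ext y; simp [mul_assoc], Subgroup.map_id]
  set W := Cfsg.signalizerClosure U θ with hW
  obtain ⟨hW2, hWC⟩ := hcomp hU h8
  have hSW : S ≤ Subgroup.normalizer (W : Set G) := hSU.trans (hnorm U)
  -- the values at the involutions of `S`
  have hval : ∀ x ∈ S, orderOf x = 2 → W ⊓ Subgroup.centralizer {x} = θ x := fun x hxS hx => by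
    obtain ⟨A, hA, hA8, hxA, h4⟩ := exists_elemAb_eight hU h8 hx (hSU hxS)
    have hUA : ∀ {A : Subgroup G}, Cfsg.IsElementaryAbelian 2 A → 2 ^ 3 ≤ Nat.card A →
        ∀ D : Subgroup G, D ≤ A → 2 ^ 2 ≤ Nat.card D →
          Cfsg.signalizerClosure A θ = Cfsg.signalizerClosure D θ := fun {A} hA h3 D hDA hD => by
      refine le_antisymm ?_ (iSup_le fun b =>
        le_iSup (fun c : {c : G // c ∈ A ∧ c ≠ 1} => θ (c : G)) ⟨b, hDA b.2.1, b.2.2⟩)
      refine H8.generation_elements (H7.isElementaryAbelian_of_comm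
        (fun a ha b hb => H7.comm_of_isElementaryAbelian hA a (hDA ha) b (hDA hb))
        fun a ha => hA.2 a (hDA ha)) hD ((hDA.trans Subgroup.le_normalizer).trans (hnorm A))
        (hcomp hA h3).1 fun b hb hb1 => ?_
      rw [(hcomp hA h3).2 b (hDA hb) hb1]
      exact le_iSup (fun c : {c : G // c ∈ D ∧ c ≠ 1} => θ (c : G)) ⟨b, hb, hb1⟩
    have hAW : Cfsg.signalizerClosure A θ = W :=
      (hUA hA hA8 _ inf_le_right h4).trans (hUA hU h8 _ inf_le_left h4).symm
    rw [← hAW]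
    exact (hcomp hA hA8).2 x hxA (fun e => by simp [e] at hx)
  refine ⟨W, Nat.odd_iff.2 (Nat.two_dvd_ne_zero.1 hW2), fun B hBS hB => ?_⟩
  have hWeq : W = ⨆ b : {b : G // b ∈ B ∧ b ≠ 1}, θ b := by
    refine le_antisymm ?_ (iSup_le fun b => ?_)
    · simp only [Cfsg.PRankLE, not_forall, not_le] at hB
      obtain ⟨E₀, hEc, hEe, hEcard⟩ := hB
      set E := E₀.map B.subtype with hE
      have hEB : E ≤ B := Subgroup.map_subtype_le _
      have hEab : Cfsg.IsElementaryAbelian 2 E := by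
        refine H7.isElementaryAbelian_of_comm ?_ ?_
        · rintro _ ⟨a, ha, rfl⟩ _ ⟨b, hb, rfl⟩
          exact congrArg (fun z : E₀ => ((z : B) : G)) (hEc.is_comm.comm ⟨a, ha⟩ ⟨b, hb⟩)
        · rintro _ ⟨a, ha, rfl⟩
          exact congrArg Subtype.val (hEe a ha)
      have hE4 : 2 ^ 2 ≤ Nat.card E := by
        rw [hE, Cfsg.Comp.card_map_subtype]
        obtain ⟨k, hk⟩ := IsPGroup.iff_card.mp
          (show IsPGroup 2 E₀ from fun x => ⟨1, Subtype.ext (by simpa using hEe x x.2)⟩)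
        rw [hk] at hEcard ⊢
        exact Nat.pow_le_pow_right two_pos ((Nat.pow_lt_pow_iff_right one_lt_two).1 hEcard)
      refine H8.generation_elements hEab hE4 ((hEB.trans hBS).trans hSW) hW2 fun b hb hb1 => ?_
      rw [hval b ((hEB.trans hBS) hb) (hinvol hEab b hb hb1)]
      exact le_iSup (fun c : {c : G // c ∈ B ∧ c ≠ 1} => θ (c : G)) ⟨b, hEB hb, hb1⟩
    · obtain ⟨b, hb, hb1⟩ := b
      obtain ⟨k, hk⟩ := hS ⟨b, hBS hb⟩
      obtain ⟨j, -, hj⟩ := (Nat.dvd_prime_pow Nat.prime_two).1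
        (orderOf_dvd_of_pow_eq_one (congrArg Subtype.val hk : b ^ 2 ^ k = 1))
      have hj0 : j ≠ 0 := fun e => hb1 (orderOf_eq_one_iff.1 (by rw [hj, e, pow_zero]))
      set z := b ^ 2 ^ (j - 1) with hz
      have hzo : orderOf z = 2 := by
        rw [hz, orderOf_pow, hj, Nat.gcd_eq_right (pow_dvd_pow 2 (by omega)),
          Nat.pow_div (by omega) two_pos, show j - (j - 1) = 1 by omega, pow_one]
      have hCb : Cfsg.centralizerPPrimeCore 2 b ≤ Subgroup.centralizer ({z} : Set G) :=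
        (H7.centralizerPPrimeCore_le 2 b).trans fun c hc => Subgroup.mem_centralizer_singleton_iff.2
          ((show Commute c b from Subgroup.mem_centralizer_singleton_iff.1 hc).pow_right _).eq
      refine le_trans (le_trans ?_ (balance_of_constrained
        (IsPGroup.to_le hS (Subgroup.zpowers_le.2 (hBS hb))) (Commute.self_pow b _).eq (hcons z hzo))) ?_
      · exact le_inf le_rfl hCb
      · show θ z ≤ W
        rw [← hval z (hBS (pow_mem hb _)) hzo]
        exact inf_le_left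
  exact ⟨hWeq, hWeq ▸ hnorm B⟩

/-- S3110 from the odd order theorem and the solvable signalizer functor theorem. -/
theorem shape3110
    (hodd : ∀ (X : Type u) [Group X] [Finite X], Odd (Nat.card X) → Group.IsSolvable X)
    (hSFT : ∀ θ : G → Subgroup G, H7.CompleteSolvableFunctors 2 θ)
    (h2c : ∀ T : Subgroup G, IsPGroup 2 T → T ≠ ⊥ →
      Cfsg.IsPConstrained 2 ↥(Subgroup.normalizer (T : Set G)))
    (S : Sylow 2 G) (A : Subgroup ↥(S : Subgroup G)) (hAn : A.Normal) (hAab : IsMulCommutative ↥A)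
    (hA3 : ¬ Cfsg.PRankLE 2 2 ↥A) (S' : Sylow 2 G) :
    ∃ W : Subgroup G, Odd (Nat.card ↥W) ∧
      ∀ B : Subgroup G, B ≤ (S' : Subgroup G) → ¬ Cfsg.PRankLE 2 1 ↥B →
        W = (⨆ b : {b : G // b ∈ B ∧ b ≠ 1}, Cfsg.centralizerPPrimeCore 2 (b : G)) ∧
        Subgroup.normalizer (B : Set G) ≤ Subgroup.normalizer (W : Set G) := by
  haveI : Fact (Nat.Prime 2) := ⟨Nat.prime_two⟩
  have hcons : ∀ z : G, orderOf z = 2 → Cfsg.IsPConstrained 2 ↥(Subgroup.centralizer ({z} : Set G)) :=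
    fun z hz => by
      have h := h2c (Subgroup.zpowers z)
        (H7.isPGroup_zpowers (by rw [← hz]; exact pow_orderOf_eq_one z)) fun e => by
          rw [Subgroup.zpowers_eq_bot] at e
          simp [e] at hz
      rw [H70.CharTwoEarly.normalizer_zpowers_eq hz] at h
      exact h
  have hcomm : ∀ a ∈ A, ∀ b ∈ A, a * b = b * a := fun a ha b hb =>
    congrArg Subtype.val (hAab.is_comm.comm (⟨a, ha⟩ : A) ⟨b, hb⟩)
  obtain ⟨g, hg⟩ := MulAction.exists_smul_eq G S S'
  have hSS : (S' : Subgroup G) = (S : Subgroup G).map (MulAut.conj g).toMonoidHom := by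
    rw [← hg, Sylow.coe_subgroup_smul]; rfl
  simp only [Cfsg.PRankLE, not_forall, not_le] at hA3
  obtain ⟨E₀, hEc, hEe, hEcard⟩ := hA3
  set Ω : Subgroup ↥(S : Subgroup G) :=
    { carrier := {a | a ∈ A ∧ a ^ 2 = 1}
      one_mem' := ⟨one_mem A, one_pow 2⟩
      mul_mem' := fun {a b} ha hb => ⟨mul_mem ha.1 hb.1, by
        rw [(show Commute a b from hcomm a ha.1 b hb.1).mul_pow, ha.2, hb.2, one_mul]⟩
      inv_mem' := fun {a} ha => ⟨inv_mem ha.1, by rw [inv_pow, ha.2, inv_one]⟩ } with hΩ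
  set φ := (MulAut.conj g).toMonoidHom.comp (S : Subgroup G).subtype with hφ
  have hφi : Function.Injective φ := (MulAut.conj g).injective.comp (Subgroup.subtype_injective _)
  refine exists_signalizer hodd hSFT hcons S'.2 (U := Ω.map φ) ?_ ?_ ?_
  · rw [hSS]
    rintro _ ⟨s, hs, rfl⟩
    rw [mem_normalizer_iff_map]
    have key : ∀ s : ↥(S : Subgroup G), Ω.map (MulAut.conj s).toMonoidHom ≤ Ω := by
      rintro s _ ⟨a, ha, rfl⟩
      exact ⟨hAn.conj_mem a ha.1 s, by rw [← map_pow, ha.2, map_one]⟩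
    have key' : Ω.map (MulAut.conj (⟨s, hs⟩ : ↥(S : Subgroup G))).toMonoidHom = Ω :=
      Subgroup.eq_of_le_of_card_ge (key _)
        (Subgroup.card_map_of_injective (MulAut.conj _).injective).ge
    conv_rhs => rw [← key']
    rw [Subgroup.map_map, Subgroup.map_map]
    refine congrArg (fun f => Subgroup.map f Ω) (MonoidHom.ext fun a => ?_)
    simp [φ, mul_assoc]
  · refine H7.isElementaryAbelian_of_comm ?_ ?_
    · rintro _ ⟨a, ha, rfl⟩ _ ⟨b, hb, rfl⟩
      rw [← map_mul, ← map_mul, hcomm a ha.1 b hb.1]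
    · rintro _ ⟨a, ha, rfl⟩
      rw [← map_pow, ha.2, map_one]
  · rw [Subgroup.card_map_of_injective hφi]
    obtain ⟨k, hk⟩ := IsPGroup.iff_card.mp
      (show IsPGroup 2 E₀ from fun x => ⟨1, Subtype.ext (by simpa using hEe x x.2)⟩)
    have hle : E₀.map A.subtype ≤ Ω := by
      rintro _ ⟨a, ha, rfl⟩
      exact ⟨a.2, congrArg Subtype.val (hEe a ha)⟩
    refine le_trans ?_ (Subgroup.card_le_of_le hle)
    rw [Cfsg.Comp.card_map_subtype, hk]
    rw [hk] at hEcard
    exact Nat.pow_le_pow_right two_pos ((Nat.pow_lt_pow_iff_right one_lt_two).1 hEcard)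

end H80
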