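import Cfsg.Agent.H80.ZipBase
import Cfsg.Agent.H78.SpreadSL2

/-!
In a minimal instance the member generates a natural `SL₂` with each outside conjugate.
-/

set_option autoImplicit false
set_option linter.unusedSectionVars false

open Subgroup H73
open scoped MatrixGroups commutatorElement

namespace H80.LFF

variable {p : ℕ} [Fact p.Prime] {H : Type*} [Group H] [Finite H] {V : Type*} [AddCommGroup V]
  [Finite V] [DistribMulAction H V] [FaithfulSMul H V]


/-- The coordinate of an element of the base. -/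
theorem exists_iv {x : SD H V} (hx : x ∈ base H V) : ∃ v : V, iv H v = x := by
  obtain ⟨w, rfl⟩ := hx
  exact ⟨w.toAdd, rfl⟩

theorem iv_left (v : V) : (iv H v : SD H V).left.toAdd = v := rfl

theorem ih_mem_up {A : Subgroup H} {a : H} : (ih V a : SD H V) ∈ up V A ↔ a ∈ A :=
  ⟨fun ⟨b, hb, he⟩ => SemidirectProduct.inr_injective he ▸ hb, fun h => ⟨a, h, rfl⟩⟩

theorem up_mono {A B : Subgroup H} (h : A ≤ B) : up V A ≤ up V B := map_mono h

/-- A member, the subgroup it generates with any outside conjugate, and the natural action. -/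
theorem exists_natural (hV : ∀ v : V, p • v = 0) {T M : Subgroup H} (hTp : IsPGroup p T)
    (hTM : T ≤ M) (hsyl : SylIn p T ⊤) (hM : M ≠ ⊤) (huniq : ∀ Y : Subgroup H, T ≤ Y → ¬ Y ≤ M → Y = ⊤)
    (hC : ∀ h : H, (∀ v ∈ fx V T, h • v = v) → h ∈ M) (𝒟 : Set (Subgroup H)) (h𝒟 : Closed 𝒟)
    (hmem : ∀ D ∈ 𝒟, Mem V D) (hbad : ∃ D ∈ 𝒟, D ≤ T ∧ ¬ D ≤ opc p ⊤) :
    ∃ (X D : Subgroup H), D ∈ 𝒟 ∧ D ≤ T ∧ D ≤ X ∧ ¬ X ≤ M ∧
      ∃ (F : Type) (_ : Field F) (_ : Fintype F), Fintype.card F = Nat.card D ∧
        ∃ ρ : X →* SL(2, F), Function.Bijective ρ ∧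
          ∃ c : V →+ (Fin 2 → F), Function.Surjective c ∧ (∀ v, c v = 0 ↔ v ∈ fx V X) ∧
            ∀ (g : X) (v : V), c ((g : H) • v) = (ρ g : Matrix (Fin 2) (Fin 2) F).mulVec (c v) := by
  obtain ⟨D₀, hD₀, hD₀T, hD₀b⟩ := hbad
  obtain ⟨X, hX⟩ := exists_minInst h𝒟 hTM hTp ⟨⊤,
    { sylow := by rw [inf_top_eq]; exact hsyl
      notM := fun h => hM (top_le_iff.1 h)
      uniq := fun Y _ hTY hY => huniq Y (by rwa [inf_top_eq] at hTY) hY
      bad := fun h => hD₀b ((le_wcl hD₀ (le_inf hD₀T le_top)).trans h) }⟩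
  obtain ⟨D, hD, hDR, hDb⟩ : ∃ D ∈ 𝒟, D ≤ T ⊓ X ∧ ¬ D ≤ opc p X := by
    by_contra hno
    push Not at hno
    exact hX.inst.bad (sSup_le fun D hD => hno D hD.1 hD.2)
  have hDp : IsPGroup p D := (hTp.to_le inf_le_left).to_le hDR
  have hDXM : D ≤ X ⊓ M := hDR.trans (le_inf inf_le_right (inf_le_left.trans hTM))
  have hq := (hmem D hD).quad
  -- the section
  let C : AddSubgroup V := fx V X
  let S : H78.Block.Sec (SD H V) (V ⧸ C) :=
    { U := base H V
      U₀ := base H V ⊓ centralizer (up V X : Set (SD H V))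
      ψ := MonoidHom.mk' (fun u => Multiplicative.ofAdd (QuotientAddGroup.mk (s := C) u.1.left.toAdd))
        (by
          rintro ⟨_, u, rfl⟩ ⟨_, v, rfl⟩
          rw [← ofAdd_add, ← QuotientAddGroup.mk_add]
          simp)
      surj := fun w => by
        obtain ⟨v, hv⟩ := QuotientAddGroup.mk_surjective w.toAdd
        exact ⟨⟨iv H v, _, rfl⟩, by simp [iv, hv]⟩
      ker := fun u => by
        obtain ⟨_, v, rfl⟩ := u
        show Multiplicative.ofAdd _ = 1 ↔ _
        rw [ofAdd_eq_one, QuotientAddGroup.eq_zero_iff]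
        exact ⟨fun h => ⟨⟨_, rfl⟩, (iv_mem_centralizer (v := v.toAdd)).2 h⟩,
          fun h => (iv_mem_centralizer (v := v.toAdd)).1 h.2⟩ }
  haveI : Finite (SD H V) := Finite.of_equiv _ SemidirectProduct.equivProd.symm
  obtain ⟨x₀, hx₀, hx₀M⟩ := SetLike.not_le_iff_exists.1 hX.inst.notM
  have hgen : ∀ x ∈ X, x ∉ M → D ⊔ cj x D = X := by
    intro x hx hxM
    by_contra hne
    have hle : D ⊔ cj x D ≤ X :=
      sup_le (hDXM.trans inf_le_left) ((cj_mono (hDXM.trans inf_le_left)).trans (cj_of_mem hx).le)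
    exact hxM (hX.ti hD hDp hDXM hDb hx
      (le_sup_right.trans (hX.le_M_of_mem hD hDp hDXM hDb hle hne le_sup_left)))
  obtain ⟨z, hz, hzX⟩ : ∃ z, z ∈ fx V (T ⊓ X) ∧ z ∉ fx V X := by
    by_contra hno
    push Not at hno
    exact hx₀M (hC x₀ fun v hv => hno v (fx_anti inf_le_left hv) x₀ hx₀)
  have hQX : opc p X ≤ T ⊓ X := opc_le_sylIn hX.inst.sylow
  have hconj : ∀ x a : H, (ih V x : SD H V) * ih V a * (ih V x)⁻¹ = ih V (x * a * x⁻¹) := by
    intro x a; simp
  have hS : H78.Spread.Hyp p S (up V X) (up V D) (up V (X ⊓ M)) (up V (opc p X)) :=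
    { elem := base_elementary hV
      le_norm := up_le_normalizer X
      faith := by
        refine eq_bot_iff.2 ?_
        rintro _ ⟨⟨a, _, rfl⟩, hc⟩
        have : a = 1 := eq_of_smul_eq_smul fun v : V => by
          rw [one_smul]
          have h1 := mem_centralizer_iff.1 hc (iv H v) ⟨_, rfl⟩
          have h2 : (iv H (a • v) : SD H V) = iv H v := by rw [← conj_iv, ← h1, mul_inv_cancel_right]
          exact Multiplicative.ofAdd.injective (SemidirectProduct.inl_injective h2)
        exact mem_bot.2 (by rw [this, map_one])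
      bot_eq := rfl
      le_M := up_mono hDXM
      M_le := up_mono inf_le_left
      abel := by
        rintro _ ⟨a, ha, rfl⟩ _ ⟨b, hb, rfl⟩
        rw [← map_mul, hq.comm ha hb, map_mul]
      quad := by
        rintro _ ⟨a, ha, rfl⟩ x hx
        obtain ⟨v, rfl⟩ := exists_iv hx
        rw [comm_ih_iv]
        exact ⟨⟨_, rfl⟩, iv_mem_centralizer.2 (hq a ha v)⟩
      gen := by
        rintro _ ⟨x, hx, rfl⟩ hxM
        have hxM' : x ∉ M := fun h => hxM (ih_mem_up.2 ⟨hx, h⟩)
        have e : (up V D).map (MulAut.conj (ih V x)).toMonoidHom = up V (cj x D) := by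
          simp only [up, Subgroup.map_map]
          congr 1
          ext a <;> simp
        rw [e, up, up, ← Subgroup.map_sup, hgen x hx hxM']
      exists_out := ⟨ih V x₀, ih_mem_up.2 hx₀, fun h => hx₀M (ih_mem_up.1 h).2⟩
      off := by
        have h1 := (hmem D hD).off
        rw [← offWeight_up] at h1
        refine le_trans (le_of_eq ?_) h1
        exact (Nat.card_congr (Equiv.ofBijective (fun v : V => (⟨iv H v, _, rfl⟩ : base H V))
          ⟨fun a b hab => Multiplicative.ofAdd.injective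
              (SemidirectProduct.inl_injective (congrArg Subtype.val hab)),
            fun w => by obtain ⟨v, hv⟩ := exists_iv w.2; exact ⟨v, Subtype.ext hv⟩⟩)).symm
      strict := by
        intro B hB h0 h1
        obtain ⟨B', rfl⟩ : ∃ B', up V B' = B := ⟨B.comap SemidirectProduct.inr, by
          rw [up, map_comap_eq, inf_eq_right.2 (hB.trans (map_le_range _ _))]⟩
        have hB' : B' ≤ D := fun a ha => ih_mem_up.1 (hB (ih_mem_up.2 ha))
        have := (hmem D hD).strict B' hB' (fun e => h0 (by rw [e]; exact map_bot _))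
          (fun e => h1 (by rw [e]))
        rw [← offWeight_up, ← offWeight_up] at this
        exact this
      Q_le := up_mono (hQX.trans (le_inf inf_le_right (inf_le_left.trans hTM)))
      Q_norm := by
        refine H75.le_normalizer_of_conj ?_
        rintro _ ⟨x, hx, rfl⟩ _ ⟨a, ha, rfl⟩
        rw [← map_inv, ← map_mul, ← map_mul]
        exact ⟨_, H75.conj_mem_of_mem_normalizer (le_normalizer_opc X hx) ha, rfl⟩
      Q_core := by
        rintro _ ⟨a, ha, rfl⟩ hall
        refine ih_mem_up.2 ?_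
        have haX : a ∈ X := (hDR ha).2
        have hconjM : ∀ y ∈ X, y⁻¹ * a * y ∈ X ⊓ M := fun y hy => by
          have h1 := hall (ih V y) (ih_mem_up.2 hy)
          rw [← map_inv, ← map_mul, ← map_mul] at h1
          exact ih_mem_up.1 h1
        -- the largest normal subgroup of `X` in `M`
        let K : Subgroup X := ((X ⊓ M).subgroupOf X).normalCore
        obtain ⟨Rs, hRs⟩ := hX.inst.sylow.exists_sylow
        have hfr := H75.normalizer_inf_sup_eq_top Rs K
        set N := normalizer ((((Rs : Subgroup X) ⊓ K : Subgroup X)) : Set X)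
        by_cases hNM : N.map X.subtype ≤ M
        · exfalso
          refine hX.inst.notM fun y hy => ?_
          have h1 : (⟨y, hy⟩ : X) ∈ (X ⊓ M).subgroupOf X := by
            have : N ⊔ K ≤ (X ⊓ M).subgroupOf X := sup_le (fun n hn =>
              mem_subgroupOf.2 ⟨n.2, hNM (mem_map_of_mem _ hn)⟩) (normalCore_le _)
            exact this (hfr.ge (mem_top _))
          exact (mem_subgroupOf.1 h1).2
        · have htop : N.map X.subtype = X := hX.inst.uniq _ (map_subtype_le _)
            (hRs ▸ map_mono (le_trans (le_inf le_normalizer (by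
              rw [normalizer_eq_top_iff.2 (normalCore_normal _)]; exact le_top))
              inf_normalizer_le_normalizer_inf)) hNM
          have hnorm : X ≤ normalizer ((((Rs : Subgroup X) ⊓ K : Subgroup X).map X.subtype :
              Subgroup H) : Set H) := htop.ge.trans (le_normalizer_map _)
          refine le_opc (p := p) (map_subtype_le _) ((Rs.isPGroup'.to_le inf_le_left).map _) hnorm
            ⟨⟨a, haX⟩, ⟨?_, fun y => ?_⟩, rfl⟩
          · obtain ⟨r, hr, he⟩ := hRs.ge (hDR ha)
            exact (Subtype.ext he : r = ⟨a, haX⟩) ▸ hr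
          · refine mem_subgroupOf.2 ?_
            simpa using hconjM ((y : H)⁻¹) (inv_mem y.2)
      Q_max := by
        intro N hNX hN hXN
        obtain ⟨N', rfl⟩ : ∃ N', up V N' = N := ⟨N.comap SemidirectProduct.inr, by
          rw [up, map_comap_eq, inf_eq_right.2 (hNX.trans (map_le_range _ _))]⟩
        refine up_mono (le_opc (fun a ha => ih_mem_up.1 (hNX (ih_mem_up.2 ha)))
          (hN.of_equiv (N'.equivMapOfInjective _ SemidirectProduct.inr_injective).symm)
          (H75.le_normalizer_of_conj fun x hx a ha => (ih_mem_up (V := V)).1 ?_))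
        rw [← hconj]
        exact H75.conj_mem_of_mem_normalizer (hXN (ih_mem_up.2 hx)) (ih_mem_up.2 ha)
      fixed := ⟨iv H z, ⟨_, rfl⟩, iv_mem_centralizer.2 (fx_anti hDR hz),
        iv_mem_centralizer.2 (fx_anti hQX hz), fun h => hzX (iv_mem_centralizer.1 h)⟩ }
  obtain ⟨F, iF, iFf, hcard, ⟨c, hc, ρ, hρ, hact⟩, -⟩ := hS.exists_sl2
  let e : X ≃* up V X := X.equivMapOfInjective _ SemidirectProduct.inr_injective
  have himg : ∀ v : V, S.img (iv H v) = QuotientAddGroup.mk v := fun v => by
    rw [S.img_apply ⟨_, rfl⟩]; rfl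
  refine ⟨X, D, hD, hDR.trans inf_le_left, hDXM.trans inf_le_left, hX.inst.notM, F, iF, iFf, ?_,
    ρ.comp e.toMonoidHom, hρ.comp e.bijective, c.comp (QuotientAddGroup.mk' C),
    hc.2.comp (QuotientAddGroup.mk'_surjective C), fun v => ?_, fun g v => ?_⟩
  · rw [hcard]
    exact (Nat.card_congr (D.equivMapOfInjective _ SemidirectProduct.inr_injective).toEquiv).symm
  · exact ⟨fun h => (QuotientAddGroup.eq_zero_iff v).1 (hc.1 (h.trans (map_zero c).symm)),
      fun h => by
        show c (QuotientAddGroup.mk v) = 0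
        rw [(QuotientAddGroup.eq_zero_iff v).2 h, map_zero]⟩
  · have h1 : S.act (ih V (g : H)) (QuotientAddGroup.mk v) = QuotientAddGroup.mk ((g : H) • v) := by
      rw [← himg, S.act_img (hS.nz (ih_mem_up.2 g.2)) ⟨_, rfl⟩, conj_iv, himg]
    show c (QuotientAddGroup.mk ((g : H) • v)) = _
    rw [← h1]
    exact hact (e g) _

end H80.LFF
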