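import Cfsg.Agent.H80.Quad
import Cfsg.Agent.H1.Cores
import Cfsg.Agent.H75.Basic

/-!
A minimal instance of "a `p`-minimal group with an offender outside the core": every proper
subgroup containing the offender lies in the maximal subgroup.
-/

set_option autoImplicit false
set_option linter.unusedSectionVars false

open Subgroup H73

namespace H80.LFF

variable {p : ℕ} [Fact p.Prime] {H : Type*} [Group H] [Finite H]

/-- The `p`-core of a subgroup, as a subgroup of the whole group. -/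
def opc (p : ℕ) (X : Subgroup H) : Subgroup H := (Cfsg.pCore p X).map X.subtype

theorem opc_le (X : Subgroup H) : opc p X ≤ X := map_subtype_le _

theorem opc_isPGroup (X : Subgroup H) : IsPGroup p (opc p X) := (H1.isPGroup_pCore p X).map _

theorem le_normalizer_opc (X : Subgroup H) : X ≤ normalizer (opc p X : Set H) := by
  refine H75.le_normalizer_of_conj fun k hk a ha => ?_
  obtain ⟨y, hy, rfl⟩ := ha
  exact ⟨_, (H1.pCore_normal' p X).conj_mem y hy ⟨k, hk⟩, rfl⟩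

theorem le_opc {X N : Subgroup H} (hN : N ≤ X) (hp : IsPGroup p N)
    (hX : X ≤ normalizer (N : Set H)) : N ≤ opc p X := by
  haveI := normal_subgroupOf_of_le_normalizer hX
  intro n hn
  exact ⟨⟨n, hN hn⟩, H1.le_pCore (hp.of_equiv (subgroupOfEquivOfLe hN).symm) hn, rfl⟩

theorem opc_le_sylIn {X P : Subgroup H} (hP : SylIn p P X) : opc p X ≤ P := by
  obtain ⟨x, hx, hle⟩ := hP.exists_conj_le (opc_isPGroup X) (opc_le X)
  rwa [mem_normalizer_iff_cj.1 (le_normalizer_opc X hx)] at hle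

theorem cj_opc (g : H) (X : Subgroup H) : cj g (opc p X) = opc p (cj g X) := by
  have key : ∀ (k : H) (Y : Subgroup H), cj k (opc p Y) ≤ opc p (cj k Y) := fun k Y =>
    le_opc (cj_mono (opc_le Y)) ((opc_isPGroup Y).map _)
      ((cj_mono (le_normalizer_opc Y)).trans (cj_normalizer k _).le)
  refine le_antisymm (key g X) ?_
  have := cj_mono (g := g) (key g⁻¹ (cj g X))
  rwa [cj_cj_inv, cj_inv_cj] at this

/-- The subgroup generated by the members of `𝒟` inside `E`. -/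
def wcl (𝒟 : Set (Subgroup H)) (E : Subgroup H) : Subgroup H := sSup {D | D ∈ 𝒟 ∧ D ≤ E}

theorem wcl_le (𝒟 : Set (Subgroup H)) (E : Subgroup H) : wcl 𝒟 E ≤ E := sSup_le fun _ h => h.2

theorem le_wcl {𝒟 : Set (Subgroup H)} {D E : Subgroup H} (hD : D ∈ 𝒟) (hE : D ≤ E) : D ≤ wcl 𝒟 E :=
  le_sSup (show D ∈ {D | D ∈ 𝒟 ∧ D ≤ E} from ⟨hD, hE⟩)

theorem wcl_mono {𝒟 : Set (Subgroup H)} {E F : Subgroup H} (h : E ≤ F) : wcl 𝒟 E ≤ wcl 𝒟 F :=
  sSup_le fun _ hD => le_wcl hD.1 (hD.2.trans h)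

theorem wcl_eq_of_le {𝒟 : Set (Subgroup H)} {E F : Subgroup H} (h1 : wcl 𝒟 E ≤ F) :
    wcl 𝒟 E ≤ wcl 𝒟 F := sSup_le fun _ hD => le_wcl hD.1 ((le_wcl hD.1 hD.2).trans h1)

/-- `𝒟` is closed under conjugation. -/
def Closed (𝒟 : Set (Subgroup H)) : Prop := ∀ D ∈ 𝒟, ∀ g : H, cj g D ∈ 𝒟

theorem cj_wcl {𝒟 : Set (Subgroup H)} (h : Closed 𝒟) (g : H) (E : Subgroup H) :
    cj g (wcl 𝒟 E) = wcl 𝒟 (cj g E) := by
  refine le_antisymm ?_ ?_
  · rw [cj_le_iff]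
    exact sSup_le fun D hD => by
      rw [← cj_le_iff]
      exact le_wcl (h D hD.1 g) (cj_mono hD.2)
  · refine sSup_le fun D hD => ?_
    rw [← cj_cj_inv g D]
    exact cj_mono (le_wcl (h D hD.1 g⁻¹) ((cj_mono hD.2).trans (cj_inv_cj g E).le))

theorem normalizer_le_normalizer_wcl {𝒟 : Set (Subgroup H)} (h : Closed 𝒟) (E : Subgroup H) :
    normalizer (E : Set H) ≤ normalizer (wcl 𝒟 E : Set H) := fun g hg =>
  mem_normalizer_iff_cj.2 (by rw [cj_wcl h, mem_normalizer_iff_cj.1 hg])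

/-- An instance: a subgroup not in `M`, minimal over its trace on `T`, with a member outside
its core. -/
structure Inst (p : ℕ) (𝒟 : Set (Subgroup H)) (T M X : Subgroup H) : Prop where
  sylow : SylIn p (T ⊓ X) X
  notM : ¬ X ≤ M
  uniq : ∀ Y : Subgroup H, Y ≤ X → T ⊓ X ≤ Y → ¬ Y ≤ M → Y = X
  bad : ¬ wcl 𝒟 (T ⊓ X) ≤ opc p X

/-- The data of a minimal instance. -/
structure MinInst (p : ℕ) (𝒟 : Set (Subgroup H)) (T M X : Subgroup H) : Prop where
  inst : Inst p 𝒟 T M X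
  min : ∀ Y : Subgroup H, Inst p 𝒟 T M Y → Y ≤ X → Y = X
  closed : Closed 𝒟
  TM : T ≤ M
  Tp : IsPGroup p T

theorem exists_minInst {𝒟 : Set (Subgroup H)} {T M : Subgroup H} (h𝒟 : Closed 𝒟) (hTM : T ≤ M)
    (hTp : IsPGroup p T) (hX : ∃ X, Inst p 𝒟 T M X) : ∃ X, MinInst p 𝒟 T M X := by
  obtain ⟨X₀, hX₀⟩ := hX
  obtain ⟨X, -, hX⟩ := Finite.exists_le_minimal (p := Inst p 𝒟 T M) hX₀
  exact ⟨X, hX.prop, fun Y hY hle => le_antisymm hle (hX.le_of_le hY hle), h𝒟, hTM, hTp⟩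

namespace MinInst

variable {𝒟 : Set (Subgroup H)} {T M X : Subgroup H} (h : MinInst p 𝒟 T M X)
include h

theorem sylow_XM : SylIn p (T ⊓ X) (X ⊓ M) :=
  h.inst.sylow.of_le (le_inf inf_le_right (inf_le_left.trans h.TM)) inf_le_left

theorem sylow_of_XM {P : Subgroup H} (hP : SylIn p P (X ⊓ M)) : SylIn p P X := by
  obtain ⟨m, hm, rfl⟩ := h.sylow_XM.exists_conj hP
  exact h.inst.sylow.cj_mem hm.1

/-- The reduction to a smaller instance. -/
theorem reduce {Y P : Subgroup H} (hY : Y ≤ X) (hne : Y ≠ X) (hnM : ¬ Y ≤ M) (hP : SylIn p P Y)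
    (hPM : P ≤ M) (hbad : ∀ Y' : Subgroup H, Y' ≤ Y → P ≤ Y' → ¬ Y' ≤ M →
      ¬ wcl 𝒟 P ≤ opc p Y') : False := by
  obtain ⟨m, hm, hmP⟩ := h.sylow_XM.exists_conj_le hP.isPGroup (le_inf (hP.le.trans hY) hPM)
  have hP' : SylIn p (cj m P) (cj m Y) := hP.cj m
  have hnM' : ¬ cj m Y ≤ M := fun hle => hnM (by
    rw [← cj_inv_cj m Y]
    exact (cj_mono hle).trans (cj_of_mem (inv_mem hm.2)).le)
  obtain ⟨Y₁, hY₁le, hY₁⟩ := Finite.exists_le_minimal
    (p := fun Z : Subgroup H => cj m P ≤ Z ∧ ¬ Z ≤ M) (a := cj m Y) ⟨hP'.le, hnM'⟩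
  have hTY : T ⊓ Y₁ = cj m P := by
    refine le_antisymm ?_ (le_inf (hmP.trans inf_le_left) hY₁.prop.1)
    have h1 : T ⊓ cj m Y = cj m P := hP'.eq_of_le (h.Tp.to_le inf_le_left) inf_le_right
      (le_inf (hmP.trans inf_le_left) hP'.le)
    exact (inf_le_inf_left _ hY₁le).trans h1.le
  have hinst : Inst p 𝒟 T M Y₁ :=
    { sylow := by rw [hTY]; exact hP'.of_le hY₁.prop.1 hY₁le
      notM := hY₁.prop.2
      uniq := fun Z hZ hTZ hZM => le_antisymm hZ (hY₁.le_of_le ⟨hTY ▸ hTZ, hZM⟩ hZ)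
      bad := by
        rw [hTY, ← cj_wcl h.closed]
        intro hle
        refine hbad (cj m⁻¹ Y₁) ((cj_mono hY₁le).trans (cj_inv_cj m Y).le) ?_ ?_ ?_
        · rw [← cj_inv_cj m P]; exact cj_mono hY₁.prop.1
        · intro hYM
          refine hY₁.prop.2 ?_
          rw [← cj_cj_inv m Y₁]
          exact (cj_mono hYM).trans (cj_of_mem hm.2).le
        · rw [← cj_opc, ← cj_inv_cj m (wcl 𝒟 P)]
          exact cj_mono hle }
  have hle : Y₁ ≤ X := hY₁le.trans ((cj_mono hY).trans (cj_of_mem hm.1).le)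
  have := h.min Y₁ hinst hle
  refine hne (le_antisymm hY ?_)
  have h2 : X ≤ cj m Y := this ▸ hY₁le
  rw [← cj_inv_cj m Y]
  exact (cj_of_mem (inv_mem hm.1)).ge.trans (cj_mono h2)

/-- Normalizers of member-generated subgroups outside the core lie in `M`. -/
theorem normalizer_le {E : Subgroup H} (hE : IsPGroup p E) (hEX : E ≤ X ⊓ M)
    (hbad : ¬ wcl 𝒟 E ≤ opc p X) : X ⊓ normalizer (wcl 𝒟 E : Set H) ≤ M := by
  by_contra hnM
  let Pr : Subgroup H → Prop := fun P => ∃ E : Subgroup H, IsPGroup p E ∧ E ≤ X ⊓ M ∧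
    ¬ wcl 𝒟 E ≤ opc p X ∧ ¬ X ⊓ normalizer (wcl 𝒟 E : Set H) ≤ M ∧
    SylIn p P (X ⊓ normalizer (wcl 𝒟 E : Set H) ⊓ M)
  have hne : ∃ P, Pr P := by
    obtain ⟨P, hP, -⟩ := exists_sylIn_ge (H := X ⊓ normalizer (wcl 𝒟 E : Set H) ⊓ M)
      (IsPGroup.of_bot (p := p)) bot_le
    exact ⟨P, E, hE, hEX, hbad, hnM, hP⟩
  obtain ⟨P₀, hP₀, hmax⟩ := Set.exists_max_image {P | Pr P} (fun P : Subgroup H => Nat.card P)
    (Set.toFinite _) hne
  obtain ⟨E', hE', hEX', hbad', hnM', hP₀'⟩ := hP₀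
  set N := X ⊓ normalizer (wcl 𝒟 E' : Set H) with hN
  have hWN : wcl 𝒟 E' ≤ N ⊓ M :=
    le_inf (le_inf (((wcl_le 𝒟 E').trans hEX').trans inf_le_left) le_normalizer)
      (((wcl_le 𝒟 E').trans hEX').trans inf_le_right)
  have hWP : wcl 𝒟 E' ≤ P₀ := by
    obtain ⟨x, hx, hle⟩ := hP₀'.exists_conj_le (hE'.to_le (wcl_le 𝒟 E')) hWN
    rwa [mem_normalizer_iff_cj.1 hx.1.2] at hle
  have hW1 : wcl 𝒟 E' ≤ wcl 𝒟 P₀ := wcl_eq_of_le hWP
  have hP₀XM : P₀ ≤ X ⊓ M := hP₀'.le.trans (inf_le_inf_right _ inf_le_left)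
  obtain ⟨R', hR', hPR'⟩ := exists_sylIn_ge hP₀'.isPGroup hP₀XM
  have hNne : N ≠ X := fun e => hbad' (le_opc (((wcl_le 𝒟 E').trans hEX').trans inf_le_left)
    (hE'.to_le (wcl_le 𝒟 E')) (e.ge.trans inf_le_right))
  have hlt : P₀ < R' := by
    refine lt_of_le_of_ne hPR' fun e => ?_
    obtain ⟨m, hm, hme⟩ := hR'.exists_conj h.sylow_XM
    have h1 : T ⊓ X ≤ cj m N := hme ▸ cj_mono (e ▸ hP₀'.le.trans inf_le_left)
    have h2 : cj m N ≤ X := (cj_mono inf_le_left).trans (cj_of_mem hm.1).le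
    have h3 : ¬ cj m N ≤ M := fun hle => hnM' (by
      show N ≤ M
      rw [← cj_inv_cj m N]
      exact (cj_mono hle).trans (cj_of_mem (inv_mem hm.2)).le)
    refine hNne ?_
    rw [← cj_inv_cj m N, h.inst.uniq _ h2 h1 h3, cj_of_mem (inv_mem hm.1)]
  have hgrow := lt_inf_normalizer hR'.isPGroup hlt
  have hWgrow : R' ⊓ normalizer (P₀ : Set H) ≤ normalizer (wcl 𝒟 P₀ : Set H) :=
    inf_le_right.trans (normalizer_le_normalizer_wcl h.closed _)
  have hN₁ : X ⊓ normalizer (wcl 𝒟 P₀ : Set H) ≤ M := by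
    by_contra hnM₁
    obtain ⟨P₁, hP₁, hle⟩ := exists_sylIn_ge
      (P := R' ⊓ normalizer (P₀ : Set H)) (H := X ⊓ normalizer (wcl 𝒟 P₀ : Set H) ⊓ M)
      (hR'.isPGroup.to_le inf_le_left)
      (le_inf (le_inf (inf_le_left.trans (hR'.le.trans inf_le_left)) hWgrow)
        (inf_le_left.trans (hR'.le.trans inf_le_right)))
    have h1 := hmax P₁ ⟨P₀, hP₀'.isPGroup, hP₀XM,
      fun hle' => hbad' (hW1.trans hle'), hnM₁, hP₁⟩
    have h2 : Nat.card P₀ < Nat.card P₁ := Set.Finite.card_lt_card (Set.toFinite _)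
      (SetLike.coe_ssubset_coe.2 (hgrow.trans_le hle))
    omega
  -- `P₀` is a Sylow subgroup of `N`
  have hsyl : SylIn p P₀ N := by
    obtain ⟨P', hP', hle⟩ := exists_sylIn_ge hP₀'.isPGroup (hP₀'.le.trans inf_le_left)
    rcases hle.eq_or_lt with e | hlt'
    · exact e ▸ hP'
    exfalso
    have h1 := lt_inf_normalizer hP'.isPGroup hlt'
    refine h1.ne' (hP₀'.eq_of_le (hP'.isPGroup.to_le inf_le_left) (le_inf (inf_le_left.trans hP'.le) ?_)
      h1.le)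
    exact (le_inf (inf_le_left.trans (hP'.le.trans inf_le_left))
      (inf_le_right.trans (normalizer_le_normalizer_wcl h.closed _))).trans hN₁
  refine h.reduce inf_le_left hNne hnM' hsyl (hP₀'.le.trans inf_le_right) fun Y' hY' hPY' hY'M hle => ?_
  have h1 : opc p Y' ≤ P₀ := opc_le_sylIn (hsyl.of_le hPY' hY')
  have h2 : wcl 𝒟 (opc p Y') = wcl 𝒟 P₀ := le_antisymm (wcl_mono h1) (wcl_eq_of_le hle)
  refine hY'M (le_trans (le_inf (hY'.trans inf_le_left) ?_) hN₁)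
  rw [← h2]
  exact (le_normalizer_opc Y').trans (normalizer_le_normalizer_wcl h.closed _)

/-- Sylow subgroups meeting a Sylow subgroup in `M` in a bad subgroup lie in `M`. -/
theorem sylow_le_of_inter {P P' : Subgroup H} (hP : SylIn p P X) (hP' : SylIn p P' X) (hPM : P ≤ M)
    (hbad : ¬ wcl 𝒟 (P ⊓ P') ≤ opc p X) : P' ≤ M := by
  induction hn : Nat.card X - Nat.card ↥(P ⊓ P') using Nat.strong_induction_on generalizing P with
  | _ n ih =>
  rcases (inf_le_right : P ⊓ P' ≤ P').eq_or_lt with e | hlt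
  · exact e.ge.trans (inf_le_left.trans hPM)
  have hN := h.normalizer_le (hP.isPGroup.to_le inf_le_left)
    (le_inf (inf_le_left.trans hP.le) (inf_le_left.trans hPM)) hbad
  have hgrow := lt_inf_normalizer hP'.isPGroup hlt
  have hle : P' ⊓ normalizer ((P ⊓ P' : Subgroup H) : Set H) ≤ X ⊓ M :=
    le_inf (inf_le_left.trans hP'.le) (le_trans (le_inf (inf_le_left.trans hP'.le)
      (inf_le_right.trans (normalizer_le_normalizer_wcl h.closed _))) hN)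
  obtain ⟨P'', hP'', hle''⟩ := exists_sylIn_ge (hP'.isPGroup.to_le inf_le_left) hle
  have h1 : P ⊓ P' < P'' ⊓ P' := hgrow.trans_le (le_inf hle'' inf_le_left)
  have h2 : Nat.card ↥(P ⊓ P') < Nat.card ↥(P'' ⊓ P') :=
    Set.Finite.card_lt_card (Set.toFinite _) (SetLike.coe_ssubset_coe.2 h1)
  have h3 : Nat.card ↥(P'' ⊓ P') ≤ Nat.card X := Subgroup.card_le_of_le (inf_le_right.trans hP'.le)
  exact ih _ (by omega) (h.sylow_of_XM hP'') (hP''.le.trans inf_le_right)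
    (fun hle => hbad ((wcl_mono h1.le).trans hle)) rfl

/-- The members outside the core are TI with respect to `M`. -/
theorem ti {D : Subgroup H} (hD : D ∈ 𝒟) (hp : IsPGroup p D) (hDX : D ≤ X ⊓ M)
    (hbad : ¬ D ≤ opc p X) {g : H} (hg : g ∈ X) (hgD : cj g D ≤ M) : g ∈ M := by
  have hgDX : cj g D ≤ X ⊓ M :=
    le_inf ((cj_mono (hDX.trans inf_le_left)).trans (cj_of_mem hg).le) hgD
  obtain ⟨P₁, hP₁, hD₁⟩ := exists_sylIn_ge hp hDX
  obtain ⟨P₂, hP₂, hD₂⟩ := exists_sylIn_ge (hp.map _) hgDX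
  have hP₂' : SylIn p (cj g⁻¹ P₂) X := (h.sylow_of_XM hP₂).cj_mem (inv_mem hg)
  have hD₂' : D ≤ cj g⁻¹ P₂ := by rw [← cj_inv_cj g D]; exact cj_mono hD₂
  have hM2 : cj g⁻¹ P₂ ≤ M := h.sylow_le_of_inter (h.sylow_of_XM hP₁) hP₂'
    (hP₁.le.trans inf_le_right) fun hle => hbad ((le_wcl hD (le_inf hD₁ hD₂')).trans hle)
  obtain ⟨n, hn, he⟩ := hP₂.exists_conj (hP₂'.of_le (le_inf hP₂'.le hM2) inf_le_left)
  have h1 : g * n ∈ X ⊓ normalizer (wcl 𝒟 P₂ : Set H) := by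
    refine ⟨mul_mem hg hn.1, normalizer_le_normalizer_wcl h.closed _ (mem_normalizer_iff_cj.2 ?_)⟩
    rw [← cj_cj, he, cj_cj_inv]
  have hbad₂ : ¬ wcl 𝒟 P₂ ≤ opc p X := fun hle => hbad (by
    have h2 := cj_mono (g := g⁻¹) ((le_wcl (h.closed D hD g) hD₂).trans hle)
    rwa [cj_inv_cj, mem_normalizer_iff_cj.1 (le_normalizer_opc X (inv_mem hg))] at h2)
  have h3 := mul_mem (h.normalizer_le hP₂.isPGroup hP₂.le hbad₂ h1) (inv_mem hn.2)
  rwa [mul_inv_cancel_right] at h3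

/-- Proper subgroups containing a bad member lie in `M`. -/
theorem le_M_of_mem {D : Subgroup H} (hD : D ∈ 𝒟) (hp : IsPGroup p D) (hDX : D ≤ X ⊓ M)
    (hbad : ¬ D ≤ opc p X) {Y : Subgroup H} (hY : Y ≤ X) (hne : Y ≠ X) (hDY : D ≤ Y) : Y ≤ M := by
  by_contra hnM
  obtain ⟨P, hP, hDP⟩ := exists_sylIn_ge hp hDY
  obtain ⟨P', hP', hPP'⟩ := exists_sylIn_ge hP.isPGroup (hP.le.trans hY)
  obtain ⟨P₁, hP₁, hD₁⟩ := exists_sylIn_ge hp hDX
  have hP'M : P' ≤ M := h.sylow_le_of_inter (h.sylow_of_XM hP₁) hP' (hP₁.le.trans inf_le_right)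
    fun hle => hbad ((le_wcl hD (le_inf hD₁ (hDP.trans hPP'))).trans hle)
  refine h.reduce hY hne hnM hP (hPP'.trans hP'M) fun Y' hY' hPY' hY'M hle => hY'M fun g hg => ?_
  refine h.ti hD hp hDX hbad (hY (hY' hg)) ?_
  have h1 : D ≤ opc p Y' := (le_wcl hD hDP).trans hle
  refine le_trans ?_ ((opc_le_sylIn (hP.of_le hPY' hY')).trans (hPP'.trans hP'M))
  exact (cj_mono h1).trans (mem_normalizer_iff_cj.1 (le_normalizer_opc Y' hg)).le

end MinInst

end H80.LFF
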